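import Cfsg.Prelude.Def_PLocal
import Cfsg.Agent.Lib.PLocal.Replace
import Mathlib.GroupTheory.Nilpotent

/-!
# The Thompson subgroup of abelian subgroups of largest order and its replacement theorem
-/

set_option autoImplicit false

namespace CfsgLib.Complement

open Subgroup

universe u

variable {G : Type u} [Group G]

/-- The abelian subgroups of `U` of largest order. -/
def maxAbIn (U : Subgroup G) : Set (Subgroup G) :=
  {A | A ≤ U ∧ IsMulCommutative A ∧ ∀ B : Subgroup G, B ≤ U → IsMulCommutative B → Nat.card B ≤ Nat.card A}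

theorem isMulCommutative_map {H : Type*} [Group H] (f : G →* H) {A : Subgroup G}
    (hA : IsMulCommutative A) : IsMulCommutative (A.map f) := by
  refine ⟨⟨?_⟩⟩
  rintro ⟨_, a, ha, rfl⟩ ⟨_, b, hb, rfl⟩
  exact Subtype.ext (show f a * f b = f b * f a by
    rw [← map_mul, ← map_mul,
      show a * b = b * a from congrArg Subtype.val (hA.is_comm.comm (⟨a, ha⟩ : A) ⟨b, hb⟩)])

theorem isMulCommutative_comap {H : Type*} [Group H] {f : H →* G} (hf : Function.Injective f)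
    {A : Subgroup G} (hA : IsMulCommutative A) : IsMulCommutative (A.comap f) := by
  refine ⟨⟨fun a b => Subtype.ext (hf ?_)⟩⟩
  show f (a * b : H) = f (b * a : H)
  rw [map_mul, map_mul]
  exact congrArg Subtype.val (hA.is_comm.comm (⟨f a, a.2⟩ : A) ⟨f b, b.2⟩)

theorem maxAbIn_eq_image (U : Subgroup G) :
    maxAbIn U = (fun A : Subgroup U => A.map U.subtype) '' Cfsg.maxAbelianSubgroups U := by
  ext A
  constructor
  · rintro ⟨hAU, hA, hmax⟩
    refine ⟨A.comap U.subtype, ⟨isMulCommutative_comap U.subtype_injective hA, fun B hB => ?_⟩,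
      map_comap_eq_self (by rwa [range_subtype])⟩
    have := hmax (B.map U.subtype) (map_subtype_le B) (isMulCommutative_map _ hB)
    rwa [card_map_of_injective U.subtype_injective,
      ← Nat.card_congr (subgroupOfEquivOfLe hAU).toEquiv] at this
  · rintro ⟨A, ⟨hA, hmax⟩, rfl⟩
    refine ⟨map_subtype_le A, isMulCommutative_map _ hA, fun B hBU hB => ?_⟩
    have := hmax (B.comap U.subtype) (isMulCommutative_comap U.subtype_injective hB)
    rw [card_map_of_injective U.subtype_injective]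
    exact le_of_eq_of_le (Nat.card_congr (subgroupOfEquivOfLe hBU).toEquiv).symm this

theorem thompsonAOf_eq (U : Subgroup G) : Cfsg.thompsonSubgroupAOf U = sSup (maxAbIn U) := by
  unfold Cfsg.thompsonSubgroupAOf Cfsg.thompsonSubgroupA
  rw [maxAbIn_eq_image, sSup_image, (gc_map_comap U.subtype).l_sSup]

theorem exists_maxAbIn [Finite G] (U : Subgroup G) : (maxAbIn U).Nonempty := by
  classical
  obtain ⟨A, hA, hmax⟩ := Set.exists_max_image
    {A : Subgroup G | A ≤ U ∧ IsMulCommutative A} (fun A => Nat.card A)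
    (Set.toFinite _) ⟨⊥, bot_le, inferInstance⟩
  exact ⟨A, hA.1, hA.2, fun B hBU hB => hmax B ⟨hBU, hB⟩⟩

theorem thompsonAOf_le (U : Subgroup G) : Cfsg.thompsonSubgroupAOf U ≤ U := map_subtype_le _

theorem le_thompsonAOf {U A : Subgroup G} (hA : A ∈ maxAbIn U) : A ≤ Cfsg.thompsonSubgroupAOf U := by
  rw [thompsonAOf_eq]; exact le_sSup hA

theorem maxAbIn_of_le {U W : Subgroup G} (hUW : U ≤ W) {A₀ : Subgroup G}
    (hA₀ : A₀ ∈ maxAbIn W) (h₀ : A₀ ≤ U) {A : Subgroup G} :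
    A ∈ maxAbIn U ↔ A ∈ maxAbIn W ∧ A ≤ U := by
  constructor
  · rintro ⟨hAU, hA, hmax⟩
    exact ⟨⟨hAU.trans hUW, hA, fun B hBW hB => (hA₀.2.2 B hBW hB).trans (hmax A₀ h₀ hA₀.2.1)⟩, hAU⟩
  · rintro ⟨⟨_, hA, hmax⟩, hAU⟩
    exact ⟨hAU, hA, fun B hBU hB => hmax B (hBU.trans hUW) hB⟩

theorem thompsonAOf_eq_of_le [Finite G] {U W : Subgroup G}
    (h : Cfsg.thompsonSubgroupAOf W ≤ U) (hUW : U ≤ W) :
    Cfsg.thompsonSubgroupAOf U = Cfsg.thompsonSubgroupAOf W := by
  obtain ⟨A₀, hA₀⟩ := exists_maxAbIn W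
  have h₀ : A₀ ≤ U := (le_thompsonAOf hA₀).trans h
  rw [thompsonAOf_eq, thompsonAOf_eq]
  congr 1
  ext A
  rw [maxAbIn_of_le hUW hA₀ h₀]
  exact ⟨And.left, fun hA => ⟨hA, (le_thompsonAOf hA).trans h⟩⟩

theorem mem_maxAbIn_of_centralizes [Finite G] {U A : Subgroup G} (hA : A ∈ maxAbIn U) {x : G}
    (hxU : x ∈ U) (hc : x ∈ centralizer (A : Set G)) : x ∈ A := by
  have hA' := le_centralizer_iff_isMulCommutative.mpr hA.2.1
  have hAx : IsMulCommutative ↥(A ⊔ zpowers x) := by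
    rw [← le_centralizer_iff_isMulCommutative]
    have h1 : zpowers x ≤ centralizer (A : Set G) := zpowers_le.2 hc
    refine sup_le ?_ ?_
    · rw [le_centralizer_iff]
      exact sup_le hA' h1
    · rw [le_centralizer_iff]
      exact sup_le (le_centralizer_iff.1 h1) (le_centralizer_iff_isMulCommutative.mpr inferInstance)
  have hcard := hA.2.2 _ (sup_le hA.1 (zpowers_le.2 hxU)) hAx
  have heq : A = A ⊔ zpowers x := eq_of_le_of_card_ge le_sup_left hcard
  rw [heq]
  exact (le_sup_right : zpowers x ≤ A ⊔ zpowers x) (mem_zpowers x)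

theorem thompsonA_map_equiv {H : Type u} [Group H] (e : G ≃* H) :
    (Cfsg.thompsonSubgroupA G).map e.toMonoidHom = Cfsg.thompsonSubgroupA H := by
  have key : ∀ {X Y : Type u} [Group X] [Group Y] (f : X ≃* Y), ∀ A ∈ Cfsg.maxAbelianSubgroups X,
      A.map f.toMonoidHom ∈ Cfsg.maxAbelianSubgroups Y := by
    intro X Y _ _ f A hA
    refine ⟨isMulCommutative_map _ hA.1, fun B hB => ?_⟩
    have := hA.2 (B.map f.symm.toMonoidHom) (isMulCommutative_map _ hB)
    rw [card_map_of_injective f.injective]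
    rwa [card_map_of_injective f.symm.injective] at this
  unfold Cfsg.thompsonSubgroupA
  refine le_antisymm ?_ (sSup_le fun B hB x hx => ⟨e.symm x,
    le_sSup (key e.symm B hB) (mem_map_of_mem _ hx), e.apply_symm_apply x⟩)
  rw [map_le_iff_le_comap]
  exact sSup_le fun A hA => map_le_iff_le_comap.1 (le_sSup (key e A hA))

theorem thompsonAOf_map {H : Type u} [Group H] (f : G →* H) {S : Subgroup G}
    (hf : Set.InjOn f (S : Set G)) :
    (Cfsg.thompsonSubgroupAOf S).map f = Cfsg.thompsonSubgroupAOf (S.map f) := by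
  let e : S ≃* S.map f := MulEquiv.ofBijective (f.subgroupMap S)
    ⟨fun a b h => Subtype.ext (hf a.2 b.2 (congrArg Subtype.val h)), f.subgroupMap_surjective S⟩
  unfold Cfsg.thompsonSubgroupAOf
  rw [← thompsonA_map_equiv e, map_map, map_map]
  rfl

theorem normalizer_le_normalizer_thompsonAOf (U : Subgroup G) :
    normalizer (U : Set G) ≤ normalizer (Cfsg.thompsonSubgroupAOf U : Set G) := by
  intro g hg
  rw [mem_normalizer_iff_map_conj_eq] at hg ⊢
  rw [thompsonAOf_map _ (fun a _ b _ h => (MulAut.conj g).injective h), hg]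

theorem thompsonAOf_ne_bot [Finite G] {S : Subgroup G} (h1 : S ≠ ⊥) :
    Cfsg.thompsonSubgroupAOf S ≠ ⊥ := by
  obtain ⟨A, hA⟩ := exists_maxAbIn S
  intro hbot
  have hA1 : A = ⊥ := le_bot_iff.1 (hbot ▸ le_thompsonAOf hA)
  obtain ⟨x, hx, hx1⟩ := (SetLike.exists_of_lt (bot_lt_iff_ne_bot.mpr h1))
  have h := hA.2.2 (zpowers x) (zpowers_le.2 hx) inferInstance
  rw [hA1, card_bot, Nat.card_zpowers] at h
  have := orderOf_pos x
  exact hx1 (mem_bot.mpr (orderOf_eq_one_iff.mp (by omega)))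

/-- Glauberman's lemma: in the situation of the replacement theorem the commutators `[a, x]`
commute with each other. -/
theorem commutators_commute_of_pGroup {A B : Subgroup G} (hA : IsMulCommutative A)
    (hAB : A ≤ Subgroup.normalizer (B : Set G))
    (hB2 : ∀ x ∈ B, ∀ y ∈ B, ∀ z ∈ B, Commute z (x * y * x⁻¹ * y⁻¹))
    (hBA : ∀ x ∈ B, ∀ y ∈ B, ∀ a ∈ A, Commute a (x * y * x⁻¹ * y⁻¹))
    {p : ℕ} [Fact p.Prime] (hB : IsPGroup p B)
    (hp : Odd p ∨ ∀ s ∈ B, ∀ t ∈ B, s * t = t * s)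
    {x : G} (hx : x ∈ B) (hN : ∀ a ∈ A, a * x * a⁻¹ * x⁻¹ ∈ Subgroup.normalizer (A : Set G)) :
    (∀ d ∈ A, d ∈ B → ∀ a ∈ A, Commute d (a * x * a⁻¹ * x⁻¹)) ∧
      ∀ a ∈ A, ∀ b ∈ A, Commute (a * x * a⁻¹ * x⁻¹) (b * x * b⁻¹ * x⁻¹) := by
  have hcA : ∀ a ∈ A, ∀ b ∈ A, a * b = b * a := fun a ha b hb =>
    congrArg Subtype.val (hA.is_comm.comm (⟨a, ha⟩ : A) ⟨b, hb⟩)
  let u : G → G := fun a => a * x * a⁻¹ * x⁻¹
  let β : G → G → G := fun s t => s * t * s⁻¹ * t⁻¹
  have hu : ∀ a ∈ A, u a ∈ B := fun a ha =>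
    B.mul_mem ((Subgroup.mem_normalizer_iff.mp (hAB ha) x).mp hx) (B.inv_mem hx)
  have hconjB : ∀ a ∈ A, ∀ s ∈ B, a * s * a⁻¹ ∈ B := fun a ha s hs =>
    (Subgroup.mem_normalizer_iff.mp (hAB ha) s).mp hs
  have hβB : ∀ s ∈ B, ∀ t ∈ B, β s t ∈ B := fun s hs t ht =>
    B.mul_mem (B.mul_mem (B.mul_mem hs ht) (B.inv_mem hs)) (B.inv_mem ht)
  have hβl : ∀ r ∈ B, ∀ s ∈ B, ∀ t ∈ B, β (r * s) t = β r t * β s t := by
    intro r hr s hs t ht
    have e : β (r * s) t = r * β s t * r⁻¹ * β r t := by simp only [β]; group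
    rw [e, (hB2 s hs t ht r hr).eq, mul_inv_cancel_right]
    exact (hB2 r hr t ht _ (hβB s hs t ht)).eq
  have hβr : ∀ r ∈ B, ∀ s ∈ B, ∀ t ∈ B, β r (s * t) = β r s * β r t := by
    intro r hr s hs t ht
    have e : β r (s * t) = β r s * (s * β r t * s⁻¹) := by simp only [β]; group
    rw [e, (hB2 r hr t ht s hs).eq, mul_inv_cancel_right]
  have hβinv : ∀ a ∈ A, ∀ s ∈ B, ∀ t ∈ B, β (a * s * a⁻¹) (a * t * a⁻¹) = β s t := by
    intro a ha s hs t ht
    have e : β (a * s * a⁻¹) (a * t * a⁻¹) = a * β s t * a⁻¹ := by simp only [β]; group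
    rw [e, (hBA s hs t ht a ha).eq, mul_inv_cancel_right]
  have hd : ∀ d ∈ A, d ∈ B → ∀ a ∈ A, β d (u a) = 1 := by
    intro d hd hdB a ha
    have h1 : a * d * a⁻¹ = d := by rw [hcA a ha d hd, mul_inv_cancel_right]
    have h2 := hβinv a ha d hdB x hx
    rw [h1, show a * x * a⁻¹ = u a * x by simp only [u]; group, hβr d hdB _ (hu a ha) x hx] at h2
    exact mul_eq_right.mp h2
  have hdc : ∀ d ∈ A, d ∈ B → ∀ a ∈ A, Commute d (u a) := fun d h1 h2 a ha =>
    mul_inv_eq_iff_eq_mul.mp (mul_inv_eq_one.mp (hd d h1 h2 a ha))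
  refine ⟨hdc, ?_⟩
  let lam : G → G := fun a => β x (u a)
  let f : G → G → G := fun a b => β (u a) (u b)
  have hlamB : ∀ a ∈ A, lam a ∈ B := fun a ha => hβB x hx _ (hu a ha)
  have hcomm : ∀ s ∈ B, ∀ t ∈ B, ∀ z ∈ B, Commute (β s t) z := fun s hs t ht z hz => (hB2 s hs t ht z hz).symm
  -- (3)
  have h3 : ∀ a ∈ A, ∀ b ∈ A, lam (a⁻¹ * b) = f a b * (lam b * (lam a)⁻¹) := by
    intro a ha b hb
    have hab : a⁻¹ * b ∈ A := A.mul_mem (A.inv_mem ha) hb
    have h := hβinv a ha x hx (u (a⁻¹ * b) * x) (B.mul_mem (hu _ hab) hx)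
    rw [show a * (u (a⁻¹ * b) * x) * a⁻¹ = u b * x by simp only [u]; group,
      show a * x * a⁻¹ = u a * x by simp only [u]; group, hβl _ (hu a ha) x hx _ (B.mul_mem (hu b hb) hx),
      hβr _ (hu a ha) _ (hu b hb) x hx, hβr x hx _ (hu b hb) x hx, hβr x hx _ (hu _ hab) x hx,
      show β x x = 1 by simp [β], mul_one, mul_one] at h
    show lam (a⁻¹ * b) = _
    rw [show lam (a⁻¹ * b) = β x (u (a⁻¹ * b)) from rfl, ← h]
    show β (u a) (u b) * β (u a) x * β x (u b) = f a b * (β x (u b) * (β x (u a))⁻¹)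
    rw [show (β x (u a))⁻¹ = β (u a) x by simp only [β]; group, mul_assoc,
      (hcomm _ (hu a ha) x hx _ (hβB x hx _ (hu b hb))).eq]
  -- (4)
  have h4 : ∀ a ∈ A, lam a⁻¹ = (lam a)⁻¹ := by
    intro a ha
    have := h3 a ha 1 A.one_mem
    simpa [lam, f, u, β] using this
  -- (2)
  have h2 : ∀ a ∈ A, ∀ b ∈ A, f a⁻¹ b = (f a b)⁻¹ := by
    intro a ha b hb
    let d := a⁻¹ * (u a)⁻¹ * a * u a
    have hdA : d ∈ A := by
      have : (u a)⁻¹ * a * u a ∈ A := by
        have := (Subgroup.mem_normalizer_iff''.mp (hN a ha) a).mp ha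
        exact this
      simpa [d, mul_assoc] using A.mul_mem (A.inv_mem ha) this
    have hdB : d ∈ B := by
      refine B.mul_mem ?_ (hu a ha)
      have := hconjB a⁻¹ (A.inv_mem ha) _ (B.inv_mem (hu a ha))
      simpa using this
    have e : u a⁻¹ = d * (u a)⁻¹ := by simp only [d, u]; group
    show β (u a⁻¹) (u b) = _
    rw [e, hβl d hdB _ (B.inv_mem (hu a ha)) _ (hu b hb), hd d hdA hdB b hb, one_mul]
    have := hβl _ (B.inv_mem (hu a ha)) _ (hu a ha) _ (hu b hb)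
    rw [inv_mul_cancel, show β 1 (u b) = 1 by simp [β]] at this
    exact eq_inv_of_mul_eq_one_left this.symm
  have hsym : ∀ a ∈ A, ∀ b ∈ A, f a⁻¹ b = lam (a * b) * ((lam b * lam a)⁻¹) := by
    intro a ha b hb
    have := h3 a⁻¹ (A.inv_mem ha) b hb
    rw [inv_inv, h4 a ha, inv_inv] at this
    rw [this, mul_inv_cancel_right]
  intro a ha b hb
  have h5 : f a b = f b a := by
    apply inv_injective
    rw [← h2 a ha b hb, ← h2 b hb a ha, hsym a ha b hb, hsym b hb a ha, hcA a ha b hb,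
      (hcomm x hx _ (hu b hb) _ (hlamB a ha)).eq]
  have h6 : f b a = (f a b)⁻¹ := by simp only [f, β]; group
  have h7 : f a b ^ 2 = 1 := by
    rw [pow_two]; exact mul_eq_one_iff_eq_inv.mpr (h5.trans h6)
  have h8 : f a b = 1 := by
    rcases hp with hp | hp
    · obtain ⟨k, hk⟩ := IsPGroup.iff_orderOf.mp hB ⟨f a b, hβB _ (hu a ha) _ (hu b hb)⟩
      rw [Subgroup.orderOf_mk] at hk
      have h2 := orderOf_dvd_of_pow_eq_one h7
      rw [hk] at h2
      exact orderOf_eq_one_iff.mp (hk.trans (Nat.eq_one_of_dvd_coprimes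
        ((Nat.coprime_two_left.mpr hp).symm.pow_left k) dvd_rfl h2))
    · show u a * u b * (u a)⁻¹ * (u b)⁻¹ = 1
      rw [hp _ (hu a ha) _ (hu b hb)]
      group
  exact mul_inv_eq_iff_eq_mul.mp (mul_inv_eq_one.mp h8)

/-- Replacement theorem: if `B` does not normalize `A`, another abelian subgroup of
largest order normalizes `A` and meets `B` in more. -/
theorem abelian_replacement [Finite G] {p : ℕ} [Fact p.Prime] {S A B : Subgroup G}
    (hS : IsPGroup p S) (hp : Odd p ∨ ∀ s ∈ B, ∀ t ∈ B, s * t = t * s)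
    (hA : A ∈ maxAbIn S) (hBS : B ≤ S)
    (hBn : S ≤ Subgroup.normalizer (B : Set G))
    (hB2 : ∀ x ∈ B, ∀ y ∈ B, ∀ z ∈ B, Commute z (x * y * x⁻¹ * y⁻¹))
    (hBA : ∀ x ∈ B, ∀ y ∈ B, ∀ a ∈ A, Commute a (x * y * x⁻¹ * y⁻¹))
    (hne : ¬ B ≤ Subgroup.normalizer (A : Set G)) :
    ∃ A' ∈ maxAbIn S, A' ≤ Subgroup.normalizer (A : Set G) ∧
      Nat.card ↥(A ⊓ B) < Nat.card ↥(A' ⊓ B) := by
  classical
  have hAc : IsMulCommutative A := hA.2.1
  -- choice of `x`
  have hnil : Group.IsNilpotent S := hS.isNilpotent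
  have hex : ∃ i, ∀ s ∈ S.lowerCentralSeries i, s ∈ B → s ∈ Subgroup.normalizer (A : Set G) := by
    obtain ⟨n, hn⟩ := (Subgroup.isNilpotent_iff_lowerCentralSeries S).mp hnil
    exact ⟨n, fun s hs _ => by rw [hn, Subgroup.mem_bot] at hs; rw [hs]; exact Subgroup.one_mem _⟩
  obtain ⟨i, hi⟩ : ∃ i, Nat.find hex = i + 1 := by
    refine Nat.exists_eq_succ_of_ne_zero fun h0 => hne fun b hb => ?_
    have := Nat.find_spec hex
    rw [h0] at this
    exact this b (hBS hb) hb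
  have hmin := Nat.find_min hex (show i < Nat.find hex by omega)
  simp only [not_forall] at hmin
  obtain ⟨x, hxi, hxB, hxN⟩ := hmin
  have hnext := Nat.find_spec hex
  rw [hi] at hnext
  have hAB : A ≤ Subgroup.normalizer (B : Set G) := hA.1.trans hBn
  let u : G → G := fun a => a * x * a⁻¹ * x⁻¹
  have huB : ∀ a ∈ A, u a ∈ B := fun a ha =>
    B.mul_mem ((Subgroup.mem_normalizer_iff.mp (hAB ha) x).mp hxB) (B.inv_mem hxB)
  have huN : ∀ a ∈ A, u a ∈ Subgroup.normalizer (A : Set G) := by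
    intro a ha
    have hm : u a ∈ S.lowerCentralSeries (i + 1) := by
      have := Subgroup.inv_mem _ (Subgroup.commutator_mem_commutator hxi (hA.1 ha))
      rw [commutatorElement_inv, ← Subgroup.lowerCentralSeries_succ] at this
      exact this
    exact hnext _ hm (huB a ha)
  obtain ⟨hd, huu⟩ := commutators_commute_of_pGroup hAc hAB hB2 hBA (hS.to_le hBS) hp hxB huN
  set M := Subgroup.closure {g | ∃ a ∈ A, g = u a} with hM
  have hMB : M ≤ B := (Subgroup.closure_le B).mpr (by rintro _ ⟨a, ha, rfl⟩; exact huB a ha)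
  have hMN : M ≤ Subgroup.normalizer (A : Set G) :=
    (Subgroup.closure_le _).mpr (by rintro _ ⟨a, ha, rfl⟩; exact huN a ha)
  have hMc : M ≤ Subgroup.centralizer (M : Set G) := by
    rw [hM, Subgroup.centralizer_closure, Subgroup.closure_le]
    rintro _ ⟨a, ha, rfl⟩ _ ⟨b, hb, rfl⟩
    exact (huu a ha b hb).symm.eq
  set C := A ⊓ Subgroup.centralizer (M : Set G)
  have hCA : C ≤ A := inf_le_left
  have hel : IsMulCommutative ↥(M ⊔ C) := by
    rw [← Subgroup.le_centralizer_iff_isMulCommutative] at hAc ⊢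
    have hMC : M ≤ Subgroup.centralizer (C : Set G) := Subgroup.le_centralizer_iff.mp inf_le_right
    refine sup_le ?_ ?_
    · rw [Subgroup.le_centralizer_iff]
      exact sup_le hMc inf_le_right
    · rw [Subgroup.le_centralizer_iff]
      exact sup_le hMC (hCA.trans (hAc.trans (Subgroup.centralizer_le hCA)))
  have hMS : M ≤ S := hMB.trans hBS
  -- counting
  have hfib : Nat.card A * Nat.card ↥(M ⊓ A) ≤ Nat.card M * Nat.card C := by
    have key : ∀ a ∈ A, ∀ b ∈ A, (u a)⁻¹ * u b ∈ A → a⁻¹ * b ∈ C := by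
      intro a ha b hb h
      have he : a⁻¹ * b ∈ A := A.mul_mem (A.inv_mem ha) hb
      set e := a⁻¹ * b with he'
      have h1 : u b * (u a)⁻¹ ∈ A := by
        have := (Subgroup.mem_normalizer_iff.mp (huN a ha) _).mp h
        simpa [mul_assoc] using this
      have hue : u e ∈ A := by
        have h2 : u e = a⁻¹ * (u b * (u a)⁻¹) * a := by simp only [u, he']; group
        rw [h2]
        exact A.mul_mem (A.mul_mem (A.inv_mem ha) h1) ha
      refine ⟨he, ?_⟩
      rw [hM, Subgroup.centralizer_closure]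
      refine Subgroup.mem_centralizer_iff.mpr ?_
      rintro _ ⟨c, hc, rfl⟩
      have hce : e * c = c * e := congrArg Subtype.val (hAc.is_comm.comm (⟨e, he⟩ : A) ⟨c, hc⟩)
      have hcu : c * u e = u e * c := congrArg Subtype.val (hAc.is_comm.comm (⟨c, hc⟩ : A) ⟨u e, hue⟩)
      have e1 : e * u c * e⁻¹ = u e * u c * (u e)⁻¹ := by
        calc e * u c * e⁻¹ = (e * c) * x * c⁻¹ * x⁻¹ * e⁻¹ := by simp only [u]; group
          _ = c * e * x * c⁻¹ * x⁻¹ * e⁻¹ := by rw [hce]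
          _ = c * e * x * e⁻¹ * (e * c * e⁻¹)⁻¹ * (e * x⁻¹ * e⁻¹) := by group
          _ = c * e * x * e⁻¹ * c⁻¹ * (e * x⁻¹ * e⁻¹) := by rw [hce, mul_inv_cancel_right]
          _ = c * e * x * (c * e)⁻¹ * (e * x * e⁻¹)⁻¹ := by group
          _ = (c * u e) * x * c⁻¹ * x⁻¹ * (u e)⁻¹ := by simp only [u]; group
          _ = u e * u c * (u e)⁻¹ := by rw [hcu]; simp only [u]; group
      rw [(huu e he c hc).eq, mul_inv_cancel_right] at e1
      exact (mul_inv_eq_iff_eq_mul.mp e1).symm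
    let F : A → M ⧸ (M ⊓ A).subgroupOf M := fun a =>
      QuotientGroup.mk ⟨u a, Subgroup.subset_closure ⟨a, a.2, rfl⟩⟩
    let H : A ⧸ C.subgroupOf A → M ⧸ (M ⊓ A).subgroupOf M := fun q => F q.out
    have hH : Function.Injective H := by
      intro q r hqr
      have := QuotientGroup.eq.mp hqr
      rw [Subgroup.mem_subgroupOf] at this
      have h2 := key _ q.out.2 _ r.out.2 this.2
      rw [← QuotientGroup.out_eq' q, ← QuotientGroup.out_eq' r, QuotientGroup.eq, Subgroup.mem_subgroupOf]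
      exact h2
    have h1 := Nat.card_le_card_of_injective H hH
    rw [Subgroup.card_eq_card_quotient_mul_card_subgroup (C.subgroupOf A),
      Subgroup.card_eq_card_quotient_mul_card_subgroup ((M ⊓ A).subgroupOf M),
      Nat.card_congr (Subgroup.subgroupOfEquivOfLe hCA).toEquiv,
      Nat.card_congr (Subgroup.subgroupOfEquivOfLe (inf_le_left : M ⊓ A ≤ M)).toEquiv,
      mul_right_comm _ (Nat.card C)]
    calc _ ≤ Nat.card (M ⧸ (M ⊓ A).subgroupOf M) * Nat.card ↥(M ⊓ A) * Nat.card C := by gcongr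
      _ = _ := rfl
  have hcard : Nat.card A ≤ Nat.card ↥(M ⊔ C) := by
    have h1 := CfsgLib.PLocal.card_mul_le_card_sup_mul_inf M C
    have h2 : Nat.card ↥(M ⊓ C) ≤ Nat.card ↥(M ⊓ A) :=
      Subgroup.card_le_of_le (inf_le_inf_left M hCA)
    exact Nat.le_of_mul_le_mul_right (hfib.trans (h1.trans (Nat.mul_le_mul le_rfl h2))) Nat.card_pos
  refine ⟨M ⊔ C, ⟨sup_le hMS (hCA.trans hA.1), hel, fun E hE hEe => (hA.2.2 E hE hEe).trans hcard⟩,
    sup_le hMN (hCA.trans Subgroup.le_normalizer), ?_⟩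
  have hle : A ⊓ B ≤ (M ⊔ C) ⊓ B := by
    refine le_inf (fun g hg => Subgroup.mem_sup_right ⟨hg.1, ?_⟩) inf_le_right
    rw [hM, Subgroup.centralizer_closure]
    refine Subgroup.mem_centralizer_iff.mpr ?_
    rintro _ ⟨a, ha, rfl⟩
    exact (hd g hg.1 hg.2 a ha).symm.eq
  refine lt_of_le_of_ne (Subgroup.card_le_of_le hle) fun heq => hxN ?_
  have heq' := Subgroup.eq_of_le_of_card_ge hle heq.ge
  have huA : ∀ a ∈ A, u a ∈ A := fun a ha =>
    (heq' ▸ ⟨Subgroup.mem_sup_left (Subgroup.subset_closure ⟨a, ha, rfl⟩), huB a ha⟩ : u a ∈ A ⊓ B).1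
  have hfwd : ∀ y ∈ A, x * y * x⁻¹ ∈ A := fun y hy => by
    have h := A.mul_mem hy (huA y⁻¹ (A.inv_mem hy))
    simpa [u, mul_assoc] using h
  exact Subgroup.mem_normalizer_iff_map_conj_eq.mpr (Subgroup.eq_of_le_of_card_ge
    (by rintro _ ⟨y, hy, rfl⟩; exact hfwd y hy)
    (le_of_eq (Subgroup.card_map_of_injective (MulAut.conj x).injective).symm))

end CfsgLib.Complement
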