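import Cfsg.Agent.Lib.Complement.Fpf
import Cfsg.Agent.Lib.Solvable.Nilpotent
import Cfsg.Agent.Lib.OddLocal.FittingHall

/-!
# Thompson's theorem: a fixed-point-free automorphism of prime order forces nilpotence
-/

set_option autoImplicit false

namespace CfsgLib.Complement

open Subgroup

universe u

theorem hasNormalPComplement_of_isNilpotent {p : ℕ} [Fact p.Prime] {G : Type u} [Group G] [Finite G]
    (h : Group.IsNilpotent G) : Cfsg.HasNormalPComplement p G := by
  refine Transfer.hasNormalPComplement_iff_frobenius.2 fun D hD g _ hg => ?_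
  rw [mem_centralizer_iff]
  intro d hd
  obtain ⟨k, hk⟩ := IsPGroup.iff_orderOf.mp hD ⟨d, hd⟩
  rw [Subgroup.orderOf_mk] at hk
  exact (OddLocal.commute_of_coprime_of_isNilpotent h (by rw [hk]; exact (hg.symm).pow_left k)).eq

variable {G : Type u} [Group G] [Finite G]

/-- The restriction of an automorphism to an invariant subgroup. -/
noncomputable def restrictAut (φ : MulAut G) (N : Subgroup G) (h : ∀ x ∈ N, φ x ∈ N) : MulAut N :=
  MulEquiv.ofBijective ((φ.toMonoidHom.comp N.subtype).codRestrict N fun x => h x x.2)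
    (Finite.injective_iff_bijective.mp fun _ _ e => Subtype.ext (φ.injective (congrArg Subtype.val e)))

theorem restrictAut_apply (φ : MulAut G) (N : Subgroup G) (h : ∀ x ∈ N, φ x ∈ N) (x : N) :
    (restrictAut φ N h x : G) = φ x := rfl

theorem restrictAut_pow (φ : MulAut G) (N : Subgroup G) (h : ∀ x ∈ N, φ x ∈ N) (n : ℕ) (x : N) :
    ((restrictAut φ N h ^ n) x : G) = (φ ^ n) x := by
  induction n generalizing x with
  | zero => rfl
  | succ n ih => rw [pow_succ, pow_succ, MulAut.mul_apply, MulAut.mul_apply, ih, restrictAut_apply]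

theorem map_eq_of_invariant (φ : MulAut G) (N : Subgroup G) (h : ∀ x ∈ N, φ x ∈ N) :
    N.map φ.toMonoidHom = N :=
  eq_of_le_of_card_ge (by rintro _ ⟨x, hx, rfl⟩; exact h x hx)
    (card_map_of_injective φ.injective).ge

theorem exists_invariant_sylow_of_fpf (φ : MulAut G) (hφ : ∀ x, φ x = x → x = 1) (q : ℕ)
    [Fact q.Prime] : ∃ Q : Sylow q G, ∀ x ∈ Q, φ x ∈ Q := by
  obtain ⟨P⟩ := (inferInstance : Nonempty (Sylow q G))
  let R : Sylow q G := P.mapSurjective (f := φ.toMonoidHom) φ.surjective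
  obtain ⟨g, hg⟩ := MulAction.exists_smul_eq G P R
  have hinj : Function.Injective fun x : G => x⁻¹ * φ x := by
    intro a b e
    simp only at e
    refine (mul_inv_eq_one.mp (hφ _ ?_)).symm
    rw [map_mul, map_inv, mul_inv_eq_iff_eq_mul]
    calc φ b = b * (b⁻¹ * φ b) := by group
      _ = _ := by rw [← e]; group
  obtain ⟨x, hx⟩ := (Finite.injective_iff_surjective.mp hinj) g⁻¹
  simp only at hx
  have hφx : φ x = x * g⁻¹ := by rw [← hx]; group
  refine ⟨x • P, fun y hy => ?_⟩
  rw [← SetLike.mem_coe, Sylow.coe_smul, Set.mem_smul_set] at hy ⊢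
  obtain ⟨w, hw, rfl⟩ := hy
  have hw' : φ w ∈ (R : Subgroup G) := ⟨w, hw, rfl⟩
  rw [← hg, Sylow.coe_subgroup_smul, mem_pointwise_smul_iff_inv_smul_mem] at hw'
  refine ⟨g⁻¹ * φ w * g, (show g⁻¹ * φ w * g ∈ (P : Subgroup G) by simpa using hw'), ?_⟩
  simp only [MulAut.smul_def, MulAut.conj_apply, map_mul, map_inv, hφx]
  group

theorem inf_centralizer_invariant (φ : MulAut G) {A : Subgroup G} (hA : ∀ x ∈ A, φ x ∈ A)
    {x : G} (hx : x ∈ centralizer (A : Set G)) : φ x ∈ centralizer (A : Set G) := by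
  rw [mem_centralizer_iff] at hx ⊢
  intro y hy
  obtain ⟨z, hz, rfl⟩ := (map_eq_of_invariant φ A hA).ge hy
  show φ z * φ x = φ x * φ z
  rw [← map_mul, ← map_mul, hx z hz]

/-- The step with an invariant abelian normal subgroup. -/
theorem isNilpotent_of_invariant_abelian {r : ℕ} (hr : r.Prime) (φ : MulAut G) (hφr : φ ^ r = 1)
    (hφ : ∀ x, φ x = x → x = 1) (V₀ : Subgroup G) (hV₀ : V₀.Normal) (hV₀1 : V₀ ≠ ⊥)
    (hV₀c : IsMulCommutative V₀) (hV₀i : ∀ x ∈ V₀, φ x ∈ V₀)
    (hquot : ∀ V : Subgroup G, [V.Normal] → V ≠ ⊥ → (∀ x ∈ V, φ x ∈ V) → Group.IsNilpotent (G ⧸ V)) :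
    Group.IsNilpotent G := by
  classical
  obtain ⟨V, ⟨hVn, hV1, hVc, hVi⟩, hVmin⟩ := Set.exists_min_image
    {V : Subgroup G | V.Normal ∧ V ≠ ⊥ ∧ IsMulCommutative V ∧ ∀ x ∈ V, φ x ∈ V}
    (fun V => Nat.card V) (Set.toFinite _) ⟨V₀, hV₀, hV₀1, hV₀c, hV₀i⟩
  have hsub : ∀ W : Subgroup G, W.Normal → W ≤ V → (∀ x ∈ W, φ x ∈ W) → W ≠ ⊥ → W = V :=
    fun W hWn hWV hWi hW1 => eq_of_le_of_card_ge hWV (hVmin W ⟨hWn, hW1,
      le_centralizer_iff_isMulCommutative.1 (hWV.trans ((le_centralizer_iff_isMulCommutative.2 hVc).trans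
        (centralizer_le hWV))), hWi⟩)
  -- `V` has prime exponent
  obtain ⟨p, hp, hpd⟩ := Nat.exists_prime_and_dvd (fun h => hV1 (card_eq_one.mp h))
  have : Fact p.Prime := ⟨hp⟩
  let W : Subgroup G :=
    { carrier := {v | v ∈ V ∧ v ^ p = 1}
      one_mem' := ⟨V.one_mem, one_pow p⟩
      inv_mem' := fun {x} hx => ⟨V.inv_mem hx.1, by rw [inv_pow, hx.2, inv_one]⟩
      mul_mem' := fun {x y} hx hy => ⟨V.mul_mem hx.1 hy.1, by
        rw [(show Commute x y from congrArg Subtype.val
          (hVc.is_comm.comm (⟨x, hx.1⟩ : V) ⟨y, hy.1⟩)).mul_pow, hx.2, hy.2, one_mul]⟩ }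
  have hWV : W = V := hsub W ⟨fun x hx g => ⟨hVn.conj_mem x hx.1 g, by rw [conj_pow, hx.2]; group⟩⟩
    (fun x hx => hx.1) (fun x hx => ⟨hVi x hx.1, by rw [← map_pow, hx.2, map_one]⟩) (by
      obtain ⟨v, hv⟩ := exists_prime_orderOf_dvd_card' p hpd
      intro h
      have hm : (v : G) ∈ W := ⟨v.2, by
        rw [← SubmonoidClass.coe_pow, ← hv, pow_orderOf_eq_one, OneMemClass.coe_one]⟩
      rw [h, mem_bot, OneMemClass.coe_eq_one] at hm
      rw [hm, orderOf_one] at hv
      exact hp.ne_one hv.symm)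
  have hVp : IsPGroup p V := fun v => ⟨1, Subtype.ext (by
    rw [pow_one, SubmonoidClass.coe_pow]; exact (hWV.ge v.2).2)⟩
  obtain ⟨P, hP⟩ := exists_invariant_sylow_of_fpf φ hφ p
  have hVP : V ≤ (P : Subgroup G) := Solvable.normal_pgroup_le_sylow hVp P
  have := P.2.isNilpotent
  have hne : V.subgroupOf (P : Subgroup G) ≠ ⊥ := fun h => hV1 (by
    have := subgroupOf_eq_bot.mp h
    exact le_bot_iff.mp ((le_inf le_rfl hVP).trans this.eq_bot.le))
  obtain ⟨⟨z, hzP⟩, ⟨hzV, hzc⟩, hz1⟩ := SetLike.exists_of_lt (bot_lt_iff_ne_bot.mpr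
    (Solvable.normal_inf_center_ne_bot (V.subgroupOf (P : Subgroup G)) hne))
  have hcent : z ∈ center G := by
    have hle : ∀ q : ℕ, ∀ [Fact q.Prime], ∃ Q : Sylow q G, (Q : Subgroup G) ≤ centralizer ({z} : Set G) := by
      intro q _
      rcases eq_or_ne q p with rfl | hqp
      · exact ⟨P, fun y hy => mem_centralizer_singleton_iff.mpr
          (congrArg Subtype.val (mem_center_iff.mp hzc ⟨y, hy⟩))⟩
      · obtain ⟨Q, hQ⟩ := exists_invariant_sylow_of_fpf φ hφ q
        have hcop : (Nat.card (Q : Subgroup G)).Coprime (Nat.card V) := by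
          obtain ⟨a, ha⟩ := IsPGroup.iff_card.mp Q.2
          obtain ⟨b, hb⟩ := IsPGroup.iff_card.mp hVp
          rw [ha, hb]
          exact Nat.Coprime.pow a b ((Nat.coprime_primes Fact.out hp).mpr hqp)
        exact ⟨Q, fun y hy => mem_centralizer_singleton_iff.mpr
          (mem_centralizer_iff.mp (le_centralizer_of_fpf hr hφr hφ hVc hVi hQ hcop hy) z hzV).symm⟩
    have htop : centralizer ({z} : Set G) = ⊤ := by
      refine eq_top_of_card_eq _ (Nat.dvd_antisymm (card_subgroup_dvd_card _) ?_)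
      rw [Nat.dvd_iff_prime_pow_dvd_dvd]
      intro q k hq hqk
      have : Fact q.Prime := ⟨hq⟩
      obtain ⟨Q, hQ⟩ := hle q
      refine dvd_trans ?_ (card_dvd_of_le hQ)
      rw [Q.card_eq_multiplicity]
      exact Nat.pow_dvd_pow q ((hq.pow_dvd_iff_le_factorization Nat.card_pos.ne').mp hqk)
    exact mem_center_iff.mpr fun g => mem_centralizer_singleton_iff.mp (htop ▸ mem_top g)
  have hTV := hsub (V ⊓ center G) inferInstance inf_le_left
    (fun x hx => ⟨hVi x hx.1, mem_center_iff.mpr fun g => by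
      obtain ⟨g, rfl⟩ := φ.surjective g
      rw [← map_mul, ← map_mul, mem_center_iff.mp hx.2 g]⟩)
    (fun h => hz1 (mem_bot.mpr (Subtype.ext (by
      have hm : z ∈ V ⊓ center G := ⟨hzV, hcent⟩
      rw [h, mem_bot] at hm
      exact hm))))
  have := hquot V hV1 hVi
  exact Subgroup.isNilpotent_of_ker_le_center (QuotientGroup.mk' V)
    (by rw [QuotientGroup.ker_mk']; exact hTV.ge.trans inf_le_right)

/-- **Thompson's theorem** on fixed-point-free automorphisms of prime order. -/
theorem isNilpotent_of_fpf : ∀ (G : Type u) [Group G] [Finite G] (φ : MulAut G) (r : ℕ),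
    r.Prime → φ ^ r = 1 → (∀ x, φ x = x → x = 1) → Group.IsNilpotent G := by
  suffices key : ∀ (n : ℕ) (G : Type u) [Group G] [Finite G], Nat.card G = n →
      ∀ (φ : MulAut G) (r : ℕ),
      r.Prime → φ ^ r = 1 → (∀ x, φ x = x → x = 1) → Group.IsNilpotent G from
    fun G _ _ φ r => key _ G rfl φ r
  intro n
  induction n using Nat.strong_induction_on with
  | _ n ih =>
  intro G _ _ hn φ r hr hφr hφ
  subst hn
  classical
  have hsub : ∀ N : Subgroup G, N ≠ ⊤ → (∀ x ∈ N, φ x ∈ N) → Group.IsNilpotent N := by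
    intro N hN hNi
    refine ih _ (lt_of_le_of_ne (Nat.card_le_card_of_injective _ N.subtype_injective)
      fun h => hN (eq_top_of_card_eq _ h)) N rfl (restrictAut φ N hNi) r hr ?_ ?_
    · exact MulEquiv.ext fun x => Subtype.ext (by rw [restrictAut_pow, hφr]; rfl)
    · intro x hx
      exact Subtype.ext (hφ x (congrArg Subtype.val hx))
  have hquot : ∀ V : Subgroup G, [V.Normal] → V ≠ ⊥ → (∀ x ∈ V, φ x ∈ V) →
      Group.IsNilpotent (G ⧸ V) := by
    intro V _ hV1 hVi
    let ψ : MulAut (G ⧸ V) := MulEquiv.ofBijective (QuotientGroup.map V V φ.toMonoidHom hVi)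
      (Finite.surjective_iff_bijective.mp fun y => by
        obtain ⟨y, rfl⟩ := QuotientGroup.mk'_surjective V y
        obtain ⟨x, rfl⟩ := φ.surjective y
        exact ⟨QuotientGroup.mk' V x, rfl⟩)
    refine ih _ (Solvable.card_quotient_lt hV1) (G ⧸ V) rfl ψ r hr ?_ ?_
    · have hpow : ∀ (k : ℕ) (x : G), (ψ ^ k) (QuotientGroup.mk' V x) = QuotientGroup.mk' V ((φ ^ k) x) := by
        intro k
        induction k with
        | zero => exact fun x => rfl
        | succ k ih' =>
          intro x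
          rw [pow_succ, pow_succ, MulAut.mul_apply, MulAut.mul_apply, ← ih']
          rfl
      refine MulEquiv.ext fun y => ?_
      obtain ⟨y, rfl⟩ := QuotientGroup.mk'_surjective V y
      rw [hpow, hφr]
      rfl
    · intro y hy
      obtain ⟨x, rfl⟩ := QuotientGroup.mk'_surjective V y
      have hm : x⁻¹ * φ x ∈ V := QuotientGroup.eq.mp hy.symm
      have hinj : Function.Injective fun v : V =>
          (⟨(v : G)⁻¹ * φ v, mul_mem (inv_mem v.2) (hVi _ v.2)⟩ : V) := by
        intro a b e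
        have e' : (a : G)⁻¹ * φ a = (b : G)⁻¹ * φ b := congrArg Subtype.val e
        refine Subtype.ext (mul_inv_eq_one.mp (hφ _ ?_)).symm
        rw [map_mul, map_inv, mul_inv_eq_iff_eq_mul]
        calc φ b = (b : G) * ((b : G)⁻¹ * φ b) := by group
          _ = _ := by rw [← e']; group
      obtain ⟨v, hv⟩ := Finite.injective_iff_surjective.mp hinj ⟨_, hm⟩
      have hv' : (v : G)⁻¹ * φ v = x⁻¹ * φ x := congrArg Subtype.val hv
      have hxv : x = v := (mul_inv_eq_one.mp (hφ ((x : G) * (v : G)⁻¹) (by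
        rw [map_mul, map_inv, mul_inv_eq_iff_eq_mul]
        calc φ x = x * (x⁻¹ * φ x) := by group
          _ = _ := by rw [← hv']; group)))
      exact (QuotientGroup.eq_one_iff x).mpr (hxv ▸ v.2)
  -- with a proper invariant normal subgroup
  by_cases hex : ∃ N : Subgroup G, N.Normal ∧ N ≠ ⊥ ∧ N ≠ ⊤ ∧ ∀ x ∈ N, φ x ∈ N
  · obtain ⟨N, hNn, hN1, hNt, hNi⟩ := hex
    have hNnil := hsub N hNt hNi
    have : Nontrivial N := (nontrivial_iff_ne_bot N).mpr hN1
    obtain ⟨z, hz, hz1⟩ := SetLike.exists_of_lt (bot_lt_iff_ne_bot.mpr (Group.IsNilpotent.center_ne_bot N))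
    refine isNilpotent_of_invariant_abelian hr φ hφr hφ (N ⊓ centralizer (N : Set G)) inferInstance
      ?_ ?_ (fun x hx => ⟨hNi x hx.1, inf_centralizer_invariant φ hNi hx.2⟩) hquot
    · intro h
      have hm : (z : G) ∈ N ⊓ centralizer (N : Set G) :=
        ⟨z.2, fun y hy => congrArg Subtype.val (mem_center_iff.mp hz ⟨y, hy⟩)⟩
      rw [h, mem_bot, OneMemClass.coe_eq_one] at hm
      exact hz1 (mem_bot.mpr hm)
    · exact le_centralizer_iff_isMulCommutative.1 (inf_le_right.trans (centralizer_le inf_le_left))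
  · have hdich : ∀ N : Subgroup G, N.Normal → (∀ x ∈ N, φ x ∈ N) → N = ⊥ ∨ N = ⊤ := by
      intro N h1 h2
      by_contra hc
      push Not at hc
      exact hex ⟨N, h1, hc.1, hc.2, h2⟩
    rcases hdich (center G) inferInstance (fun x hx => mem_center_iff.mpr fun g => by
        obtain ⟨g, rfl⟩ := φ.surjective g
        rw [← map_mul, ← map_mul, mem_center_iff.mp hx g]) with hZ | hZ
    swap
    · let _ : CommGroup G := { (inferInstance : Group G) with
        mul_comm := fun a b => (mem_center_iff.mp (hZ ▸ mem_top b) a) }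
      infer_instance
    rcases eq_or_ne (Nat.card G) 1 with h1 | h1
    · have := (Nat.card_eq_one_iff_unique.mp h1).1
      infer_instance
    by_cases hpg : ∃ q : ℕ, q.Prime ∧ IsPGroup q G
    · obtain ⟨q, hq, hqG⟩ := hpg
      have : Fact q.Prime := ⟨hq⟩
      exact hqG.isNilpotent
    exfalso
    obtain ⟨p, hp, hpd, hp2⟩ : ∃ p, p.Prime ∧ p ∣ Nat.card G ∧ p ≠ 2 := by
      by_contra h
      push Not at h
      exact hpg ⟨2, Nat.prime_two, IsPGroup.of_card (n := (Nat.card G).primeFactorsList.length)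
        (Nat.eq_prime_pow_of_unique_prime_dvd Nat.card_pos.ne' fun hd hd' => h _ hd hd')⟩
    have : Fact p.Prime := ⟨hp⟩
    obtain ⟨P, hP⟩ := exists_invariant_sylow_of_fpf φ hφ p
    have hP1 : (P : Subgroup G) ≠ ⊥ := P.ne_bot_of_dvd_card hpd
    have hPt : (P : Subgroup G) ≠ ⊤ := fun h => hpg ⟨p, hp, (h ▸ P.2 : IsPGroup p (⊤ : Subgroup G)).of_equiv topEquiv⟩
    have hJi : ∀ x ∈ Cfsg.thompsonSubgroupOf p (P : Subgroup G),
        φ x ∈ Cfsg.thompsonSubgroupOf p (P : Subgroup G) := by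
      intro x hx
      have := mem_map_of_mem φ.toMonoidHom hx
      rwa [OddLocal.thompsonOf_map φ.toMonoidHom (fun y _ h => φ.injective (h.trans (map_one φ).symm)),
        map_eq_of_invariant φ _ hP] at this
    have hNJ : normalizer (Cfsg.thompsonSubgroupOf p (P : Subgroup G) : Set G) ≠ ⊤ := by
      intro h
      rcases hdich _ (normalizer_eq_top_iff.mp h) hJi with e | e
      · exact thompsonOf_ne_bot P.2 hP1 e
      · exact hPt (top_le_iff.mp (e ▸ PLocal.thompsonOf_le _))
    set Z := (P : Subgroup G) ⊓ centralizer ((P : Subgroup G) : Set G) with hZdef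
    have hZi : ∀ x ∈ Z, φ x ∈ Z := fun x hx => ⟨hP x hx.1, inf_centralizer_invariant φ hP hx.2⟩
    have hCZ : centralizer (Z : Set G) ≠ ⊤ := fun h => center_inf_ne_bot P.2 hP1 (le_bot_iff.mp (by
      rw [← hZ]
      exact fun x hx => mem_center_iff.mpr fun g =>
        (mem_centralizer_iff.mp (h ▸ mem_top g) x hx).symm))
    have hNJi : ∀ x ∈ normalizer (Cfsg.thompsonSubgroupOf p (P : Subgroup G) : Set G),
        φ x ∈ normalizer (Cfsg.thompsonSubgroupOf p (P : Subgroup G) : Set G) := by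
      intro x hx
      rw [mem_normalizer_iff]
      intro y
      obtain ⟨y, rfl⟩ := φ.surjective y
      rw [← map_inv, ← map_mul, ← map_mul]
      have hiff : ∀ w, φ w ∈ Cfsg.thompsonSubgroupOf p (P : Subgroup G) ↔
          w ∈ Cfsg.thompsonSubgroupOf p (P : Subgroup G) := fun w => by
        refine ⟨fun hw => ?_, hJi w⟩
        obtain ⟨v, hv, e⟩ := (map_eq_of_invariant φ _ hJi).ge hw
        exact φ.injective e ▸ hv
      rw [hiff, hiff]
      exact mem_normalizer_iff.mp hx y
    have hnpc := hasNormalPComplement_of_thompson hp2 P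
      (hasNormalPComplement_of_isNilpotent (hsub _ hNJ hNJi))
      (hasNormalPComplement_of_isNilpotent (hsub _ hCZ fun x hx => inf_centralizer_invariant φ hZi hx))
    have hres := Transfer.hasNormalPComplement_iff_coprime_pResidual.1 hnpc
    rcases hdich (Cfsg.pResidual p G) Transfer.pResidual_normal (fun x hx =>
        Transfer.map_pResidual_le φ.toMonoidHom (mem_map_of_mem _ hx)) with e | e
    · obtain ⟨n, hn⟩ := Transfer.pResidual_index_eq_pow (G := G) (p := p)
      rw [e, index_bot] at hn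
      exact hpg ⟨p, hp, IsPGroup.of_card hn⟩
    · rw [e, card_top] at hres
      exact hp.ne_one (Nat.eq_one_of_dvd_coprimes hres hpd dvd_rfl)

end CfsgLib.Complement
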