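import Cfsg.Prelude.Def_LocalEven
import Cfsg.Agent.Lib.Solvable.Nilpotent

/-!
# Small facts on sections and fixed points
-/

set_option autoImplicit false

namespace CfsgLib.Complement

open Subgroup

universe u

variable {G : Type u} [Group G]

theorem involves_iff_exists_hom {H : Type} [Group H] :
    Cfsg.Involves H G ↔ ∃ (K : Subgroup G) (f : K →* H), Function.Surjective f := by
  constructor
  · rintro ⟨K, R, hR, ⟨e⟩⟩
    exact ⟨K, e.toMonoidHom.comp (QuotientGroup.mk' _),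
      e.surjective.comp (QuotientGroup.mk'_surjective _)⟩
  · rintro ⟨K, f, hf⟩
    have hker : (f.ker.map K.subtype).subgroupOf K = f.ker :=
      comap_map_eq_self_of_injective K.subtype_injective _
    have hn : ((f.ker.map K.subtype).subgroupOf K).Normal := by rw [hker]; infer_instance
    exact ⟨K, f.ker.map K.subtype, hn, ⟨(QuotientGroup.quotientMulEquivOfEq hker).trans
      (QuotientGroup.quotientKerEquivOfSurjective f hf)⟩⟩

theorem involves_of_subgroup {H : Type} [Group H] {L : Subgroup G} (h : Cfsg.Involves H L) :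
    Cfsg.Involves H G := by
  obtain ⟨K, f, hf⟩ := involves_iff_exists_hom.mp h
  let e := K.equivMapOfInjective L.subtype L.subtype_injective
  exact involves_iff_exists_hom.mpr ⟨K.map L.subtype, f.comp e.symm.toMonoidHom,
    hf.comp e.symm.surjective⟩

theorem involves_of_quotient {H : Type} [Group H] {N : Subgroup G} [N.Normal]
    (h : Cfsg.Involves H (G ⧸ N)) : Cfsg.Involves H G := by
  obtain ⟨K, f, hf⟩ := involves_iff_exists_hom.mp h
  refine involves_iff_exists_hom.mpr ⟨K.comap (QuotientGroup.mk' N),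
    f.comp ((QuotientGroup.mk' N).subgroupComap K), hf.comp fun y => ?_⟩
  obtain ⟨x, hx⟩ := QuotientGroup.mk'_surjective N y.1
  exact ⟨⟨x, show QuotientGroup.mk' N x ∈ K from hx ▸ y.2⟩, Subtype.ext hx⟩

variable [Finite G] {p : ℕ} [hp : Fact p.Prime]

/-- A `p'`-element fixing the elements of order `p` of an abelian `p`-group centralizes it. -/
theorem mem_centralizer_of_fixes_omega {Z : Subgroup G} (hZc : Z ≤ centralizer (Z : Set G))
    (hZ : IsPGroup p Z) {x : G} (hxZ : x ∈ normalizer (Z : Set G)) (hx : (orderOf x).Coprime p)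
    (hfix : ∀ y ∈ Z, y ^ p = 1 → y * x = x * y) : x ∈ centralizer (Z : Set G) := by
  suffices key : ∀ n : ℕ, ∀ y ∈ Z, y ^ p ^ n = 1 → y * x = x * y by
    refine mem_centralizer_iff.mpr fun y hy => ?_
    obtain ⟨n, hn⟩ := hZ ⟨y, hy⟩
    exact key n y hy (congrArg Subtype.val hn)
  intro n
  induction n with
  | zero => intro y _ h; rw [pow_zero, pow_one] at h; rw [h, one_mul, mul_one]
  | succ n ih =>
    intro y hy h
    set v := x * y * x⁻¹ * y⁻¹ with hv
    have hxy : x * y * x⁻¹ ∈ Z := (mem_normalizer_iff.mp hxZ y).mp hy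
    have hvZ : v ∈ Z := Z.mul_mem hxy (Z.inv_mem hy)
    have hyp : (y ^ p) * x = x * (y ^ p) := ih _ (Z.pow_mem hy p) (by rw [← pow_mul, ← pow_succ']; exact h)
    have hvp : v ^ p = 1 := by
      rw [hv, Commute.mul_pow (show Commute (x * y * x⁻¹) y⁻¹ from
          (mem_centralizer_iff.mp (hZc (Z.inv_mem hy)) _ hxy)),
        conj_pow, ← hyp, mul_inv_cancel_right, inv_pow, mul_inv_cancel]
    have hvx : x * v * x⁻¹ = v := by rw [← hfix v hvZ hvp, mul_inv_cancel_right]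
    clear_value v
    have hit : ∀ j : ℕ, x ^ j * y * (x ^ j)⁻¹ = v ^ j * y := by
      intro j
      induction j with
      | zero => simp
      | succ j ihj =>
        calc x ^ (j + 1) * y * (x ^ (j + 1))⁻¹ = x * (x ^ j * y * (x ^ j)⁻¹) * x⁻¹ := by
              rw [pow_succ']; group
          _ = x * (v ^ j * y) * x⁻¹ := by rw [ihj]
          _ = (x * v * x⁻¹) ^ j * (x * y * x⁻¹) := by rw [conj_pow]; group
          _ = v ^ j * (v * y) := by
              rw [hvx, show x * y * x⁻¹ = v * y by rw [hv, inv_mul_cancel_right]]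
          _ = v ^ (j + 1) * y := by rw [pow_succ, mul_assoc]
    have h1 := hit (orderOf x)
    rw [pow_orderOf_eq_one, inv_one, one_mul, mul_one, eq_comm, mul_eq_right] at h1
    have hv1 : v = 1 := orderOf_eq_one_iff.mp (Nat.eq_one_of_dvd_coprimes hx
      (orderOf_dvd_of_pow_eq_one h1) (orderOf_dvd_of_pow_eq_one hvp))
    rw [hv, mul_inv_eq_one, mul_inv_eq_iff_eq_mul] at hv1
    exact hv1.symm

/-- A 2-group commuting with `l` of odd prime order modulo `C(W)` fixes an element of `W` moved by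
`l`. -/
theorem fixed_point_contra {W : Subgroup G} (hWc : ∀ x ∈ W, ∀ y ∈ W, x * y = y * x)
    (hW2 : ∀ x ∈ W, x * x = 1) {B : Subgroup G} (hWN : ∀ g : G, g ∈ normalizer (W : Set G))
    {l : G} {r : ℕ} (hr : r.Prime) (hr2 : r ≠ 2) (hlr : l ^ r ∈ centralizer (W : Set G))
    {w : G} (hw : w ∈ W) (hwl : l * w * l⁻¹ ≠ w)
    (hB : ∀ b ∈ B, (∃ k : ℕ, b ^ 2 ^ k = 1) ∧ l⁻¹ * b * l * b⁻¹ ∈ centralizer (W : Set G))
    (hl : l ∈ centralizer ((W ⊓ centralizer (B : Set G) : Subgroup G) : Set G)) : False := by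
  let N : Subgroup G :=
    { carrier := {u | ∃ v ∈ W, u = v⁻¹ * (l * v * l⁻¹)}
      one_mem' := ⟨1, W.one_mem, by simp⟩
      mul_mem' := by
        rintro _ _ ⟨v, hv, rfl⟩ ⟨v', hv', rfl⟩
        refine ⟨v * v', W.mul_mem hv hv', ?_⟩
        have hlv : l * v * l⁻¹ ∈ W := (mem_normalizer_iff.mp (hWN l) v).mp hv
        calc v⁻¹ * (l * v * l⁻¹) * (v'⁻¹ * (l * v' * l⁻¹))
            = v⁻¹ * ((l * v * l⁻¹) * v'⁻¹) * (l * v' * l⁻¹) := by group
          _ = v⁻¹ * (v'⁻¹ * (l * v * l⁻¹)) * (l * v' * l⁻¹) := by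
              rw [hWc _ hlv _ (W.inv_mem hv')]
          _ = (v⁻¹ * v'⁻¹) * (l * v * l⁻¹ * (l * v' * l⁻¹)) := by group
          _ = (v'⁻¹ * v⁻¹) * (l * v * l⁻¹ * (l * v' * l⁻¹)) := by
              rw [hWc _ (W.inv_mem hv) _ (W.inv_mem hv')]
          _ = (v * v')⁻¹ * (l * (v * v') * l⁻¹) := by group
      inv_mem' := by
        rintro _ ⟨v, hv, rfl⟩
        refine ⟨v⁻¹, W.inv_mem hv, ?_⟩
        have hlv : l * v * l⁻¹ ∈ W := (mem_normalizer_iff.mp (hWN l) v).mp hv
        rw [mul_inv_rev, inv_inv, hWc _ (W.inv_mem hlv) _ hv]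
        group }
  have hNW : N ≤ W := by
    rintro _ ⟨v, hv, rfl⟩
    exact W.mul_mem (W.inv_mem hv) ((mem_normalizer_iff.mp (hWN l) v).mp hv)
  have hN1 : N ≠ ⊥ := fun e => hwl (inv_mul_eq_one.mp (mem_bot.mp (e ▸ ⟨w, hw, rfl⟩ :
    w⁻¹ * (l * w * l⁻¹) ∈ (⊥ : Subgroup G)))).symm
  have hBN : B ≤ normalizer (N : Set G) := by
    intro b hb
    rw [mem_normalizer_iff_map_conj_eq]
    refine eq_of_le_of_card_ge ?_ (card_map_of_injective (MulAut.conj b).injective).ge
    rintro _ ⟨_, ⟨v, hv, rfl⟩, rfl⟩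
    refine ⟨b * v * b⁻¹, (mem_normalizer_iff.mp (hWN b) v).mp hv, ?_⟩
    set c := l⁻¹ * b * l * b⁻¹ with hc
    have hbv : b * v * b⁻¹ ∈ W := (mem_normalizer_iff.mp (hWN b) v).mp hv
    have e : c * (b * v * b⁻¹) * c⁻¹ = b * v * b⁻¹ := by
      rw [← mem_centralizer_iff.mp (hB b hb).2 _ hbv, mul_inv_cancel_right]
    show b * (v⁻¹ * (l * v * l⁻¹)) * b⁻¹ = (b * v * b⁻¹)⁻¹ * (l * (b * v * b⁻¹) * l⁻¹)
    conv_rhs => arg 2; rw [← e]
    rw [hc]
    group
  have hNp : IsPGroup 2 N := fun x => ⟨1, Subtype.ext (by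
    show (x : G) ^ 2 ^ 1 = 1
    rw [pow_one, pow_two]; exact hW2 _ (hNW x.2))⟩
  have hBp : IsPGroup 2 B := fun x => by
    obtain ⟨k, hk⟩ := (hB x x.2).1
    exact ⟨k, Subtype.ext hk⟩
  -- a fixed point
  set P := N ⊔ B
  have hPp : IsPGroup 2 P := hNp.to_sup_of_normal_left' hBp hBN
  have hNn : (N.subgroupOf P).Normal := normal_subgroupOf_of_le_normalizer (sup_le le_normalizer hBN)
  have : Fact (Nat.Prime 2) := ⟨Nat.prime_two⟩
  have := hPp.isNilpotent
  have hne : N.subgroupOf P ≠ ⊥ := by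
    rw [Ne, subgroupOf_eq_bot, disjoint_iff, inf_eq_left.2 (le_sup_left : N ≤ P)]
    exact hN1
  refine CfsgLib.Solvable.normal_inf_center_ne_bot (N.subgroupOf P) hne
    ((Subgroup.eq_bot_iff_forall _).2 fun y hy => Subtype.ext ?_)
  show (y : G) = 1
  have hyN : (y : G) ∈ N := (mem_inf.1 hy).1
  obtain ⟨v, hv, hyv⟩ := hyN
  have hyD : (y : G) ∈ W ⊓ centralizer (B : Set G) := ⟨hNW (mem_inf.1 hy).1, fun b hb =>
    congrArg Subtype.val (mem_center_iff.1 (mem_inf.1 hy).2 ⟨b, mem_sup_right hb⟩)⟩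
  have hly : l * (y : G) * l⁻¹ = y := by
    rw [← mem_centralizer_iff.mp hl _ hyD, mul_inv_cancel_right]
  have hit : ∀ j : ℕ, l ^ j * v * (l ^ j)⁻¹ = v * (y : G) ^ j := by
    intro j
    induction j with
    | zero => simp
    | succ j ihj =>
      calc l ^ (j + 1) * v * (l ^ (j + 1))⁻¹ = l * (l ^ j * v * (l ^ j)⁻¹) * l⁻¹ := by
            rw [pow_succ']; group
        _ = l * (v * (y : G) ^ j) * l⁻¹ := by rw [ihj]
        _ = (l * v * l⁻¹) * (l * (y : G) * l⁻¹) ^ j := by rw [conj_pow]; group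
        _ = v * (y : G) * (y : G) ^ j := by rw [hly, hyv, mul_inv_cancel_left]
        _ = v * (y : G) ^ (j + 1) := by rw [pow_succ', mul_assoc]
  have h1 := hit r
  rw [← mem_centralizer_iff.mp hlr v hv, mul_inv_cancel_right, left_eq_mul] at h1
  exact orderOf_eq_one_iff.mp (Nat.eq_one_of_dvd_coprimes
    ((Nat.coprime_primes hr Nat.prime_two).mpr hr2) (orderOf_dvd_of_pow_eq_one h1)
    (orderOf_dvd_of_pow_eq_one (by rw [pow_two]; exact hW2 _ hyD.1)))

end CfsgLib.Complement
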