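import Cfsg.Agent.Lib.Complement.Reduction
import Cfsg.Agent.Lib.OddLocal.ZJ
import Cfsg.Prelude.Def_ConjugacyFunctors

/-!
# The local functors `N(J(S))`, `C(Z(S))` and `N(Z(J(S)))`
-/

set_option autoImplicit false

namespace CfsgLib.Complement

open Subgroup

universe u

variable {p : ℕ} [hp : Fact p.Prime]

theorem thompsonOf_ne_bot {G : Type u} [Group G] [Finite G] {S : Subgroup G} (hS : IsPGroup p S)
    (h1 : S ≠ ⊥) : Cfsg.thompsonSubgroupOf p S ≠ ⊥ := by
  unfold Cfsg.thompsonSubgroupOf
  rw [Ne, map_eq_bot_iff_of_injective _ S.subtype_injective]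
  refine PLocal.thompson_ne_bot ?_
  obtain ⟨n, hn⟩ := IsPGroup.iff_card.mp hS
  rw [hn]
  exact dvd_pow_self p fun h => h1 (card_eq_one.mp (by rw [hn, h, pow_zero]))

theorem center_inf_ne_bot {G : Type u} [Group G] [Finite G] {S : Subgroup G} (hS : IsPGroup p S)
    (h1 : S ≠ ⊥) : S ⊓ centralizer (S : Set G) ≠ ⊥ := by
  have : Nontrivial S := (nontrivial_iff_ne_bot S).mpr h1
  have : Nontrivial (center S) := hS.center_nontrivial
  obtain ⟨z, hz⟩ := exists_ne (1 : center S)
  intro h
  have hm : ((z : S) : G) ∈ S ⊓ centralizer (S : Set G) := ⟨(z : S).2, fun y hy =>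
    congrArg Subtype.val (mem_center_iff.mp z.2 ⟨y, hy⟩)⟩
  rw [h, mem_bot] at hm
  exact hz (Subtype.ext (Subtype.ext hm))

theorem normalizer_map_of_injective {G H : Type u} [Group G] [Group H] (f : H →* G)
    (hf : Function.Injective f) (S : Subgroup H) :
    normalizer (S : Set H) = (normalizer ((S.map f : Subgroup G) : Set G)).comap f := by
  ext x
  rw [mem_comap, mem_normalizer_iff, mem_normalizer_iff]
  constructor
  · intro h y
    constructor
    · rintro ⟨s, hs, rfl⟩
      exact ⟨x * s * x⁻¹, (h s).mp hs, by simp⟩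
    · rintro ⟨s, hs, hy⟩
      refine ⟨x⁻¹ * s * x, (h _).mpr (by simpa [mul_assoc] using hs), ?_⟩
      rw [map_mul, map_mul, map_inv, hy]
      group
  · intro h s
    have h' := h (f s)
    rw [← map_inv, ← map_mul, ← map_mul, mem_map, mem_map] at h'
    refine ⟨fun hs => ?_, fun hs => ?_⟩
    · obtain ⟨t, ht, e⟩ := h'.mp ⟨s, hs, rfl⟩
      exact hf e ▸ ht
    · obtain ⟨t, ht, e⟩ := h'.mpr ⟨_, hs, rfl⟩
      exact hf e ▸ ht

/-- A normalizer functor from a natural choice of a nontrivial subgroup. -/
def normalizerFunctor (D : ∀ {G : Type u} [Group G], Subgroup G → Subgroup G)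
    (hle : ∀ {G : Type u} [Group G] (S : Subgroup G), D S ≤ S)
    (hne : ∀ {G : Type u} [Group G] [Finite G] (S : Subgroup G), IsPGroup p S → S ≠ ⊥ → D S ≠ ⊥)
    (hnat : ∀ {G H : Type u} [Group G] [Group H] (f : H →* G) (S : Subgroup H),
      Set.InjOn f (S : Set H) → (D S).map f = D (S.map f)) : LocalFunctor.{u} p where
  core := D
  loc := fun S => normalizer (D S : Set _)
  core_le := hle
  core_ne_bot := hne
  normalizer_le := fun S g hg => by
    rw [mem_normalizer_iff_map_conj_eq] at hg ⊢
    rw [hnat _ S (fun a _ b _ h => (MulAut.conj g).injective h), hg]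
  loc_le := fun _ => le_rfl
  le_loc := fun S g hg => by
    have hg' := le_normalizer hg
    rw [mem_normalizer_iff_map_conj_eq] at hg' ⊢
    rw [hnat _ S (fun a _ b _ h => (MulAut.conj g).injective h), hg']
  loc_comap := fun f hf S => by
    rw [← hnat f S fun a _ b _ h => hf h]
    exact normalizer_map_of_injective f hf _
  loc_map := fun O _ hO S hS => by
    rw [← hnat _ S (PLocal.injOn_mk'_of_isPGroup hO hS)]
    exact (Comp.map_normalizer_eq hO (hS.to_le (hle S))).ge

/-- `N(J(S))`. -/
def thompsonFunctor (p : ℕ) [Fact p.Prime] : LocalFunctor.{u} p :=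
  normalizerFunctor (fun S => Cfsg.thompsonSubgroupOf p S) (fun S => PLocal.thompsonOf_le S)
    (fun _ => thompsonOf_ne_bot) fun f S hf => by
      exact OddLocal.thompsonOf_map f fun x hx h => hf hx S.one_mem (h.trans (map_one f).symm)

/-- `N(Z(J(S)))`. -/
def centerThompsonFunctor (p : ℕ) [Fact p.Prime] : LocalFunctor.{u} p :=
  normalizerFunctor (fun S => Cfsg.centerThompsonOf p S) (fun S => OddLocal.centerThompsonOf_le S)
    (fun S hS h1 => center_inf_ne_bot (hS.to_le (PLocal.thompsonOf_le S)) (thompsonOf_ne_bot hS h1))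
    fun f S hf => by
      exact OddLocal.centerThompsonOf_map f fun x hx h => hf hx S.one_mem (h.trans (map_one f).symm)

/-- `C(Z(S))`. -/
def centerFunctor (p : ℕ) [Fact p.Prime] : LocalFunctor.{u} p where
  core := fun S => S ⊓ centralizer (S : Set _)
  loc := fun S => centralizer ((S ⊓ centralizer (S : Set _) : Subgroup _) : Set _)
  core_le := fun _ => inf_le_left
  core_ne_bot := fun _ => center_inf_ne_bot
  normalizer_le := fun S g hg => by
    rw [mem_normalizer_iff_map_conj_eq] at hg ⊢
    rw [PLocal.center_map_of_injOn _ (fun a _ b _ h => (MulAut.conj g).injective h), hg]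
  loc_le := fun _ => centralizer_le_normalizer _
  le_loc := fun S g hg => fun y hy => (hy.2 g hg).symm
  loc_comap := fun f hf S => by
    have h := PLocal.center_map_of_injOn f (U := S) fun a _ b _ h => hf h
    rw [← h]
    ext x
    rw [mem_comap, mem_centralizer_iff, mem_centralizer_iff]
    constructor
    · rintro hx _ ⟨z, hz, rfl⟩
      rw [← map_mul, ← map_mul, hx z hz]
    · intro hx z hz
      exact hf (by rw [map_mul, map_mul]; exact hx _ (mem_map_of_mem f hz))
  loc_map := fun O _ hO S hS => by
    have hZp : IsPGroup p (S ⊓ centralizer (S : Set _) : Subgroup _) := hS.to_le inf_le_left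
    rw [← PLocal.center_map_of_injOn _ (PLocal.injOn_mk'_of_isPGroup hO hS)]
    exact (Comp.map_centralizer_eq hO hZp).ge

open scoped Classical in
/-- The subgroup attached by a `p`-group functor, extended trivially off finite `p`-groups. -/
noncomputable def functorCore (p : ℕ) (W : ∀ (Q : Type u) [Group Q], Subgroup Q) {G : Type u}
    [Group G] (S : Subgroup G) : Subgroup G :=
  if Finite S ∧ IsPGroup p S then Cfsg.inducedFunctor W S else S

theorem functorCore_eq {W : ∀ (Q : Type u) [Group Q], Subgroup Q} {G : Type u} [Group G]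
    [Finite G] {S : Subgroup G} (hS : IsPGroup p S) :
    functorCore p W S = Cfsg.inducedFunctor W S := if_pos ⟨inferInstance, hS⟩

/-- `N(W(S))` for an isomorphism-invariant `p`-group functor `W`. -/
noncomputable def inducedLocalFunctor (p : ℕ) [Fact p.Prime]
    (W : ∀ (Q : Type u) [Group Q], Subgroup Q) (hW : Cfsg.IsCharPFunctor.{u} p W) :
    LocalFunctor.{u} p :=
  normalizerFunctor (fun S => functorCore p W S)
    (fun S => by
      unfold functorCore
      split_ifs
      · exact map_subtype_le _
      · exact le_rfl)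
    (fun S hS h1 => by
      rw [functorCore_eq hS, Cfsg.inducedFunctor, Ne, map_eq_bot_iff_of_injective _ S.subtype_injective]
      exact hW.1 S hS ((nontrivial_iff_ne_bot S).mpr h1))
    fun {G H} _ _ f S hf => by
      let e : S ≃* S.map f := MulEquiv.ofBijective (f.subgroupMap S)
        ⟨fun a b h => Subtype.ext (hf a.2 b.2 (congrArg Subtype.val h)), f.subgroupMap_surjective S⟩
      have hiff : (Finite S ∧ IsPGroup p S) ↔ (Finite (S.map f) ∧ IsPGroup p (S.map f)) :=
        ⟨fun h => ⟨have := h.1; Finite.of_equiv _ e.toEquiv, h.2.of_equiv e⟩,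
          fun h => ⟨have := h.1; Finite.of_equiv _ e.symm.toEquiv, h.2.of_equiv e.symm⟩⟩
      unfold functorCore
      by_cases h : Finite S ∧ IsPGroup p S
      · rw [if_pos h, if_pos (hiff.mp h)]
        have := h.1
        unfold Cfsg.inducedFunctor
        rw [← hW.2 S (S.map f) h.2 e, map_map, map_map]
        rfl
      · rw [if_neg h, if_neg (mt hiff.mpr h)]

end CfsgLib.Complement
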