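import Mathlib

/-!
# Two facts about a `p`-group acted on
-/

set_option autoImplicit false

namespace CfsgLib.Complement

open Subgroup
open scoped commutatorElement

universe u

variable {p : ℕ} [hp : Fact p.Prime] {G : Type u} [Group G] [Finite G]

/-- A nontrivial subgroup of a nilpotent group is not equal to its commutator with the group. -/
theorem commutator_ne_self_of_pGroup {U H : Subgroup G} (hU : IsPGroup p U) (hHU : H ≤ U)
    (h1 : H ≠ ⊥) : ⁅H, U⁆ ≠ H := by
  intro he
  have hall : ∀ i, H ≤ U.lowerCentralSeries i := by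
    intro i
    induction i with
    | zero => simpa using hHU
    | succ i ih =>
      rw [Subgroup.lowerCentralSeries_succ, ← he]
      exact commutator_mono ih le_rfl
  obtain ⟨n, hn⟩ := (Subgroup.isNilpotent_iff_lowerCentralSeries U).mp hU.isNilpotent
  exact h1 (le_bot_iff.mp (hn ▸ hall n))

/-- An element of order prime to `p` centralizing a central subgroup and a quotient by it. -/
theorem centralizes_of_stabilizes {H Z : Subgroup G} (hH : IsPGroup p H) (hZle : Z ≤ H) {g h : G}
    (hg : (orderOf g).Coprime p)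
    (hgZ : ∀ z ∈ Z, g * z * g⁻¹ = z) (he : h⁻¹ * (g * h * g⁻¹) ∈ Z) : g * h = h * g := by
  set z := h⁻¹ * (g * h * g⁻¹) with hz
  have hn : ∀ n : ℕ, g ^ n * h * (g ^ n)⁻¹ = h * z ^ n := by
    intro n
    induction n with
    | zero => simp
    | succ n ih =>
      calc g ^ (n + 1) * h * (g ^ (n + 1))⁻¹ = g * (g ^ n * h * (g ^ n)⁻¹) * g⁻¹ := by
            rw [pow_succ']; group
        _ = g * (h * z ^ n) * g⁻¹ := by rw [ih]
        _ = (g * h * g⁻¹) * (g * z ^ n * g⁻¹) := by group
        _ = h * z * z ^ n := by rw [hgZ _ (Z.pow_mem he n), hz, mul_inv_cancel_left]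
        _ = h * z ^ (n + 1) := by rw [pow_succ']; group
  have h1 := hn (orderOf g)
  rw [pow_orderOf_eq_one, one_mul, inv_one, mul_one, eq_comm, mul_eq_left] at h1
  obtain ⟨k, hk⟩ := IsPGroup.iff_orderOf.mp hH ⟨z, hZle he⟩
  rw [Subgroup.orderOf_mk] at hk
  have h2 : z = 1 := orderOf_eq_one_iff.mp (Nat.eq_one_of_dvd_coprimes (hg.pow_right k)
    (orderOf_dvd_of_pow_eq_one h1) hk.dvd)
  rw [hz, inv_mul_eq_one] at h2
  exact mul_inv_eq_iff_eq_mul.mp h2.symm

end CfsgLib.Complement
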