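import Cfsg.Agent.Lib.Complement.QuadAbelian
import Cfsg.Agent.Lib.OddLocal.PStable
import Cfsg.Agent.Lib.Solvable.Nilpotent

/-!
# Quadratic elements modulo an abelian `p'`-layer
-/

set_option autoImplicit false

namespace CfsgLib.Complement

open Subgroup

universe u

/-- A minimal normal subgroup of exponent `p` is centralized by every normal `p`-subgroup. -/
theorem le_centralizer_of_minimal {p : ℕ} [Fact p.Prime] {H : Type u} [Group H] [Finite H]
    {U M : Subgroup H} [hUn : U.Normal] [hMn : M.Normal] (hU : IsPGroup p U) (hM : IsPGroup p M)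
    (hM1 : M ≠ ⊥) (hmin : ∀ K : Subgroup H, K.Normal → K ≤ M → K = ⊥ ∨ K = M) :
    U ≤ centralizer (M : Set H) := by
  have := (hU.to_sup_of_normal_right hM).isNilpotent
  have hne : M.subgroupOf (U ⊔ M) ≠ ⊥ := fun h => hM1 (le_bot_iff.mp
    ((le_inf le_rfl le_sup_right).trans (subgroupOf_eq_bot.mp h).eq_bot.le))
  obtain ⟨⟨z, hzQ⟩, ⟨hzM, hzc⟩, hz1⟩ := SetLike.exists_of_lt (bot_lt_iff_ne_bot.mpr
    (Solvable.normal_inf_center_ne_bot (M.subgroupOf (U ⊔ M)) hne))
  rcases hmin (M ⊓ centralizer (U : Set H)) inferInstance inf_le_left with h | h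
  · refine absurd ?_ hz1
    have hm : z ∈ M ⊓ centralizer (U : Set H) := ⟨hzM, fun y hy =>
      congrArg Subtype.val (mem_center_iff.mp hzc ⟨y, mem_sup_left hy⟩)⟩
    rw [h, mem_bot] at hm
    exact mem_bot.mpr (Subtype.ext hm)
  · exact le_centralizer_iff.mp (h.ge.trans inf_le_right)

/-- `p`-stability over an abelian `p'`-layer `K` modulo a normal `p`-subgroup `U`: the commutators
of a quadratic element on a normal `p`-subgroup `B` with `K` lie in a normal subgroup all whose
`p'`-elements centralize `B`. -/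
theorem exists_normal_of_quadratic_layer {p : ℕ} [hp : Fact p.Prime] (hp2 : p ≠ 2) :
    ∀ (H : Type u) [Group H] [Finite H] (K U : Subgroup H) [K.Normal] [U.Normal] (_ : IsPGroup p U)
      {m : ℕ} (_ : m.Coprime p) (_ : ∀ x ∈ K, ∀ y ∈ K, x * y * x⁻¹ * y⁻¹ ∈ U)
      (_ : ∀ x ∈ K, x ^ m ∈ U) (B : Subgroup H) [B.Normal] (_ : IsPGroup p B) {a : H}
      (_ : ∀ x ∈ B, a * (a * x * a⁻¹ * x⁻¹) * a⁻¹ = a * x * a⁻¹ * x⁻¹),
      ∃ D : Subgroup H, D.Normal ∧ (∀ k ∈ K, a * k * a⁻¹ * k⁻¹ ∈ D) ∧
        ∀ g ∈ D, (orderOf g).Coprime p → g ∈ centralizer (B : Set H) := by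
  intro H _ _ K U _ _ hU m hm hcomm hpow B _ hB a hquad
  induction hn : Nat.card B using Nat.strong_induction_on generalizing H with
  | _ n ih =>
    subst hn
    by_cases hB1 : B = ⊥
    · exact ⟨⊤, inferInstance, fun _ _ => mem_top _, fun g _ _ => by
        rw [mem_centralizer_iff]
        intro y hy
        rw [hB1] at hy
        simp [mem_bot.mp hy]⟩
    obtain ⟨M, hMn, hM1, hMB, hmin⟩ := Solvable.exists_minimal_normal_le ‹B.Normal› hB1
    have := hMn
    have hMp : IsPGroup p M := hB.to_le hMB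
    have hUM := le_centralizer_of_minimal hU hMp hM1 hmin
    have hMel : ∀ x ∈ M, x ^ p = 1 ∧ ∀ y ∈ M, x * y = y * x := by
      have hMM := le_centralizer_of_minimal hMp hMp hM1 hmin
      intro x hx
      refine ⟨?_, fun y hy => (mem_centralizer_iff.mp (hMM hx) y hy).symm⟩
      let W : Subgroup H :=
        { carrier := {v | v ∈ M ∧ v ^ p = 1}
          one_mem' := ⟨M.one_mem, one_pow p⟩
          inv_mem' := fun {x} hx => ⟨M.inv_mem hx.1, by rw [inv_pow, hx.2, inv_one]⟩
          mul_mem' := fun {x y} hx hy => ⟨M.mul_mem hx.1 hy.1, by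
            rw [(show Commute x y from (mem_centralizer_iff.mp (hMM hx.1) y hy.1).symm).mul_pow,
              hx.2, hy.2, one_mul]⟩ }
      rcases hmin W ⟨fun x hx g => ⟨hMn.conj_mem x hx.1 g, by rw [conj_pow, hx.2]; group⟩⟩
          (fun v hv => hv.1) with h | h
      · exfalso
        obtain ⟨k, hk⟩ := IsPGroup.iff_card.mp hMp
        have hk0 : k ≠ 0 := fun h0 => hM1 (card_eq_one.mp (by rw [hk, h0, pow_zero]))
        obtain ⟨v, hv⟩ := exists_prime_orderOf_dvd_card' p (hk ▸ dvd_pow_self p hk0 : p ∣ Nat.card M)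
        have hmem : (v : H) ∈ W := ⟨v.2, by
          rw [← SubmonoidClass.coe_pow, ← hv, pow_orderOf_eq_one, OneMemClass.coe_one]⟩
        rw [h, mem_bot, OneMemClass.coe_eq_one] at hmem
        rw [hmem, orderOf_one] at hv
        exact hp.out.ne_one hv.symm
      · exact (h.ge hx).2
    have hMc : IsMulCommutative M := ⟨⟨fun x y => Subtype.ext ((hMel x x.2).2 y y.2)⟩⟩
    have haM : ∀ k ∈ K, a * k * a⁻¹ * k⁻¹ ∈ centralizer (M : Set H) :=
      commutator_mem_centralizer_of_quadratic hp2 hMc (fun w hw => (hMel w hw).1)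
        (by rw [normalizer_eq_top_iff.mpr hMn]; exact le_top)
        (fun x hx y hy => hUM (hcomm x hx y hy)) hm (fun x hx => hUM (hpow x hx))
        (by rw [normalizer_eq_top_iff.mpr hMn]; exact mem_top a)
        (by rw [normalizer_eq_top_iff.mpr ‹K.Normal›]; exact mem_top a)
        fun w hw => hquad w (hMB hw)
    set f := QuotientGroup.mk' M
    have hf := QuotientGroup.mk'_surjective M
    have hlt : Nat.card (B.map f) < Nat.card B := by
      have h1 := Solvable.card_map_mk'_eq M hMB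
      have h2 : 1 < Nat.card M := (Subgroup.one_lt_card_iff_ne_bot M).mpr hM1
      have h3 : 0 < Nat.card (B.map f) := Nat.card_pos
      calc Nat.card (B.map f) = Nat.card (B.map f) * 1 := (mul_one _).symm
        _ < Nat.card (B.map f) * Nat.card M := Nat.mul_lt_mul_of_pos_left h2 h3
        _ = Nat.card B := h1
    have : (K.map f).Normal := Subgroup.Normal.map inferInstance f hf
    have : (U.map f).Normal := Subgroup.Normal.map inferInstance f hf
    have : (B.map f).Normal := Subgroup.Normal.map inferInstance f hf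
    obtain ⟨D, hDn, haD, hD⟩ := ih _ hlt (H ⧸ M) (K.map f) (U.map f) (hU.map f)
      (by
        rintro _ ⟨x, hx, rfl⟩ _ ⟨y, hy, rfl⟩
        rw [← map_inv, ← map_inv, ← map_mul, ← map_mul, ← map_mul]
        exact mem_map_of_mem f (hcomm x hx y hy))
      (by
        rintro _ ⟨x, hx, rfl⟩
        rw [← map_pow]
        exact mem_map_of_mem f (hpow x hx))
      (B.map f) (hB.map f) (a := f a) (by
        rintro _ ⟨x, hx, rfl⟩
        simp only [← map_inv, ← map_mul, hquad x hx]) rfl
    refine ⟨D.comap f ⊓ centralizer (M : Set H), Subgroup.normal_inf_normal _ _,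
      fun k hk => mem_inf.mpr ⟨?_, haM k hk⟩, fun g hg hord => ?_⟩
    · rw [mem_comap, map_mul, map_mul, map_mul, map_inv, map_inv]
      exact haD (f k) (mem_map_of_mem f hk)
    have hgB : f g ∈ centralizer (B.map f : Set (H ⧸ M)) :=
      hD _ hg.1 (hord.coprime_dvd_left (orderOf_map_dvd f g))
    rw [mem_centralizer_iff]
    intro x hx
    have hz : g * x * g⁻¹ * x⁻¹ ∈ M := by
      rw [← QuotientGroup.eq_one_iff]
      show f (g * x * g⁻¹ * x⁻¹) = 1
      rw [map_mul, map_mul, map_mul, map_inv, map_inv,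
        ← mem_centralizer_iff.mp hgB _ ⟨x, hx, rfl⟩]
      group
    have := OddLocal.conj_eq_of_stabilizes M g x hz
      (mul_inv_eq_iff_eq_mul.mpr (mem_centralizer_iff.mp hg.2 _ hz).symm) (by
        obtain ⟨k, hk⟩ := IsPGroup.iff_card.mp hMp
        rw [hk]; exact hord.pow_right k)
    exact (mul_inv_eq_iff_eq_mul.mp this).symm

end CfsgLib.Complement
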