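import Cfsg.Agent.Lib.Complement.Thompson
import Cfsg.Agent.Lib.Complement.Stability

/-!
# The Glauberman–Thompson normal `p`-complement theorem
-/

set_option autoImplicit false

namespace CfsgLib.Complement

open Subgroup
open scoped commutatorElement

universe u

variable {G : Type u} [Group G]

/-- Glauberman: `Z(J(S)) ⊓ B` is normal for every normal `p`-subgroup `B`. -/
theorem centerThompsonOf_inf_normal_of_stable [Finite G] {p : ℕ} [hp : Fact p.Prime] (hp2 : Odd p)
    (S : Sylow p G)
    (hstab : ∀ B : Subgroup G, B.Normal → IsPGroup p B → ∀ a ∈ (S : Subgroup G),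
      (∀ x ∈ B, a * (a * x * a⁻¹ * x⁻¹) * a⁻¹ = a * x * a⁻¹ * x⁻¹) →
      ∃ K : Subgroup G, K.Normal ∧ a ∈ K ∧
        ∀ g ∈ K, (orderOf g).Coprime p → g ∈ Subgroup.centralizer (B : Set G)) :
    ∀ B : Subgroup G, B.Normal → IsPGroup p B →
      (Cfsg.centerThompsonOf p (S : Subgroup G) ⊓ B).Normal := by
  intro B
  induction hn : Nat.card B using Nat.strong_induction_on generalizing B with
  | _ n ih =>
    subst hn
    intro hBn hBp
    set J := Cfsg.thompsonSubgroupOf p (S : Subgroup G) with hJ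
    set Z := Cfsg.centerThompsonOf p (S : Subgroup G) with hZ
    set X := Z ⊓ B with hX
    by_cases hB1 : B = ⊥
    · have : X = ⊥ := le_bot_iff.mp (inf_le_right.trans hB1.le)
      rw [this]; infer_instance
    have hBS : B ≤ (S : Subgroup G) := CfsgLib.Solvable.normal_pgroup_le_sylow hBp S
    have hZS : Z ≤ (S : Subgroup G) := OddLocal.centerThompsonOf_le _
    have hSX : (S : Subgroup G) ≤ Subgroup.normalizer (X : Set G) := fun s hs => by
      rw [Subgroup.mem_normalizer_iff_map_conj_eq, Subgroup.map_inf _ _ _ (MulAut.conj s).injective,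
        Subgroup.mem_normalizer_iff_map_conj_eq.mp
          (OddLocal.normalizer_le_normalizer_centerThompsonOf _ (Subgroup.le_normalizer hs)),
        Subgroup.mem_normalizer_iff_map_conj_eq.mp (Subgroup.normalizer_eq_top B ▸ Subgroup.mem_top s)]
    -- reduce to `B` generated by the conjugates of `X`
    set N := Subgroup.normalClosure (X : Set G)
    have hNB : N ≤ B := Subgroup.normalClosure_le_normal (inf_le_right : X ≤ B)
    by_cases hNlt : N = B
    swap
    · have hcard : Nat.card N < Nat.card B := lt_of_le_of_ne (Subgroup.card_le_of_le hNB)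
        fun h => hNlt (Subgroup.eq_of_le_of_card_ge hNB h.ge)
      have := ih _ hcard N rfl Subgroup.normalClosure_normal (hBp.to_le hNB)
      rwa [show Z ⊓ N = X from le_antisymm (inf_le_inf_left Z hNB)
        (le_inf inf_le_left Subgroup.le_normalClosure)] at this
    -- the derived subgroup of `B`
    have hDn : (⁅B, B⁆ : Subgroup G).Normal := Subgroup.commutator_normal B B
    have hDB : ⁅B, B⁆ ≤ B := Subgroup.commutator_le_left B B
    have hDlt : Nat.card ↥⁅B, B⁆ < Nat.card B := by
      refine lt_of_le_of_ne (Subgroup.card_le_of_le hDB) fun h => ?_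
      have hBB : ⁅B, B⁆ = B := Subgroup.eq_of_le_of_card_ge hDB h.ge
      have : Nontrivial B := (Subgroup.nontrivial_iff_ne_bot B).mpr hB1
      have := hBp.isNilpotent
      refine (Group.IsSolvable.commutator_lt_top_of_nontrivial (G := B)).ne ?_
      apply Subgroup.map_injective B.subtype_injective
      rw [← MonoidHom.range_eq_map, Subgroup.range_subtype, _root_.commutator_def,
        Subgroup.map_commutator, ← MonoidHom.range_eq_map, Subgroup.range_subtype, hBB]
    set W := Z ⊓ ⁅B, B⁆
    have hWn : W.Normal := ih _ hDlt _ rfl hDn (hBp.to_le hDB)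
    have hWc : ∀ w ∈ W, ∀ g : G, ∀ x ∈ X, Commute w (g * x * g⁻¹) := by
      intro w hw g x hx
      have h1 : g⁻¹ * w * g ∈ Z := ((hWn.conj_mem' w hw g)).1
      have h2 : Commute (g⁻¹ * w * g) x := (hx.1.2 _ h1.1)
      have := h2.map (MulAut.conj g).toMonoidHom
      simpa [mul_assoc] using this
    have hDW : ⁅B, B⁆ ≤ W := by
      rw [Subgroup.commutator_le]
      intro s hs t ht
      rw [← hNlt] at hs
      have key : N ≤ (Subgroup.centralizer ((B.map (QuotientGroup.mk' W) : Subgroup (G ⧸ W)) : Set (G ⧸ W))).comap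
          (QuotientGroup.mk' W) := by
        have : (B.map (QuotientGroup.mk' W)).Normal := hBn.map _ (QuotientGroup.mk'_surjective W)
        refine Subgroup.normalClosure_le_normal ?_
        intro x hx
        rw [SetLike.mem_coe, Subgroup.mem_comap, Subgroup.mem_centralizer_iff]
        rintro _ ⟨b, hb, rfl⟩
        rw [← map_mul, ← map_mul]
        refine QuotientGroup.eq.mpr ?_
        have hbX : b⁻¹ * x * b ∈ X := (Subgroup.mem_normalizer_iff''.mp (hSX (hBS hb)) x).mp hx
        refine ⟨?_, ?_⟩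
        · have : (b * x)⁻¹ * (x * b) = x⁻¹ * (b⁻¹ * x * b) := by group
          rw [this]
          exact Z.mul_mem (Z.inv_mem hx.1) hbX.1
        · have : (b * x)⁻¹ * (x * b) = ⁅x⁻¹, b⁻¹⁆ := by rw [commutatorElement_def]; group
          rw [this]
          exact Subgroup.commutator_mem_commutator (B.inv_mem hx.2) (B.inv_mem hb)
      have h := Subgroup.mem_centralizer_iff.mp (key hs) _ ⟨t, ht, rfl⟩
      rw [← QuotientGroup.eq_one_iff]
      show QuotientGroup.mk' W ⁅s, t⁆ = 1
      rw [map_commutatorElement, commutatorElement_eq_one_iff_commute]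
      exact h.symm
    have hWB : B ≤ Subgroup.centralizer (W : Set G) := by
      rw [← hNlt]
      refine (Subgroup.closure_le _).mpr ?_
      intro y hy
      obtain ⟨x, hx, hxy⟩ := Group.mem_conjugatesOfSet_iff.mp hy
      obtain ⟨g, rfl⟩ := isConj_iff.mp hxy
      exact fun w hw => (hWc w hw g x hx).eq
    have hB2 : ∀ x ∈ B, ∀ y ∈ B, ∀ z ∈ B, Commute z (x * y * x⁻¹ * y⁻¹) := fun x hx y hy z hz =>
      (hWB hz _ (hDW (Subgroup.commutator_mem_commutator hx hy))).symm
    set B₁ := OddLocal.omegaSub p hp2 B hB2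
    have hB₁B : B₁ ≤ B := fun x hx => hx.1
    have hB₁n : B₁.Normal := ⟨fun x hx g => ⟨hBn.conj_mem x hx.1 g, by rw [conj_pow, hx.2]; group⟩⟩
    have hB₁p : IsPGroup p B₁ := hBp.to_le hB₁B
    -- the largest normal subgroup normalizing `X`
    set L := (Subgroup.normalizer (X : Set G)).normalCore
    have hLn : L.Normal := Subgroup.normalCore_normal _
    by_contra hnot
    set R := (S : Subgroup G) ⊓ L
    have hLX : L ≤ Subgroup.normalizer (X : Set G) := Subgroup.normalCore_le _
    have htop : ∀ Y : Subgroup G, L ≤ Y → Subgroup.normalizer (R : Set G) ≤ Y → Y = ⊤ := fun Y h1 h2 =>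
      top_le_iff.mp fun g _ => by
        obtain ⟨c, hc, n, hn, rfl⟩ := CfsgLib.PLocal.frattini_mul S L g
        exact Y.mul_mem (h1 hc) (h2 hn)
    have hAL : ∃ A ∈ CfsgLib.PLocal.maxElemIn p (S : Subgroup G), ¬ A ≤ L := by
      by_contra hall
      apply hnot
      have hall' : J ≤ R := by
        refine le_inf (CfsgLib.PLocal.thompsonOf_le _) ?_
        rw [hJ, CfsgLib.PLocal.thompsonOf_eq]
        exact sSup_le fun A hA => by_contra fun h => hall ⟨A, hA, h⟩
      refine Subgroup.normalizer_eq_top_iff.mp (htop _ hLX ?_)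
      intro g hg
      have h2 : g ∈ Subgroup.normalizer (Z : Set G) := by
        have := OddLocal.normalizer_le_normalizer_centerThompsonOf (p := p) R hg
        rwa [show Cfsg.centerThompsonOf p R = Z by
          rw [hZ, Cfsg.centerThompsonOf, Cfsg.centerThompsonOf,
            CfsgLib.PLocal.thompsonOf_eq_of_le hall' inf_le_left]] at this
      rw [Subgroup.mem_normalizer_iff_map_conj_eq, Subgroup.map_inf _ _ _ (MulAut.conj g).injective,
        Subgroup.mem_normalizer_iff_map_conj_eq.mp h2,
        Subgroup.mem_normalizer_iff_map_conj_eq.mp (Subgroup.normalizer_eq_top B ▸ Subgroup.mem_top g)]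
    -- quadratic elements on `B₁` lie in `L`
    have hquadL : ∀ a ∈ (S : Subgroup G),
        (∀ x ∈ B₁, a * (a * x * a⁻¹ * x⁻¹) * a⁻¹ = a * x * a⁻¹ * x⁻¹) → a ∈ L := by
      intro a haS hq
      obtain ⟨K, hKn, haK, hK⟩ := hstab B₁ hB₁n hB₁p a haS hq
      set C := Subgroup.centralizer (B : Set G)
      have hK' : ∀ g ∈ K, (orderOf g).Coprime p → g ∈ C := by
        intro g hg hord
        refine OddLocal.le_centralizer_of_fixes_order_p (fun h => absurd (h ▸ hp2 : Odd 2) (by decide)) hBp
          (le_top.trans (Subgroup.normalizer_eq_top B).ge) (by rwa [Nat.card_zpowers]) ?_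
          (Subgroup.mem_zpowers g)
        intro x hx hxp c hc
        have h1 : g ∈ Subgroup.centralizer (B₁ : Set G) := hK g hg hord
        have h2 : c ∈ Subgroup.centralizer (B₁ : Set G) := (Subgroup.zpowers_le.mpr h1) hc
        rw [← Subgroup.mem_centralizer_iff.mp h2 x ⟨hx, hxp⟩, mul_inv_cancel_right]
      have hmap := OddLocal.map_le_pCore_of_p'_le C K hK'
      set f := QuotientGroup.mk' C
      have := CfsgLib.Solvable.pCore_normal p (G ⧸ C)
      have hPL : (Cfsg.pCore p (G ⧸ C)).comap f ≤ L := by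
        refine (Subgroup.normal_le_normalCore (hN := Subgroup.Normal.comap inferInstance f)).mpr ?_
        intro g hg
        obtain ⟨s, hs, hsg⟩ :=
          CfsgLib.Solvable.pCore_le_sylow (S.mapSurjective (QuotientGroup.mk'_surjective C)) hg
        have h1 : s⁻¹ * g ∈ C := QuotientGroup.eq.mp hsg
        have h2 : s⁻¹ * g ∈ Subgroup.normalizer (X : Set G) :=
          Subgroup.centralizer_le_normalizer _ (Subgroup.centralizer_le (inf_le_right : X ≤ B) h1)
        simpa using Subgroup.mul_mem _ (hSX hs) h2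
      exact hPL (hmap ⟨a, haK, rfl⟩)
    obtain ⟨A, ⟨hAmem, hAnL⟩, hAmax⟩ := Set.exists_max_image
      {A | A ∈ CfsgLib.PLocal.maxElemIn p (S : Subgroup G) ∧ ¬ A ≤ L}
      (fun A => Nat.card ↥(A ⊓ B₁)) (Set.toFinite _) (by obtain ⟨A, h1, h2⟩ := hAL; exact ⟨A, h1, h2⟩)
    obtain ⟨a, haA, haL⟩ := SetLike.not_le_iff_exists.mp hAnL
    have hnn : ¬ B₁ ≤ Subgroup.normalizer (A : Set G) := fun h =>
      haL (hquadL a (hAmem.1 haA) fun x hx => OddLocal.quad_of_normalizes hAmem.2.1.1 haA (h hx))
    obtain ⟨A', hA', hA'N, hlt⟩ := OddLocal.elementary_replacement hp2 S.2 hAmem (hB₁B.trans hBS)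
      (le_top.trans (Subgroup.normalizer_eq_top B₁).ge) (fun x hx => hx.2)
      (fun x hx y hy z hz => hB2 x hx.1 y hy.1 z hz.1)
      (fun x hx y hy b hb => by
        have h : x * y * x⁻¹ * y⁻¹ ∈ Z := (hDW (Subgroup.commutator_mem_commutator hx.1 hy.1)).1
        exact h.2 b (CfsgLib.PLocal.le_thompsonOf hAmem hb)) hnn
    have hA'L : A' ≤ L := by
      by_contra h
      exact absurd (hAmax A' ⟨hA', h⟩) (not_le.mpr hlt)
    have hA'R : A' ≤ R := le_inf hA'.1 hA'L
    -- `B` centralizes `A'`
    set JR := Cfsg.thompsonSubgroupOf p R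
    have hJR : JR ≤ J := by
      have h1 : JR = _ := CfsgLib.PLocal.thompsonOf_eq R
      rw [h1, hJ, CfsgLib.PLocal.thompsonOf_eq]
      refine sSup_le fun E hE => le_sSup ?_
      exact ((CfsgLib.PLocal.maxElemIn_of_le inf_le_left hA' hA'R).mp hE).1
    have hA'JR : A' ≤ JR := CfsgLib.PLocal.le_thompsonOf
      ((CfsgLib.PLocal.maxElemIn_of_le inf_le_left hA' hA'R).mpr ⟨hA', hA'R⟩)
    have hXJR : X ≤ Subgroup.centralizer (JR : Set G) :=
      inf_le_left.trans (inf_le_right.trans (Subgroup.centralizer_le hJR))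
    have hBc : B ≤ Subgroup.centralizer (JR : Set G) := by
      rw [← hNlt]
      refine (Subgroup.closure_le _).mpr ?_
      intro y hy
      obtain ⟨x, hx, hxy⟩ := Group.mem_conjugatesOfSet_iff.mp hy
      obtain ⟨g, rfl⟩ := isConj_iff.mp hxy
      obtain ⟨c, hc, n, hn, he⟩ := CfsgLib.PLocal.frattini_mul S L g⁻¹
      obtain ⟨r, hr, l, hl, rfl⟩ : ∃ r ∈ Subgroup.normalizer (R : Set G), ∃ l ∈ L, g = r * l :=
        ⟨n⁻¹, Subgroup.inv_mem _ hn, c⁻¹, L.inv_mem hc, by rw [← inv_inv g, he]; group⟩
      have h1 : l * x * l⁻¹ ∈ X := (Subgroup.mem_normalizer_iff.mp (hLX hl) x).mp hx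
      have h2 := CfsgLib.PLocal.normalizer_le_normalizer_thompsonOf (p := p) R hr
      intro j hj
      have h3 : r⁻¹ * j * r ∈ JR := (Subgroup.mem_normalizer_iff''.mp h2 j).mp hj
      have h4 : Commute (r⁻¹ * j * r) (l * x * l⁻¹) := hXJR h1 _ h3
      have := (h4.map (MulAut.conj r).toMonoidHom).eq
      simpa [mul_assoc] using this
    have hB₁A' : B₁ ≤ A' := fun x hx => CfsgLib.PLocal.mem_maxElemIn_of_centralizes hA' (hBS hx.1) hx.2
      (fun b hb => hBc hx.1 b (hA'JR hb))
    exact haL (hquadL a (hAmem.1 haA) fun x hx =>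
      OddLocal.quad_of_normalizes hAmem.2.1.1 haA (hA'N (hB₁A' hx)))

theorem not_minimalFailure_centerThompson [Finite G] {p : ℕ} [hp : Fact p.Prime] (hp2 : p ≠ 2)
    (P : Sylow p G) (U M : Subgroup G) (m : ℕ)
    (h : MinimalFailure (fun _ : Unit => centerThompsonFunctor.{u} p) P U M m) : False := by
  have hUn := h.normal_U
  have hMn := h.normal_M
  have hloc : normalizer (Cfsg.centerThompsonOf p (P : Subgroup G) : Set G) = P := h.loc_eq ()
  have hstab : ∀ B : Subgroup G, B.Normal → IsPGroup p B → ∀ a ∈ (P : Subgroup G),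
      (∀ x ∈ B, a * (a * x * a⁻¹ * x⁻¹) * a⁻¹ = a * x * a⁻¹ * x⁻¹) →
      ∃ K : Subgroup G, K.Normal ∧ a ∈ K ∧
        ∀ g ∈ K, (orderOf g).Coprime p → g ∈ centralizer (B : Set G) := by
    intro B hBn hBp a ha hq
    have htriv : ∀ (L : Subgroup G), IsPGroup p L → ∀ g ∈ L, (orderOf g).Coprime p → g = 1 := by
      intro L hL g hg hord
      obtain ⟨k, hk⟩ := IsPGroup.iff_orderOf.mp hL ⟨g, hg⟩
      rw [Subgroup.orderOf_mk] at hk
      exact orderOf_eq_one_iff.mp (Nat.eq_one_of_dvd_coprimes (hord.pow_right k) dvd_rfl hk.dvd)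
    set C := centralizer (B : Set G) with hC
    have hCn : C.Normal := inferInstance
    rcases h.sylow_maximal ((P : Subgroup G) ⊔ C) le_sup_left with hs | hs
    · -- `C(B)` is a `p`-group
      have hCU : C ≤ U := h.U_max C hCn (P.2.to_le (le_sup_right.trans hs.le))
      obtain ⟨D, hDn, hDa, hD⟩ := exists_normal_of_quadratic_layer hp2 G M U h.isPGroup_U h.coprime_m
        h.commutator_M h.pow_m B hBp hq
      have hDU : D ≤ U := by
        refine h.U_max D hDn fun g => ?_
        obtain ⟨g, hg⟩ := g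
        refine ⟨(orderOf g).factorization p, Subtype.ext ?_⟩
        show g ^ _ = (1 : G)
        set x := g ^ p ^ (orderOf g).factorization p with hxdef
        have hx : (orderOf x).Coprime p := by
          rw [hxdef, orderOf_pow' g (pow_ne_zero _ hp.out.ne_zero),
            Nat.gcd_eq_right (Nat.ordProj_dvd (orderOf g) p)]
          exact (Nat.coprime_ordCompl hp.out (orderOf_pos g).ne').symm
        exact htriv U h.isPGroup_U x (hCU (hD x (pow_mem hg _) hx)) hx
      exact ⟨U, hUn, h.faithful a ha fun k hk => hDU (hDa k hk), fun g hg hord => by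
        rw [htriv U h.isPGroup_U g hg hord]; exact one_mem _⟩
    · -- `G = P C(B)`
      refine ⟨⊤, inferInstance, mem_top a, fun g _ hord => ?_⟩
      obtain ⟨k, hk⟩ := IsPGroup.iff_card.mp
        (P.2.map (QuotientGroup.mk' C) : IsPGroup p ((P : Subgroup G).map (QuotientGroup.mk' C)))
      have htop : (P : Subgroup G).map (QuotientGroup.mk' C) = ⊤ := by
        rw [← Subgroup.map_top_of_surjective _ (QuotientGroup.mk'_surjective C), ← hs, Subgroup.map_sup,
          (map_eq_bot_iff C).mpr (QuotientGroup.ker_mk' C).ge, sup_bot_eq]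
      rw [htop, card_top] at hk
      rw [← QuotientGroup.eq_one_iff]
      refine orderOf_eq_one_iff.mp (Nat.eq_one_of_dvd_coprimes (hord.pow_right k)
        (orderOf_map_dvd (QuotientGroup.mk' C) g) ?_)
      rw [← hk]
      exact orderOf_dvd_natCard _
  set Z := Cfsg.centerThompsonOf p (P : Subgroup G) with hZ
  have hPtop : (P : Subgroup G) ≠ ⊤ := fun e => h.not_complement
    (hasNormalPComplement_of_top (e ▸ hloc ▸ h.local_complement ()))
  have hZU : Z ≤ U := by
    intro a ha
    obtain ⟨K, hKn, haK, hK⟩ := hstab U hUn h.isPGroup_U a (OddLocal.centerThompsonOf_le _ ha)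
      fun x hx => OddLocal.quad_of_normalizes (OddLocal.centerThompsonOf_comm _) ha
        (hloc.ge (h.U_le hx))
    refine h.U_max K hKn (fun g => ?_) haK
    obtain ⟨g, hg⟩ := g
    refine ⟨(orderOf g).factorization p, Subtype.ext ?_⟩
    show g ^ _ = (1 : G)
    set x := g ^ p ^ (orderOf g).factorization p with hxdef
    have hx : (orderOf x).Coprime p := by
      rw [hxdef, orderOf_pow' g (pow_ne_zero _ hp.out.ne_zero),
        Nat.gcd_eq_right (Nat.ordProj_dvd (orderOf g) p)]
      exact (Nat.coprime_ordCompl hp.out (orderOf_pos g).ne').symm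
    obtain ⟨k, hk⟩ := IsPGroup.iff_orderOf.mp h.isPGroup_U
      ⟨x, h.centralizer_le (hK x (pow_mem hg _) hx)⟩
    rw [Subgroup.orderOf_mk] at hk
    exact orderOf_eq_one_iff.mp (Nat.eq_one_of_dvd_coprimes (hx.pow_right k) dvd_rfl hk.dvd)
  have hn := centerThompsonOf_inf_normal_of_stable (hp.out.odd_of_ne_two hp2) P hstab U hUn h.isPGroup_U
  rw [inf_eq_left.mpr hZU] at hn
  exact hPtop (hloc.symm.trans (normalizer_eq_top_iff.mpr hn))

/-- **Glauberman–Thompson**: for odd `p`, a normal `p`-complement in `N(Z(J(P)))` gives one in `G`. -/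
theorem hasNormalPComplement_of_centerThompson [Finite G] {p : ℕ} [Fact p.Prime] (hp2 : p ≠ 2)
    (P : Sylow p G) (hZ : Cfsg.HasNormalPComplement p
      (normalizer (Cfsg.centerThompsonOf p (P : Subgroup G) : Set G))) :
    Cfsg.HasNormalPComplement p G :=
  hasNormalPComplement_of_local (fun _ : Unit => centerThompsonFunctor.{u} p) () (fun _ => rfl)
    (fun _ _ _ P U M m h => not_minimalFailure_centerThompson hp2 P U M m h) G P fun _ => hZ

end CfsgLib.Complement
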