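import Cfsg.Prelude.Def_LocalEven
import Mathlib

/-!
# An element of order three inverted on an elementary abelian 2-group gives a section `S₄`
-/

set_option autoImplicit false

namespace CfsgLib.Complement

open Subgroup

universe u

variable {G : Type u} [Group G]

/-- A group acting on the elementary abelian group `W` by an element `k` of order three and an element
`a` inverting it involves `S₄`. -/
theorem involves_symFour [Finite G] {W : Subgroup G} (hWc : ∀ x ∈ W, ∀ y ∈ W, x * y = y * x)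
    (hW2 : ∀ x ∈ W, x * x = 1) {a k : G} (haW : a ∈ normalizer (W : Set G))
    (hkW : k ∈ normalizer (W : Set G)) (hk3 : k ^ 3 ∈ centralizer (W : Set G))
    (hk : k ∉ centralizer (W : Set G)) (ha2 : a * a ∈ centralizer (W : Set G))
    (hinv : a * k * a⁻¹ * k ∈ centralizer (W : Set G)) :
    Cfsg.Involves (Equiv.Perm (Fin 4)) G := by
  classical
  have hp2 : ∀ x ∈ W, x⁻¹ = x := fun x hx => inv_eq_of_mul_eq_one_left (hW2 x hx)
  obtain ⟨cj, hcj⟩ : ∃ cj : G → G → G, ∀ g x, cj g x = g * x * g⁻¹ := ⟨_, fun _ _ => rfl⟩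
  have cjW : ∀ g ∈ normalizer (W : Set G), ∀ x ∈ W, cj g x ∈ W := fun g hg x hx =>
    (hcj g x).symm ▸ (mem_normalizer_iff.mp hg x).mp hx
  have cjC : ∀ g ∈ centralizer (W : Set G), ∀ x ∈ W, cj g x = x := fun g hg x hx => by
    rw [hcj, ← mem_centralizer_iff.mp hg x hx, mul_inv_cancel_right]
  have cjm : ∀ g h x, cj (g * h) x = cj g (cj h x) := fun g h x => by simp only [hcj]; group
  have cjx : ∀ g x y, cj g (x * y) = cj g x * cj g y := fun g x y => by simp only [hcj]; group
  have hk3' : ∀ x ∈ W, cj k (cj k (cj k x)) = x := fun x hx => by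
    rw [← cjm, ← cjm, ← pow_two, ← pow_succ]
    exact cjC _ hk3 x hx
  have ha2' : ∀ x ∈ W, cj a (cj a x) = x := fun x hx => by rw [← cjm]; exact cjC _ ha2 x hx
  have hak : ∀ x ∈ W, cj a (cj k x) = cj k (cj k (cj a x)) := by
    intro x hx
    have h1 : cj a (cj k (cj a⁻¹ (cj k (cj k (cj k (cj a x)))))) = cj a (cj k x) := by
      rw [hk3' _ (cjW a haW x hx), ← cjm a⁻¹ a, inv_mul_cancel]
      simp [hcj]
    rw [← h1, ← cjm k (a⁻¹), ← cjm a, ← cjm _ k, show a * (k * a⁻¹) * k = a * k * a⁻¹ * k by group]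
    exact cjC _ hinv _ (cjW k hkW _ (cjW k hkW _ (cjW a haW x hx)))
  -- a fixed point of `a` with trivial norm
  obtain ⟨y, hyW, hy1, hyn, hya⟩ : ∃ y ∈ W, y ≠ 1 ∧ y * cj k y * cj k (cj k y) = 1 ∧ cj a y = y := by
    obtain ⟨x, hx, hxk⟩ : ∃ x ∈ W, cj k x ≠ x := by
      by_contra hcon
      push Not at hcon
      exact hk (mem_centralizer_iff.mpr fun x hx => by
        have := hcon x hx
        rw [hcj] at this
        exact (mul_inv_eq_iff_eq_mul.mp this).symm)
    have hkx := cjW k hkW x hx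
    have hkkx := cjW k hkW _ hkx
    set n := x * cj k x with hn
    have hnW : n ∈ W := W.mul_mem hx hkx
    have hn1 : n ≠ 1 := fun e => hxk (by
      have := mul_eq_one_iff_eq_inv.mp e
      rw [hp2 _ hkx] at this
      exact this.symm)
    have hnn : n * cj k n * cj k (cj k n) = 1 := by
      rw [hn, cjx, cjx, hk3' x hx]
      calc x * cj k x * (cj k x * cj k (cj k x)) * (cj k (cj k x) * x)
          = x * (cj k x * cj k x) * (cj k (cj k x) * cj k (cj k x)) * x := by group
        _ = 1 := by rw [hW2 _ hkx, hW2 _ hkkx, mul_one, mul_one, hW2 x hx]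
    clear_value n
    by_cases h : cj a n = n
    · exact ⟨n, hnW, hn1, hnn, h⟩
    have han := cjW a haW n hnW
    refine ⟨n * cj a n, W.mul_mem hnW han, fun e => h ?_, ?_, ?_⟩
    · have := mul_eq_one_iff_eq_inv.mp e
      rw [hp2 _ han] at this
      exact this.symm
    · have hkn := cjW k hkW n hnW
      have hkkn := cjW k hkW _ hkn
      have h2 : cj a n * cj k (cj a n) * cj k (cj k (cj a n)) = 1 := by
        rw [← hak n hnW]
        have h3 : cj k (cj a n) = cj a (cj k (cj k n)) := by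
          rw [hak _ hkn, hak n hnW, hk3' _ (cjW k hkW _ han)]
        rw [h3, ← cjx, ← cjx, mul_assoc, hWc _ hkkn _ hkn, ← mul_assoc, hnn]
        simp [hcj]
      rw [cjx, cjx]
      calc n * cj a n * (cj k n * cj k (cj a n)) * (cj k (cj k n) * cj k (cj k (cj a n)))
          = n * (cj a n * cj k n) * cj k (cj a n) * cj k (cj k n) * cj k (cj k (cj a n)) := by group
        _ = n * (cj k n * cj a n) * cj k (cj a n) * cj k (cj k n) * cj k (cj k (cj a n)) := by
            rw [hWc _ han _ hkn]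
        _ = n * cj k n * ((cj a n * cj k (cj a n)) * cj k (cj k n)) * cj k (cj k (cj a n)) := by group
        _ = n * cj k n * (cj k (cj k n) * (cj a n * cj k (cj a n))) * cj k (cj k (cj a n)) := by
            rw [hWc _ (W.mul_mem han (cjW k hkW _ han)) _ hkkn]
        _ = (n * cj k n * cj k (cj k n)) * (cj a n * cj k (cj a n) * cj k (cj k (cj a n))) := by group
        _ = 1 := by rw [hnn, h2, one_mul]
    · rw [cjx, ha2' n hnW, hWc _ han _ hnW]
  set z := cj k y with hz
  have hzW : z ∈ W := cjW k hkW y hyW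
  have hkz : cj k z = y * z := by
    have := mul_eq_one_iff_eq_inv.mp hyn
    rw [hp2 _ (cjW k hkW z hzW)] at this
    exact this.symm
  have haz : cj a z = y * z := by rw [hz, hak y hyW, hya]; exact hkz
  have hzy : z ≠ y := fun e => by
    have h := hkz
    rw [e, ← hz, e, hW2 y hyW] at h
    exact hy1 h
  have hz1 : z ≠ 1 := fun e => hy1 (by
    have h : k * y * k⁻¹ = 1 := by rw [← hcj]; exact e
    simpa using h)
  -- the four-group
  let V : Subgroup G :=
    { carrier := {x | 1 = x ∨ y = x ∨ z = x ∨ y * z = x}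
      one_mem' := Or.inl rfl
      inv_mem' := fun {x} hx => by
        have hxW : x ∈ W := by
          rcases hx with rfl | rfl | rfl | rfl
          exacts [W.one_mem, hyW, hzW, W.mul_mem hyW hzW]
        show 1 = x⁻¹ ∨ y = x⁻¹ ∨ z = x⁻¹ ∨ y * z = x⁻¹
        rw [hp2 x hxW]; exact hx
      mul_mem' := fun {u v} hu hv => by
        have e1 : z * y = y * z := hWc _ hzW _ hyW
        have e2 : y * (y * z) = z := by rw [← mul_assoc, hW2 y hyW, one_mul]
        have e3 : z * (y * z) = y := by rw [← mul_assoc, e1, mul_assoc, hW2 z hzW, mul_one]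
        have e4 : y * z * y = z := by rw [← e1, mul_assoc, hW2 y hyW, mul_one]
        have e5 : y * z * z = y := by rw [mul_assoc, hW2 z hzW, mul_one]
        have e6 : y * z * (y * z) = 1 := hW2 _ (W.mul_mem hyW hzW)
        rcases hu with rfl | rfl | rfl | rfl <;> rcases hv with rfl | rfl | rfl | rfl <;>
          simp only [Set.mem_ofPred_eq, one_mul, mul_one, hW2 y hyW, hW2 z hzW, e1, e2, e3, e4, e5, e6,
            true_or, or_true] }
  have hyV : y ∈ V := Or.inr (Or.inl rfl)
  have hzV : z ∈ V := Or.inr (Or.inr (Or.inl rfl))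
  have hVW : V ≤ W := by
    intro x hx
    rcases hx with rfl | rfl | rfl | rfl
    exacts [W.one_mem, hyW, hzW, W.mul_mem hyW hzW]
  have hV4 : 4 ≤ Nat.card V := by
    let φ : Fin 4 → V := ![1, ⟨y, hyV⟩, ⟨z, hzV⟩, ⟨y * z, V.mul_mem hyV hzV⟩]
    have hyz : y * z ≠ 1 := fun e => hzy (by
      have := mul_eq_one_iff_eq_inv.mp e
      rw [hp2 z hzW] at this
      exact this.symm)
    have hinj : Function.Injective φ := by
      intro i j hij
      have h := congrArg Subtype.val hij
      fin_cases i <;> fin_cases j <;>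
        simp [φ, hy1, hz1, hzy, hyz, hy1.symm, hz1.symm, hzy.symm, hyz.symm] at h ⊢
    simpa using Nat.card_le_card_of_injective φ hinj
  have hVfix : ∀ v ∈ V, cj k v = v → v = 1 := by
    intro v hv h
    rcases hv with rfl | rfl | rfl | rfl
    · rfl
    · exact absurd h hzy
    · exact absurd (mul_eq_right.mp (hkz.symm.trans h)) hy1
    · have h' : cj k (y * z) = y := by
        rw [cjx, hkz, ← hz, ← mul_assoc, hWc _ hzW _ hyW, mul_assoc, hW2 z hzW, mul_one]
      exact absurd (mul_eq_left.mp (h'.symm.trans h).symm) hz1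
  have hnorm : ∀ g : G, cj g y ∈ V → cj g z ∈ V → g ∈ normalizer (V : Set G) := by
    intro g h1 h2
    rw [mem_normalizer_iff_map_conj_eq]
    refine eq_of_le_of_card_ge ?_ (card_map_of_injective (MulAut.conj g).injective).ge
    rintro _ ⟨x, hx, rfl⟩
    show g * x * g⁻¹ ∈ V
    rw [← hcj]
    rcases hx with rfl | rfl | rfl | rfl
    · simp [hcj]
    · exact h1
    · exact h2
    · rw [cjx]; exact V.mul_mem h1 h2
  have hkV : k ∈ normalizer (V : Set G) := hnorm k hzV (hkz ▸ V.mul_mem hyV hzV)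
  have haV : a ∈ normalizer (V : Set G) := hnorm a (hya.symm ▸ hyV) (haz ▸ V.mul_mem hyV hzV)
  -- a complement of `V`
  set X := V ⊔ closure {k, a} with hX
  have hkX : k ∈ X := (le_sup_right : _ ≤ X) (subset_closure (Set.mem_insert _ _))
  have haX : a ∈ X := (le_sup_right : _ ≤ X) (subset_closure (Set.mem_insert_of_mem _ rfl))
  have hXV : X ≤ normalizer (V : Set G) := sup_le le_normalizer ((closure_le _).mpr
    (Set.insert_subset hkV (Set.singleton_subset_iff.mpr haV)))
  set C := (centralizer (V : Set G)).subgroupOf X with hC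
  have hCn : C.Normal := by
    refine ⟨fun c hc g => ?_⟩
    rw [hC, mem_subgroupOf, mem_centralizer_iff] at hc ⊢
    intro v hv
    have hv' := (mem_normalizer_iff''.mp (hXV g.2) v).mp hv
    have := hc _ hv'
    simp only [Subgroup.coe_mul, Subgroup.coe_inv]
    calc v * ((g : G) * c * (g : G)⁻¹) = (g : G) * (((g : G)⁻¹ * v * g) * c) * (g : G)⁻¹ := by group
      _ = (g : G) * (c * ((g : G)⁻¹ * v * g)) * (g : G)⁻¹ := by rw [this]
      _ = _ := by group
  let f := QuotientGroup.mk' C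
  let kx : X := ⟨k, hkX⟩
  let ax : X := ⟨a, haX⟩
  have hfone : ∀ (g : G) (hg : g ∈ X), g ∈ centralizer (W : Set G) → f ⟨g, hg⟩ = 1 := fun g hg h =>
    (QuotientGroup.eq_one_iff _).mpr (mem_subgroupOf.mpr (centralizer_le hVW h))
  have hkC : kx ∉ C := fun h => hzy (by
    have := mem_centralizer_iff.mp (mem_subgroupOf.mp h) y hyV
    rw [hz, hcj, ← this, mul_inv_cancel_right])
  have haC : ax ∉ C := fun h => hy1 (by
    have := mem_centralizer_iff.mp (mem_subgroupOf.mp h) z hzV
    have h' : cj a z = z := by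
      rw [hcj, ← this, mul_inv_cancel_right]
    exact mul_eq_right.mp (haz.symm.trans h'))
  have ho3 : orderOf (f kx) = 3 := by
    refine orderOf_eq_prime ?_ fun h => hkC ((QuotientGroup.eq_one_iff _).mp h)
    rw [← map_pow]; exact hfone _ (X.pow_mem hkX 3) hk3
  have ho2 : orderOf (f ax) = 2 := by
    refine orderOf_eq_prime ?_ fun h => haC ((QuotientGroup.eq_one_iff _).mp h)
    rw [pow_two, ← map_mul]; exact hfone _ (X.mul_mem haX haX) ha2
  set Y := (zpowers (f kx)).comap f with hY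
  have hkak : f ax * f kx * (f ax)⁻¹ = (f kx)⁻¹ := by
    rw [← map_inv, ← map_mul, ← map_mul, ← mul_eq_one_iff_eq_inv, ← map_mul]
    exact hfone _ (X.mul_mem (X.mul_mem (X.mul_mem haX hkX) (X.inv_mem haX)) hkX) hinv
  have hclo : closure ({f kx, f ax} : Set (X ⧸ C)) = ⊤ := by
    have hS : X ≤ ((closure ({f kx, f ax} : Set (X ⧸ C))).comap f).map X.subtype := by
      refine sup_le (fun v hv => ?_) ((closure_le _).mpr ?_)
      · refine ⟨⟨v, (le_sup_left : V ≤ X) hv⟩, ?_, rfl⟩
        rw [SetLike.mem_coe, mem_comap,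
          show f ⟨v, (le_sup_left : V ≤ X) hv⟩ = 1 from (QuotientGroup.eq_one_iff _).mpr (mem_subgroupOf.mpr (mem_centralizer_iff.mpr fun w hw =>
          hWc w (hVW hw) v (hVW hv)))]
        exact one_mem _
      · rintro g (rfl | rfl)
        · exact ⟨kx, subset_closure (Set.mem_insert _ _), rfl⟩
        · exact ⟨ax, subset_closure (Set.mem_insert_of_mem _ rfl), rfl⟩
    refine top_le_iff.mp fun q _ => ?_
    obtain ⟨g, rfl⟩ := QuotientGroup.mk'_surjective C q
    obtain ⟨g', hg', e⟩ := hS g.2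
    exact (Subtype.ext e : g' = g) ▸ hg'
  have hYn : Y.Normal := by
    have : (zpowers (f kx)).Normal := by
      rw [← normalizer_eq_top_iff, ← top_le_iff, ← hclo, closure_le]
      rintro g (rfl | rfl)
      · exact le_normalizer (mem_zpowers _)
      · rw [SetLike.mem_coe, mem_normalizer_iff_map_conj_eq]
        rw [MonoidHom.map_zpowers]
        show zpowers (f ax * f kx * (f ax)⁻¹) = _
        rw [hkak, zpowers_inv]
    infer_instance
  have : Fact (Nat.Prime 3) := ⟨Nat.prime_three⟩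
  obtain ⟨Q⟩ : Nonempty (Sylow 3 Y) := inferInstance
  set Q' := (Q : Subgroup Y).map Y.subtype with hQ'
  set T := normalizer (Q' : Set X) with hT
  have hTY : T ⊔ Y = ⊤ := Sylow.normalizer_sup_eq_top Q
  -- `Q` is not inside `C`
  obtain ⟨g, hgQ, hgC⟩ : ∃ g ∈ Q', g ∉ C := by
    by_contra hcon
    push Not at hcon
    let π : Y →* zpowers (f kx) := f.subgroupComap (zpowers (f kx))
    have hπ : Function.Surjective π := fun q => by
      obtain ⟨g, hg⟩ := QuotientGroup.mk'_surjective C q.1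
      exact ⟨⟨g, show f g ∈ _ from hg ▸ q.2⟩, Subtype.ext hg⟩
    have h1 : (Q : Subgroup Y).map π = ⊥ := by
      rw [eq_bot_iff]
      rintro _ ⟨g, hg, rfl⟩
      exact Subtype.ext ((QuotientGroup.eq_one_iff _).mpr (hcon _ ⟨g, hg, rfl⟩))
    have h2 := (Q.mapSurjective hπ).ne_bot_of_dvd_card
      (show 3 ∣ Nat.card (zpowers (f kx)) by rw [Nat.card_zpowers, ho3])
    exact h2 h1
  have hcomp : V ⊓ T.map X.subtype = ⊥ := by
    rw [eq_bot_iff]
    rintro v ⟨hv, t, ht, rfl⟩
    refine mem_bot.mpr (hVfix _ hv ?_)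
    -- `[t, g] ∈ V ⊓ Q`
    have hQp : IsPGroup 3 Q' := Q.2.map _
    have hgv : (g : G) * t * (g : G)⁻¹ * (t : G)⁻¹ ∈ V :=
      V.mul_mem ((mem_normalizer_iff.mp (hXV g.2) _).mp hv) (V.inv_mem hv)
    have hgQ' : g * t * g⁻¹ * t⁻¹ ∈ Q' := by
      rw [mul_assoc g t, mul_assoc g]
      exact Q'.mul_mem hgQ ((mem_normalizer_iff.mp ht g⁻¹).mp (Q'.inv_mem hgQ))
    obtain ⟨n, hn⟩ := IsPGroup.iff_orderOf.mp hQp ⟨_, hgQ'⟩
    rw [Subgroup.orderOf_mk, ← Subgroup.orderOf_coe] at hn
    have h2 : orderOf ((g * t * g⁻¹ * t⁻¹ : X) : G) ∣ 2 :=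
      orderOf_dvd_of_pow_eq_one (by rw [pow_two]; exact hW2 _ (hVW hgv))
    have h1 := orderOf_eq_one_iff.mp (Nat.eq_one_of_dvd_coprimes
      ((by norm_num : Nat.Coprime 3 2).pow_left n) hn.dvd h2)
    have hfix : cj (g : G) (t : G) = t := (hcj _ _).trans (mul_inv_eq_one.mp h1)
    -- `g` acts as `k` or `k⁻¹`
    have hgY : g ∈ Y := map_subtype_le _ hgQ
    obtain ⟨i, hi⟩ := mem_zpowers_iff.mp (mem_comap.mp hgY)
    have hfg : f g ^ 2 = f kx ∨ f g = f kx := by
      have h3 : f kx ^ 3 = 1 := by rw [← ho3]; exact pow_orderOf_eq_one _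
      have hj : f g = f kx ^ (i % 3 : ℤ) := hi.symm.trans (zpow_eq_zpow_emod' i h3)
      have h0 := Int.emod_nonneg i (show (3 : ℤ) ≠ 0 by norm_num)
      have h3' := Int.emod_lt_of_pos i (show (0 : ℤ) < 3 by norm_num)
      obtain h | h | h : i % 3 = 0 ∨ i % 3 = 1 ∨ i % 3 = 2 := by omega
      · rw [h, zpow_zero] at hj
        exact absurd ((QuotientGroup.eq_one_iff g).mp hj) hgC
      · exact Or.inr (by rw [hj, h, zpow_one])
      · refine Or.inl ?_
        rw [hj, h, show ((2 : ℤ)) = ((2 : ℕ) : ℤ) from rfl, zpow_natCast, ← pow_mul,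
          pow_eq_pow_mod (2 * 2) h3, pow_one]
    obtain ⟨g', hg'fix, hg'⟩ : ∃ g' : X, cj (g' : G) (t : G) = t ∧ f g' = f kx := by
      rcases hfg with h | h
      · exact ⟨g ^ 2, by rw [pow_two, Subgroup.coe_mul, cjm, hfix, hfix], by rw [map_pow, h]⟩
      · exact ⟨g, hfix, h⟩
    have hc := QuotientGroup.eq.mp hg'
    rw [hC, mem_subgroupOf] at hc
    show cj k (t : G) = t
    have hc' : (g' : G)⁻¹ * k ∈ centralizer (V : Set G) := hc
    have e : (t : G) * ((g' : G)⁻¹ * k) = ((g' : G)⁻¹ * k) * t := mem_centralizer_iff.mp hc' _ hv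
    rw [show k = (g' : G) * ((g' : G)⁻¹ * k) by group, cjm,
      show cj ((g' : G)⁻¹ * k) (t : G) = t by rw [hcj, ← e, mul_inv_cancel_right], hg'fix]
  -- the action on the cosets
  set T' := T.map X.subtype with hT'
  have hTV : T' ≤ normalizer (V : Set G) := (map_subtype_le T).trans hXV
  set K := V ⊔ T' with hK
  let H : Subgroup K := T'.subgroupOf K
  have hmem : ∀ g ∈ K, ∃ v ∈ V, ∃ t ∈ T', g = v * t := by
    intro g hg
    rw [hK, ← SetLike.mem_coe, coe_mul_of_right_le_normalizer_left V T' hTV] at hg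
    obtain ⟨v, hv, t, ht, e⟩ := hg
    exact ⟨v, hv, t, ht, e.symm⟩
  let φ : V → K ⧸ H := fun v => QuotientGroup.mk ⟨v, (le_sup_left : V ≤ K) v.2⟩
  have hφ : Function.Bijective φ := by
    constructor
    · intro v w h
      have h' := QuotientGroup.eq.mp h
      rw [mem_subgroupOf] at h'
      have : (v : G)⁻¹ * w ∈ V ⊓ T' := ⟨V.mul_mem (V.inv_mem v.2) w.2, h'⟩
      rw [hcomp, mem_bot] at this
      exact Subtype.ext (inv_mul_eq_one.mp this)
    · intro q
      obtain ⟨g, rfl⟩ := QuotientGroup.mk_surjective q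
      obtain ⟨v, hv, t, ht, e⟩ := hmem g g.2
      refine ⟨⟨v, hv⟩, QuotientGroup.eq.mpr ?_⟩
      rw [mem_subgroupOf]
      show v⁻¹ * (g : G) ∈ T'
      rw [e, inv_mul_cancel_left]
      exact ht
  have hV4' : Nat.card V = 4 := by
    refine le_antisymm ?_ hV4
    let ψ : Fin 4 → V := ![1, ⟨y, hyV⟩, ⟨z, hzV⟩, ⟨y * z, V.mul_mem hyV hzV⟩]
    have hψ : Function.Surjective ψ := by
      rintro ⟨x, hx⟩
      rcases hx with rfl | rfl | rfl | rfl
      exacts [⟨0, rfl⟩, ⟨1, rfl⟩, ⟨2, rfl⟩, ⟨3, rfl⟩]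
    simpa using Nat.card_le_card_of_surjective ψ hψ
  have hcoset : Nat.card (K ⧸ H) = 4 := by rw [← Nat.card_eq_of_bijective φ hφ, hV4']
  let act := MulAction.toPermHom K (K ⧸ H)
  let R := act.ker
  have hRH : R ≤ H := fun r hr => by
    have h : r • ((1 : K) : K ⧸ H) = ((1 : K) : K ⧸ H) :=
      congrArg (fun e : Equiv.Perm (K ⧸ H) => e (QuotientGroup.mk 1)) hr
    rw [MulAction.Quotient.smul_mk, smul_eq_mul, mul_one, eq_comm, QuotientGroup.eq, inv_one,
      one_mul] at h
    exact h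
  have hRC : ∀ r ∈ R, ∀ v ∈ V, v * (r : G) = (r : G) * v := by
    intro r hr v hv
    have h1 := hRH hr
    rw [mem_subgroupOf] at h1
    have h2 := hRH ((act.normal_ker).conj_mem r hr ⟨v, (le_sup_left : V ≤ K) hv⟩)
    rw [mem_subgroupOf] at h2
    have h3 : v * (r : G) * v⁻¹ * (r : G)⁻¹ ∈ V ⊓ T' := by
      refine ⟨?_, T'.mul_mem h2 (T'.inv_mem h1)⟩
      rw [mul_assoc v, mul_assoc v]
      exact V.mul_mem hv ((mem_normalizer_iff.mp (hTV h1) _).mp (V.inv_mem hv))
    rw [hcomp, mem_bot, mul_inv_eq_one, mul_inv_eq_iff_eq_mul] at h3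
    exact h3
  let π : H →* X ⧸ C := f.comp
    { toFun := fun h => (⟨((h : K) : G), map_subtype_le T h.2⟩ : X)
      map_one' := rfl
      map_mul' := fun _ _ => rfl }
  have hπ : Function.Surjective π := by
    intro q
    obtain ⟨g₁, rfl⟩ := QuotientGroup.mk'_surjective C q
    suffices hg : T.map f = ⊤ by
      obtain ⟨t, ht, he⟩ := hg ▸ mem_top (f g₁)
      exact ⟨⟨⟨(t : G), (le_sup_right : T' ≤ K) (mem_map_of_mem X.subtype ht)⟩,
        mem_map_of_mem X.subtype ht⟩, he⟩
    have hQf : zpowers (f kx) ≤ T.map f := by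
      have hgT : g ∈ T := le_normalizer hgQ
      refine zpowers_le.mpr ?_
      obtain ⟨i, hi⟩ := mem_zpowers_iff.mp (mem_comap.mp (map_subtype_le _ hgQ : g ∈ Y))
      have hord : orderOf (f g) = 3 := by
        refine orderOf_eq_prime ?_ fun h => hgC ((QuotientGroup.eq_one_iff _).mp h)
        rw [← hi, ← zpow_natCast, ← zpow_mul, mul_comm, zpow_mul, zpow_natCast,
          show f kx ^ 3 = 1 by rw [← ho3]; exact pow_orderOf_eq_one _, one_zpow]
      have : zpowers (f g) = zpowers (f kx) := eq_of_le_of_card_ge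
        (zpowers_le.mpr (hi ▸ zpow_mem (mem_zpowers _) i))
        (by rw [Nat.card_zpowers, Nat.card_zpowers, hord, ho3])
      exact (zpowers_le.mpr (mem_map_of_mem f hgT) : zpowers (f g) ≤ _) (this ▸ mem_zpowers _)
    rw [← top_le_iff, ← map_top_of_surjective f (QuotientGroup.mk'_surjective C), ← hTY, Subgroup.map_sup]
    exact sup_le le_rfl ((map_comap_le f _).trans hQf)
  have hdvd : Nat.card (X ⧸ C) ∣ (R.subgroupOf H).index := by
    have h1 : R.subgroupOf H ≤ π.ker := fun r hr => (QuotientGroup.eq_one_iff _).mpr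
      (mem_subgroupOf.mpr (mem_centralizer_iff.mpr fun v hv => hRC _ (mem_subgroupOf.mp hr) v hv))
    have h2 := index_dvd_of_le h1
    rwa [index_ker, MonoidHom.range_eq_top.mpr hπ, card_top] at h2
  have h6 : 6 ∣ Nat.card (X ⧸ C) :=
    (by norm_num : Nat.Coprime 2 3).mul_dvd_of_dvd_of_dvd (ho2 ▸ orderOf_dvd_natCard _)
      (ho3 ▸ orderOf_dvd_natCard _)
  have h24 : 24 ≤ R.index := by
    rw [← relIndex_mul_index hRH, show H.index = 4 by rw [index_eq_card, hcoset]]
    have h0 : R.relIndex H ≠ 0 := index_ne_zero_of_finite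
    have : 6 ≤ R.relIndex H := Nat.le_of_dvd (Nat.pos_of_ne_zero h0) (h6.trans hdvd)
    omega
  have : Fintype (K ⧸ H) := Fintype.ofFinite _
  have hperm : Nat.card (Equiv.Perm (K ⧸ H)) = 24 := by rw [Nat.card_perm, hcoset]; rfl
  have hsurj : Function.Surjective act := by
    refine MonoidHom.range_eq_top.mp (eq_top_of_le_card _ ?_)
    rw [hperm, ← index_ker]
    exact h24
  obtain ⟨e⟩ : Nonempty ((K ⧸ H) ≃ Fin 4) := ⟨(Finite.equivFin _).trans (finCongr hcoset)⟩
  let act' : K →* Equiv.Perm (Fin 4) := e.permCongrHom.toMonoidHom.comp act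
  have hsurj' : Function.Surjective act' := e.permCongrHom.surjective.comp hsurj
  have hker : (act'.ker.map K.subtype).subgroupOf K = act'.ker :=
    comap_map_eq_self_of_injective K.subtype_injective _
  have hn : ((act'.ker.map K.subtype).subgroupOf K).Normal := by rw [hker]; infer_instance
  exact ⟨K, act'.ker.map K.subtype, hn, ⟨(QuotientGroup.quotientMulEquivOfEq hker).trans
    (QuotientGroup.quotientKerEquivOfSurjective act' hsurj')⟩⟩

end CfsgLib.Complement
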