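import Cfsg.Agent.Lib.Complement.AbelianThompson

/-!
# An abelian subgroup of largest order meets the commutators with an element of an abelian subgroup
-/

set_option autoImplicit false

namespace CfsgLib.Complement

open Subgroup

universe u

variable {G : Type u} [Group G] [Finite G]

/-- If `A` is abelian of largest order in `S` and `x` lies in an abelian subgroup normalized by `A`, then
every product of commutators `[a, x]` is a single one modulo `A`. -/
theorem exists_commutator_mul_mem {S A B : Subgroup G} (hA : A ∈ maxAbIn S) (hBS : B ≤ S)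
    (hBc : ∀ s ∈ B, ∀ t ∈ B, s * t = t * s) (hAB : A ≤ normalizer (B : Set G)) {x : G} (hx : x ∈ B) :
    ∀ y ∈ closure {g | ∃ a ∈ A, g = a * x * a⁻¹ * x⁻¹}, ∃ a ∈ A, (a * x * a⁻¹ * x⁻¹)⁻¹ * y ∈ A := by
  classical
  have hAc : ∀ a ∈ A, ∀ b ∈ A, a * b = b * a := fun a ha b hb =>
    congrArg Subtype.val (hA.2.1.is_comm.comm (⟨a, ha⟩ : A) ⟨b, hb⟩)
  let u : G → G := fun a => a * x * a⁻¹ * x⁻¹
  have huB : ∀ a ∈ A, u a ∈ B := fun a ha =>
    B.mul_mem ((mem_normalizer_iff.mp (hAB ha) x).mp hx) (B.inv_mem hx)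
  set M := closure {g | ∃ a ∈ A, g = u a} with hM
  have hMB : M ≤ B := (closure_le B).mpr (by rintro _ ⟨a, ha, rfl⟩; exact huB a ha)
  set C := A ⊓ centralizer (M : Set G) with hC
  have hel : IsMulCommutative ↥(M ⊔ C) := by
    rw [← le_centralizer_iff_isMulCommutative]
    have hMC : M ≤ centralizer (C : Set G) := le_centralizer_iff.mp inf_le_right
    refine sup_le ?_ ?_
    · rw [le_centralizer_iff]
      exact sup_le (fun m hm => mem_centralizer_iff.mpr fun z hz => hBc z (hMB hz) m (hMB hm))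
        inf_le_right
    · rw [le_centralizer_iff]
      exact sup_le hMC fun a ha => mem_centralizer_iff.mpr fun b hb => hAc b hb.1 a ha.1
  have key : ∀ a ∈ A, ∀ b ∈ A, (u a)⁻¹ * u b ∈ A → a⁻¹ * b ∈ C := by
    intro a ha b hb h
    have he : a⁻¹ * b ∈ A := A.mul_mem (A.inv_mem ha) hb
    set e := a⁻¹ * b with he'
    have h1 : u b * (u a)⁻¹ ∈ A := by rwa [hBc _ (huB b hb) _ (B.inv_mem (huB a ha))]
    have hue : u e ∈ A := by
      have h2 : u e = a⁻¹ * (u b * (u a)⁻¹) * a := by simp only [u, he']; group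
      rw [h2]
      exact A.mul_mem (A.mul_mem (A.inv_mem ha) h1) ha
    refine ⟨he, ?_⟩
    rw [hM, centralizer_closure]
    refine mem_centralizer_iff.mpr ?_
    rintro _ ⟨c, hc, rfl⟩
    have hce : e * c = c * e := hAc e he c hc
    have hcu : c * u e = u e * c := hAc c hc _ hue
    have e1 : e * u c * e⁻¹ = u e * u c * (u e)⁻¹ := by
      calc e * u c * e⁻¹ = (e * c) * x * c⁻¹ * x⁻¹ * e⁻¹ := by simp only [u]; group
        _ = c * e * x * c⁻¹ * x⁻¹ * e⁻¹ := by rw [hce]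
        _ = c * e * x * e⁻¹ * (e * c * e⁻¹)⁻¹ * (e * x⁻¹ * e⁻¹) := by group
        _ = c * e * x * e⁻¹ * c⁻¹ * (e * x⁻¹ * e⁻¹) := by rw [hce, mul_inv_cancel_right]
        _ = c * e * x * (c * e)⁻¹ * (e * x * e⁻¹)⁻¹ := by group
        _ = (c * u e) * x * c⁻¹ * x⁻¹ * (u e)⁻¹ := by simp only [u]; group
        _ = u e * u c * (u e)⁻¹ := by rw [hcu]; simp only [u]; group
    rw [hBc _ (huB e he) _ (huB c hc), mul_inv_cancel_right] at e1
    exact (mul_inv_eq_iff_eq_mul.mp e1).symm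
  let H : A ⧸ C.subgroupOf A → M ⧸ (M ⊓ A).subgroupOf M := fun q =>
    QuotientGroup.mk ⟨u q.out, subset_closure ⟨q.out, q.out.2, rfl⟩⟩
  have hH : Function.Injective H := by
    intro q r hqr
    have h := QuotientGroup.eq.mp hqr
    rw [mem_subgroupOf] at h
    rw [← QuotientGroup.out_eq' q, ← QuotientGroup.out_eq' r, QuotientGroup.eq, mem_subgroupOf]
    exact key _ q.out.2 _ r.out.2 h.2
  have hcard : Nat.card (M ⧸ (M ⊓ A).subgroupOf M) ≤ Nat.card (A ⧸ C.subgroupOf A) := by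
    have h1 := hA.2.2 _ (sup_le (hMB.trans hBS) (inf_le_left.trans hA.1)) hel
    have h2 := CfsgLib.PLocal.card_mul_le_card_sup_mul_inf M C
    have h3 : Nat.card ↥(M ⊓ C) ≤ Nat.card ↥(M ⊓ A) :=
      card_le_of_le (inf_le_inf_left M inf_le_left)
    have hM' := card_eq_card_quotient_mul_card_subgroup ((M ⊓ A).subgroupOf M)
    have hA' := card_eq_card_quotient_mul_card_subgroup (C.subgroupOf A)
    rw [Nat.card_congr (subgroupOfEquivOfLe (inf_le_left : M ⊓ A ≤ M)).toEquiv] at hM'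
    rw [Nat.card_congr (subgroupOfEquivOfLe (inf_le_left : C ≤ A)).toEquiv] at hA'
    refine Nat.le_of_mul_le_mul_right ?_
      (Nat.mul_pos (Nat.card_pos (α := ↥(M ⊓ A))) (Nat.card_pos (α := C)))
    calc Nat.card (M ⧸ (M ⊓ A).subgroupOf M) * (Nat.card ↥(M ⊓ A) * Nat.card C)
        = Nat.card M * Nat.card C := by rw [hM', mul_assoc]
      _ ≤ Nat.card ↥(M ⊔ C) * Nat.card ↥(M ⊓ C) := h2
      _ ≤ Nat.card A * Nat.card ↥(M ⊓ A) := Nat.mul_le_mul h1 h3
      _ = Nat.card (A ⧸ C.subgroupOf A) * (Nat.card ↥(M ⊓ A) * Nat.card C) := by rw [hA']; ring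
  intro y hy
  obtain ⟨q, hq⟩ := (hH.bijective_of_nat_card_le hcard).2 (QuotientGroup.mk ⟨y, hy⟩)
  refine ⟨q.out, q.out.2, ?_⟩
  have h := QuotientGroup.eq.mp hq
  rw [mem_subgroupOf] at h
  exact h.2

end CfsgLib.Complement
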