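import Cfsg.Agent.Lib.Complement.LayerRep
import Mathlib

/-!
# The commutative ring of self-adjoint maps from an abelian group acting on `H ⧸ Z`
-/

set_option autoImplicit false

namespace CfsgLib.Complement

open Subgroup
open scoped commutatorElement IsMulCommutative

universe u

variable {G : Type u} [Group G] {H Z : Subgroup G} [hH : H.Normal] [hZ : Z.Normal]
  [hQ : IsMulCommutative (H ⧸ Z.subgroupOf H)]

theorem CommAdjoint.add (hc : ∀ x ∈ H, ∀ y ∈ H, ⁅x, y⁆ ∈ Z)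
    (hZH : ∀ z ∈ Z, ∀ x ∈ H, x * z = z * x) {r t : AddMonoid.End (Layer H Z)}
    (hr : CommAdjoint r) (ht : CommAdjoint t) : CommAdjoint (r + t) := by
  intro h k h' k' eh ek
  obtain ⟨h1, e1⟩ := layerMk_surjective H Z (r (layerMk H Z h))
  obtain ⟨h2, e2⟩ := layerMk_surjective H Z (t (layerMk H Z h))
  obtain ⟨k1, e3⟩ := layerMk_surjective H Z (r (layerMk H Z k))
  obtain ⟨k2, e4⟩ := layerMk_surjective H Z (t (layerMk H Z k))
  rw [commutator_congr hc hZH (k' := k) (show layerMk H Z h' = layerMk H Z (h1 * h2) by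
      rw [layerMk_mul, e1, e2, eh]; rfl) rfl,
    commutator_congr hc hZH (h' := h) rfl (show layerMk H Z k' = layerMk H Z (k1 * k2) by
      rw [layerMk_mul, e3, e4, ek]; rfl), Subgroup.coe_mul, Subgroup.coe_mul,
    commutator_mul_left_of_central hc hZH h1.2 h2.2 k.2,
    commutator_mul_right_of_central hc hZH k1.2 k2.2 h.2, hr h k h1 k1 e1 e3, ht h k h2 k2 e2 e4]

theorem CommAdjoint.neg (hc : ∀ x ∈ H, ∀ y ∈ H, ⁅x, y⁆ ∈ Z)
    (hZH : ∀ z ∈ Z, ∀ x ∈ H, x * z = z * x) {r : AddMonoid.End (Layer H Z)}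
    (hr : CommAdjoint r) : CommAdjoint (-r) := by
  intro h k h' k' eh ek
  have key : ∀ a b : H, ⁅((a⁻¹ : H) : G), (b : G)⁆ = ⁅(a : G), (b : G)⁆⁻¹ ∧
      ⁅(b : G), ((a⁻¹ : H) : G)⁆ = ⁅(b : G), (a : G)⁆⁻¹ := by
    intro a b
    refine ⟨eq_inv_of_mul_eq_one_left ?_, eq_inv_of_mul_eq_one_left ?_⟩
    · rw [← commutator_mul_left_of_central hc hZH (a⁻¹).2 a.2 b.2, Subgroup.coe_inv, inv_mul_cancel,
        commutatorElement_one_left]
    · rw [← commutator_mul_right_of_central hc hZH (a⁻¹).2 a.2 b.2, Subgroup.coe_inv, inv_mul_cancel,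
        commutatorElement_one_right]
  have e := hr h k h'⁻¹ k'⁻¹
    (by rw [layerMk_inv, eh]; exact neg_neg _) (by rw [layerMk_inv, ek]; exact neg_neg _)
  rw [(key h' k).1, (key k' h).2] at e
  exact inv_injective e

/-- `ρ(l) + ρ(l⁻¹)` is self-adjoint when `l` centralizes `Z`. -/
theorem CommAdjoint.of_rep (hc : ∀ x ∈ H, ∀ y ∈ H, ⁅x, y⁆ ∈ Z)
    (hZH : ∀ z ∈ Z, ∀ x ∈ H, x * z = z * x) {l : G} (hl : ∀ z ∈ Z, l * z * l⁻¹ = z) :
    CommAdjoint (layerRep H Z l + layerRep H Z l⁻¹) := by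
  intro h k h' k' eh ek
  let cl : H → H := fun a => ⟨l * a * l⁻¹, hH.conj_mem a a.2 l⟩
  let cr : H → H := fun a => ⟨l⁻¹ * a * l⁻¹⁻¹, hH.conj_mem a a.2 l⁻¹⟩
  have hswap : ∀ a b : H, ⁅(cl a : G), (b : G)⁆ = ⁅(a : G), (cr b : G)⁆ := by
    intro a b
    have e : ⁅(cl a : G), (b : G)⁆ = l * ⁅(a : G), (cr b : G)⁆ * l⁻¹ := by
      simp only [cl, cr, commutatorElement_def]; group
    rw [e, hl _ (hc _ a.2 _ (cr b).2)]
  have hswap' : ∀ a b : H, ⁅(cr a : G), (b : G)⁆ = ⁅(a : G), (cl b : G)⁆ := by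
    intro a b
    have hl' : ∀ z ∈ Z, l⁻¹ * z * l⁻¹⁻¹ = z := fun z hz => by
      conv_lhs => rw [← hl z hz]
      group
    have e : ⁅(cr a : G), (b : G)⁆ = l⁻¹ * ⁅(a : G), (cl b : G)⁆ * l⁻¹⁻¹ := by
      simp only [cl, cr, commutatorElement_def]; group
    rw [e, hl' _ (hc _ a.2 _ (cl b).2)]
  rw [commutator_congr hc hZH (k' := k) (show layerMk H Z h' = layerMk H Z (cl h * cr h) by
      rw [layerMk_mul, eh]; show layerRep H Z l _ + layerRep H Z l⁻¹ _ = _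
      rw [layerRep_mk, layerRep_mk]) rfl,
    commutator_congr hc hZH (h' := h) rfl (show layerMk H Z k' = layerMk H Z (cr k * cl k) by
      rw [layerMk_mul, ek]; show layerRep H Z l _ + layerRep H Z l⁻¹ _ = _
      rw [layerRep_mk, layerRep_mk, add_comm]), Subgroup.coe_mul, Subgroup.coe_mul,
    commutator_mul_left_of_central hc hZH (cl h).2 (cr h).2 k.2,
    commutator_mul_right_of_central hc hZH (cr k).2 (cl k).2 h.2, hswap, hswap']

end CfsgLib.Complement
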