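import Cfsg.Agent.Lib.Complement.RingShift
import Cfsg.Agent.Lib.Complement.LayerTools
import Cfsg.Agent.Lib.Complement.LayerAdjoint
import Cfsg.Agent.Lib.Complement.Cover
import Cfsg.Agent.Lib.Complement.CenterThompson
import Cfsg.Agent.Lib.StructC.BurnsideBasis
import Cfsg.Agent.Lib.StructC.Regular

/-!
# For `p ≥ 5` the normalizer of `J(S)` decides normal `p`-complements
-/

set_option autoImplicit false

namespace CfsgLib.Complement

open Subgroup
open scoped commutatorElement IsMulCommutative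

universe u

variable {p : ℕ} [hp : Fact p.Prime] {G : Type u} [Group G] [Finite G]

/-- In a minimal failure, for `p ≥ 5`, abelian subgroups of largest order lie in `O_p`. -/
theorem MinimalFailure.maxAb_le (hp5 : 5 ≤ p) {ι : Type*} {F : ι → LocalFunctor.{u} p}
    {P : Sylow p G} {U M : Subgroup G} {m : ℕ} (h : MinimalFailure F P U M m) {A : Subgroup G}
    (hA : A ∈ maxAbIn (P : Subgroup G)) : A ≤ U := by
  classical
  intro a₀ ha₀
  by_contra ha₀U
  have hUn := h.normal_U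
  have hMn := h.normal_M
  have hp2 : p ≠ 2 := by omega
  have htriv : ∀ {L : Subgroup G}, IsPGroup p L → ∀ g ∈ L, (orderOf g).Coprime p → g = 1 := by
    intro L hL g hg hord
    obtain ⟨k, hk⟩ := IsPGroup.iff_orderOf.mp hL ⟨g, hg⟩
    rw [Subgroup.orderOf_mk] at hk
    exact orderOf_eq_one_iff.mp (Nat.eq_one_of_dvd_coprimes (hord.pow_right k) dvd_rfl hk.dvd)
  have hcopN : ∀ (N : Subgroup G), N.Normal → (P : Subgroup G) ⊔ N = ⊤ →
      ∀ g : G, (orderOf g).Coprime p → g ∈ N := by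
    intro N hN htop g hg
    obtain ⟨k, hk⟩ := IsPGroup.iff_card.mp
      (P.2.map (QuotientGroup.mk' N) : IsPGroup p ((P : Subgroup G).map (QuotientGroup.mk' N)))
    have htop' : (P : Subgroup G).map (QuotientGroup.mk' N) = ⊤ := by
      rw [← Subgroup.map_top_of_surjective _ (QuotientGroup.mk'_surjective N), ← htop, Subgroup.map_sup,
        (map_eq_bot_iff N).mpr (QuotientGroup.ker_mk' N).ge, sup_bot_eq]
    rw [htop', card_top] at hk
    rw [← QuotientGroup.eq_one_iff]
    refine orderOf_eq_one_iff.mp (Nat.eq_one_of_dvd_coprimes (hg.pow_right k)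
      (orderOf_map_dvd (QuotientGroup.mk' N) g) ?_)
    rw [← hk]
    exact orderOf_dvd_natCard _
  set L := closure {g : G | (orderOf g).Coprime p} with hL
  have hLn : L.Normal := by
    rw [← normalizer_eq_top_iff, eq_top_iff']
    intro g
    rw [mem_normalizer_iff_map_conj_eq, hL, MonoidHom.map_closure]
    congr 1
    ext x
    constructor
    · rintro ⟨y, hy, rfl⟩
      show (orderOf (MulAut.conj g y)).Coprime p
      rwa [MulEquiv.orderOf_eq]
    · intro hx
      exact ⟨(MulAut.conj g).symm x, show (orderOf _).Coprime p by rwa [MulEquiv.orderOf_eq],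
        (MulAut.conj g).apply_symm_apply x⟩
  have hLM : L ≤ M := (closure_le M).mpr fun g hg => hcopN M hMn h.sup_eq g hg
  -- the normal subgroup on which the `p'`-elements act
  have hUnc : ¬ L ≤ centralizer (U : Set G) := by
    intro hle
    have hP : (P : Subgroup G) = ⊤ := by
      refine (P.3 (fun g => ⟨(orderOf g).factorization p, ?_⟩) le_top).symm
      have hx : (orderOf ((g : G) ^ p ^ (orderOf g).factorization p)).Coprime p := by
        rw [← Subgroup.coe_pow, Subgroup.orderOf_coe, orderOf_pow' g (pow_ne_zero _ hp.out.ne_zero),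
          Nat.gcd_eq_right (Nat.ordProj_dvd (orderOf g) p)]
        exact (Nat.coprime_ordCompl hp.out (orderOf_pos g).ne').symm
      refine Subtype.ext ?_
      exact htriv h.isPGroup_U _ (h.centralizer_le (hle (subset_closure (by simpa using hx)))) (by
        simpa using hx)
    refine h.not_complement (hasNormalPComplement_of_top ?_)
    exact Transfer.hasNormalPComplement_iff_frobenius.2 fun D hD g hg hgp => by
      have : g = 1 := htriv (hP ▸ P.2 : IsPGroup p (⊤ : Subgroup G)) g (mem_top _)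
        (by rwa [Subgroup.orderOf_coe]) |> fun e => Subtype.ext e
      rw [this]; exact one_mem _
  obtain ⟨H, ⟨hHn, hHU, hHL⟩, hHmin⟩ := Set.exists_min_image
    {X : Subgroup G | X.Normal ∧ X ≤ U ∧ ¬ L ≤ centralizer (X : Set G)} (fun X => Nat.card X)
    (Set.toFinite _) ⟨U, hUn, le_rfl, hUnc⟩
  set Z := H ⊓ centralizer (L : Set G) with hZ
  have hZn : Z.Normal := inferInstance
  have hprop : ∀ X : Subgroup G, X.Normal → X ≤ H → X ≠ H → X ≤ Z := by
    intro X hX hXH hne
    refine le_inf hXH (le_centralizer_iff.mp (by_contra fun hn => hne ?_))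
    exact eq_of_le_of_card_ge hXH (hHmin X ⟨hX, hXH.trans hHU, hn⟩)
  have hHp : IsPGroup p H := h.isPGroup_U.to_le hHU
  have hH1 : H ≠ ⊥ := fun e => hHL (by rw [e]; intro g _; simp [mem_centralizer_iff])
  have hc : ∀ x ∈ H, ∀ y ∈ H, ⁅x, y⁆ ∈ Z := fun x hx y hy =>
    hprop _ (commutator_normal H H) (commutator_le_left H H)
      (commutator_ne_self_of_pGroup hHp le_rfl hH1) (commutator_mem_commutator hx hy)
  have hUV : ∀ x ∈ H, ∀ u ∈ U, ⁅x, u⁆ ∈ Z := fun x hx u hu =>
    hprop _ (commutator_normal H U) (commutator_le_left H U)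
      (commutator_ne_self_of_pGroup h.isPGroup_U hHU hH1) (commutator_mem_commutator hx hu)
  have hpow : ∀ x ∈ H, x ^ p ∈ Z := by
    intro x hx
    have : Nontrivial H := (nontrivial_iff_ne_bot H).mpr hH1
    have : (frattini H).Characteristic := frattini_characteristic
    refine hprop ((frattini H).map H.subtype) inferInstance (map_subtype_le _) (fun e => ?_) ?_
    · refine StructC.frattini_ne_top_of_nontrivial (K := H) (map_injective H.subtype_injective ?_)
      rw [e, ← MonoidHom.range_eq_map, range_subtype]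
    · exact mem_map_of_mem H.subtype (x := ⟨x, hx⟩ ^ p) (StructC.pow_mem_frattini hHp ⟨x, hx⟩)
  have hLZ : ∀ l ∈ L, ∀ z ∈ Z, l * z * l⁻¹ = z := fun l hl z hz => by
    rw [mem_centralizer_iff.mp hz.2 l hl, mul_inv_cancel_right]
  -- `Z` is central in `H`
  have hZH : ∀ z ∈ Z, ∀ x ∈ H, x * z = z * x := by
    have h3 : ⁅⁅H, L⁆, Z⁆ = ⊥ := by
      refine Subgroup.commutator_commutator_eq_bot_of_rotate ?_ ?_
      · rw [show ⁅L, Z⁆ = ⊥ from commutator_eq_bot_iff_le_centralizer.mpr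
          (le_centralizer_iff.mp inf_le_right), commutator_bot_left]
      · rw [commutator_eq_bot_iff_le_centralizer]
        exact (commutator_le_left Z H).trans inf_le_right
    set D := H ⊓ centralizer (Z : Set G) with hD
    have hDH : D = H := by
      by_contra hne
      refine hHL ((closure_le _).mpr fun g hg => mem_centralizer_iff.mpr fun x hx => ?_)
      have hm : ⁅x, g⁆ ∈ D := ⟨commutator_le_left H L (commutator_mem_commutator hx (subset_closure hg)),
        commutator_eq_bot_iff_le_centralizer.mp h3 (commutator_mem_commutator hx (subset_closure hg))⟩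
      have hw := hprop D inferInstance inf_le_left hne hm
      refine (centralizes_of_stabilizes hHp (inf_le_left : Z ≤ H) hg (hLZ g (subset_closure hg)) ?_).symm
      have : x⁻¹ * (g * x * g⁻¹) = x⁻¹ * ⁅x, g⁆⁻¹ * x := by rw [commutatorElement_def]; group
      rw [this]
      have e := hZn.conj_mem _ (Z.inv_mem hw) x⁻¹
      rwa [inv_inv] at e
    intro z hz x hx
    exact (mem_centralizer_iff.mp (hDH.ge hx).2 z hz).symm
  have hQ : IsMulCommutative (H ⧸ Z.subgroupOf H) := layer_isMulCommutative H Z hc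
  let ρ := layerRep H Z
  let mk := layerMk H Z
  have hρ1 : ∀ g : G, (∀ x : H, ⁅(x : G), g⁆ ∈ Z) → ρ g = 1 := by
    intro g hg
    refine AddMonoidHom.ext fun v => ?_
    obtain ⟨x, rfl⟩ := layerMk_surjective H Z v
    show ρ g (mk x) = mk x
    rw [layerRep_mk]
    refine ((layerMk_eq_iff H Z).mpr ?_).symm
    show (x : G)⁻¹ * (g * x * g⁻¹) ∈ Z
    have e : (x : G)⁻¹ * (g * x * g⁻¹) = (x : G)⁻¹ * ⁅(x : G), g⁆⁻¹ * x := by
      rw [commutatorElement_def]; group
    rw [e]
    simpa using hZn.conj_mem _ (Z.inv_mem (hg x)) (x : G)⁻¹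
  have hρU : ∀ u ∈ U, ρ u = 1 := fun u hu => hρ1 u fun x => hUV x x.2 u hu
  have hinv1 : ∀ g : G, ρ g⁻¹ * ρ g = 1 := fun g => by rw [← map_mul, inv_mul_cancel, map_one]
  have hρc : ∀ x ∈ M, ∀ y ∈ M, ρ x * ρ y = ρ y * ρ x := by
    intro x hx y hy
    have e := hρU _ (h.commutator_M x hx y hy)
    rw [← map_mul, ← map_mul, show x * y = x * y * x⁻¹ * y⁻¹ * (y * x) by group, map_mul, e, one_mul]
  have hρm : ∀ x ∈ M, ρ x ^ m = 1 := fun x hx => by rw [← map_pow, hρU _ (h.pow_m x hx)]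
  have hρL : ∀ x ∈ M, ∃ l ∈ L, ρ x = ρ l := by
    intro x hx
    set k := (orderOf x).factorization p
    obtain ⟨N, hN1, hN2⟩ := Nat.chineseRemainder (h.coprime_m.pow_right k) 1 0
    refine ⟨x ^ N, subset_closure ?_, ?_⟩
    · show (orderOf (x ^ N)).Coprime p
      obtain ⟨t, ht⟩ := Nat.modEq_zero_iff_dvd.mp hN2
      rw [ht, pow_mul]
      refine Nat.Coprime.coprime_dvd_left (orderOf_pow_dvd t) ?_
      rw [orderOf_pow' x (pow_ne_zero _ hp.out.ne_zero),
        Nat.gcd_eq_right (Nat.ordProj_dvd (orderOf x) p)]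
      exact (Nat.coprime_ordCompl hp.out (orderOf_pos x).ne').symm
    · rw [map_pow, pow_eq_pow_mod N (hρm x hx), hN1,
        ← pow_eq_pow_mod 1 (hρm x hx), pow_one]
  have hchar : (p : AddMonoid.End (Layer H Z)) = 0 := by
    refine AddMonoidHom.ext fun v => ?_
    obtain ⟨x, rfl⟩ := layerMk_surjective H Z v
    rw [AddMonoid.End.natCast_def]
    show p • mk x = 0
    rw [show p • mk x = mk (x ^ p) from rfl]
    exact (layerMk_eq_zero H Z).mpr (hpow x x.2)
  have : Finite (AddMonoid.End (Layer H Z)) := Finite.of_injective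
    (fun f : AddMonoid.End (Layer H Z) => (f : Layer H Z → Layer H Z)) DFunLike.coe_injective
  let gen' : Set (AddMonoid.End (Layer H Z)) := {r | ∃ x ∈ M, r = ρ x}
  let gen : Set (AddMonoid.End (Layer H Z)) := {r | ∃ x ∈ M, r = ρ x + ρ x⁻¹}
  set R' := Subring.closure gen' with hR'
  set R := Subring.closure gen with hR
  have hRR : R ≤ R' := Subring.closure_le.mpr (by
    rintro _ ⟨x, hx, rfl⟩
    exact R'.add_mem (Subring.subset_closure ⟨x, hx, rfl⟩) (Subring.subset_closure ⟨_, M.inv_mem hx, rfl⟩))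
  have hcomm : ∀ r ∈ R', ∀ t ∈ R', r * t = t * r := by
    have h1 : R' ≤ Subring.centralizer gen' := Subring.closure_le.mpr (by
      rintro _ ⟨x, hx, rfl⟩ _ ⟨y, hy, rfl⟩
      exact hρc y hy x hx)
    have h2 : R' ≤ Subring.centralizer (R' : Set (AddMonoid.End (Layer H Z))) :=
      Subring.closure_le.mpr fun g hg r hr => (h1 hr g hg).symm
    exact fun r hr t ht => (h2 hr t ht).symm
  let cR' : CommRing R' := { (inferInstance : Ring R') with
    mul_comm := fun a b => Subtype.ext (hcomm a a.2 b b.2) }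
  let cR : CommRing R := { (inferInstance : Ring R) with
    mul_comm := fun a b => Subtype.ext (hcomm a (hRR a.2) b (hRR b.2)) }
  obtain ⟨q, hq, hfix⟩ : ∃ q, 5 ≤ q ∧ ∀ r ∈ R', r ^ q = r := by
    have hm0 : 0 < m := Nat.pos_of_ne_zero fun e => hp.out.ne_one (by simpa [e] using h.coprime_m)
    set f := m.totient
    have hf : 1 ≤ f := Nat.totient_pos.mpr hm0
    refine ⟨p ^ f, hp5.trans (le_self_pow₀ hp.out.one_le (by omega)), fun r hr => ?_⟩
    have hchar' : (p : R') = 0 := Subtype.ext (by simpa using hchar)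
    suffices hs : ∀ t : R', t ^ p ^ f = t from congrArg Subtype.val (hs ⟨r, hr⟩)
    intro t
    rcases subsingleton_or_nontrivial R' with hs | hs
    · exact Subsingleton.elim _ _
    have : CharP R' p := by
      refine ringChar.of_eq ((hp.out.eq_one_or_self_of_dvd _ (ringChar.dvd hchar')).resolve_left ?_)
      exact CharP.ringChar_ne_one
    obtain ⟨t, ht⟩ := t
    induction ht using Subring.closure_induction with
    | mem x hx =>
      obtain ⟨g, hg, rfl⟩ := hx
      refine Subtype.ext ?_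
      show ρ g ^ p ^ f = ρ g
      rw [pow_eq_pow_mod _ (hρm g hg), Nat.ModEq.pow_totient h.coprime_m.symm,
        ← pow_eq_pow_mod 1 (hρm g hg), pow_one]
    | zero => exact zero_pow (pow_ne_zero _ hp.out.ne_zero)
    | one => exact one_pow _
    | add x y hx hy ihx ihy =>
      rw [show (⟨x + y, _⟩ : R') = ⟨x, hx⟩ + ⟨y, hy⟩ from rfl, add_pow_char_pow, ihx, ihy]
    | neg x hx ih =>
      rw [show (⟨-x, _⟩ : R') = -⟨x, hx⟩ from rfl, (hp.out.odd_of_ne_two hp2).pow.neg_pow, ih]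
    | mul x y hx hy ihx ihy =>
      rw [show (⟨x * y, _⟩ : R') = ⟨x, hx⟩ * ⟨y, hy⟩ from rfl, mul_pow, ihx, ihy]
  have hred : ∀ r ∈ R', IsNilpotent r → r = 0 := by
    rintro r hr ⟨n, hn⟩
    have : ∀ j, r ^ q ^ j = r := fun j => by
      induction j with
      | zero => simp
      | succ j ih => rw [pow_succ, pow_mul, ih, hfix r hr]
    rw [← this n]
    exact pow_eq_zero_of_le (Nat.lt_pow_self (show 1 < q by omega)).le hn
  have hredR' : IsReduced R' := ⟨fun r hr =>
    Subtype.ext (hred r r.2 (by obtain ⟨n, hn⟩ := hr; exact ⟨n, congrArg Subtype.val hn⟩))⟩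
  have hredR : IsReduced R := ⟨fun r hr =>
    Subtype.ext (hred r (hRR r.2) (by obtain ⟨n, hn⟩ := hr; exact ⟨n, congrArg Subtype.val hn⟩))⟩
  -- the action of `A`
  have hstab : ∀ b : G, ∀ r ∈ R, ρ b * r * ρ b⁻¹ ∈ R := by
    intro b r hr
    induction hr using Subring.closure_induction with
    | mem x hx =>
      obtain ⟨g, hg, rfl⟩ := hx
      refine Subring.subset_closure ⟨b * g * b⁻¹, hMn.conj_mem g hg b, ?_⟩
      rw [mul_add, add_mul, ← map_mul, ← map_mul, ← map_mul, ← map_mul,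
        show b * g⁻¹ * b⁻¹ = (b * g * b⁻¹)⁻¹ by group]
    | zero => simp
    | one => rw [mul_one, ← map_mul, mul_inv_cancel, map_one]; exact R.one_mem
    | add x y _ _ ihx ihy => rw [mul_add, add_mul]; exact R.add_mem ihx ihy
    | neg x _ ih =>
      rw [show ρ b * -x * ρ b⁻¹ = -(ρ b * x * ρ b⁻¹) from eq_neg_of_add_eq_zero_left (by
        rw [← add_mul, ← mul_add, neg_add_cancel, mul_zero, zero_mul])]
      exact R.neg_mem ih
    | mul x y _ _ ihx ihy =>
      rw [show ρ b * (x * y) * ρ b⁻¹ = (ρ b * x * ρ b⁻¹) * (ρ b * y * ρ b⁻¹) by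
        rw [show (ρ b * x * ρ b⁻¹) * (ρ b * y * ρ b⁻¹) = ρ b * x * (ρ b⁻¹ * ρ b) * y * ρ b⁻¹ by
          simp only [mul_assoc], hinv1, mul_one, mul_assoc (ρ b) x y]]
      exact R.mul_mem ihx ihy
  let cj : G → R → R := fun b r => ⟨ρ b * r * ρ b⁻¹, hstab b r r.2⟩
  have hcj1 : ∀ r : R, cj 1 r = r := fun r => Subtype.ext (by simp [cj])
  have hcj : ∀ b c r, cj b (cj c r) = cj (b * c) r := fun b c r => Subtype.ext (by
    simp only [cj, map_mul, mul_inv_rev, mul_assoc])
  let σ : A →* RingAut R :=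
    { toFun := fun b =>
        { toFun := cj b
          invFun := cj (b⁻¹ : A)
          left_inv := fun r => by rw [hcj, ← Subgroup.coe_mul, inv_mul_cancel]; exact hcj1 r
          right_inv := fun r => by rw [hcj, ← Subgroup.coe_mul, mul_inv_cancel]; exact hcj1 r
          map_mul' := fun r t => Subtype.ext (by
            obtain ⟨r, -⟩ := r
            obtain ⟨t, -⟩ := t
            show ρ (b : G) * (r * t) * ρ (b : G)⁻¹ =
              (ρ (b : G) * r * ρ (b : G)⁻¹) * (ρ (b : G) * t * ρ (b : G)⁻¹)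
            rw [show (ρ (b : G) * r * ρ (b : G)⁻¹) * (ρ (b : G) * t * ρ (b : G)⁻¹) =
              ρ (b : G) * r * (ρ (b : G)⁻¹ * ρ (b : G)) * t * ρ (b : G)⁻¹ by simp only [mul_assoc],
              hinv1, mul_one]
            simp only [mul_assoc])
          map_add' := fun r t => Subtype.ext (by simp [cj, mul_add, add_mul]) }
      map_one' := RingEquiv.ext fun r => hcj1 r
      map_mul' := fun b c => RingEquiv.ext fun r => (hcj b c r).symm }
  have hσ : ∀ (b : A) (r : R) (v : Layer H Z),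
      ρ (b : G) ((r : AddMonoid.End (Layer H Z)) v) =
        (σ b r : AddMonoid.End (Layer H Z)) (ρ (b : G) v) := by
    intro b r v
    obtain ⟨r, hr⟩ := r
    show _ = (ρ (b : G) * r * ρ (b : G)⁻¹) (ρ (b : G) v)
    rw [show (ρ (b : G) * r * ρ (b : G)⁻¹) (ρ (b : G) v) =
      (ρ (b : G) * r * (ρ (b : G)⁻¹ * ρ (b : G))) v from rfl, hinv1, mul_one]
    rfl
  have hAp : IsPGroup p A := P.2.to_le hA.1
  -- `A` acts nontrivially on the ring
  have hne : ∃ b r, σ b r ≠ r := by
    by_contra hcon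
    push Not at hcon
    refine ha₀U (h.faithful a₀ (hA.1 ha₀) ?_)
    set K := ρ.ker ⊓ M with hK
    have hUK : U ≤ K := fun x hx => ⟨hρU x hx, h.U_le_M hx⟩
    have hKn : K.Normal := inferInstance
    intro x hx
    have hgM : a₀ * x * a₀⁻¹ ∈ M := hMn.conj_mem x hx a₀
    have hmem : a₀ * x * a₀⁻¹ * x⁻¹ ∈ K := by
      refine ⟨?_, M.mul_mem hgM (M.inv_mem hx)⟩
      suffices e : ρ (a₀ * x * a₀⁻¹) = ρ x by
        show ρ (a₀ * x * a₀⁻¹ * x⁻¹) = 1
        rw [map_mul, e, ← map_mul, mul_inv_cancel, map_one]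
      let gR : M → R' := fun y => ⟨ρ y, Subring.subset_closure ⟨y, y.2, rfl⟩⟩
      let tw : M → M := fun y => ⟨a₀ * y * a₀⁻¹, hMn.conj_mem y y.2 a₀⟩
      suffices hs : gR (tw ⟨x, hx⟩) = gR ⟨x, hx⟩ from congrArg Subtype.val hs
      refine sub_eq_zero.mp (IsReduced.eq_zero _ ?_)
      rw [← mem_nilradical, nilradical_eq_sInf, Submodule.mem_sInf]
      intro (J : Ideal R') (hJ : Ideal.IsPrime J)
      rw [← Ideal.Quotient.eq_zero_iff_mem, map_sub, sub_eq_zero]
      let f : M → R' ⧸ J := fun y => Ideal.Quotient.mk J (gR y)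
      show f (tw ⟨x, hx⟩) = f ⟨x, hx⟩
      have hf : ∀ y z : M, f (y * z) = f y * f z := fun y z => by
        show Ideal.Quotient.mk J (gR (y * z)) = Ideal.Quotient.mk J (gR y) * Ideal.Quotient.mk J (gR z)
        rw [← map_mul (Ideal.Quotient.mk J)]
        refine congrArg (Ideal.Quotient.mk J) (Subtype.ext ?_)
        exact map_mul ρ (y : G) (z : G)
      have hf1 : f 1 = 1 := by
        show Ideal.Quotient.mk J (gR 1) = 1
        rw [show gR 1 = 1 from Subtype.ext (map_one ρ), map_one]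
      have htw : ∀ y z : M, tw (y * z) = tw y * tw z := fun y z => Subtype.ext (by simp [tw])
      have hsum : ∀ y : M, f (tw y) + f (tw y)⁻¹ = f y + f y⁻¹ := by
        intro y
        have h1 := congrArg Subtype.val (hcon ⟨a₀, ha₀⟩ ⟨_, Subring.subset_closure ⟨y, y.2, rfl⟩⟩)
        show _ = _
        simp only [f]
        rw [← map_add, ← map_add]
        refine congrArg _ (Subtype.ext ?_)
        show ρ (a₀ * y * a₀⁻¹) + ρ (a₀ * y * a₀⁻¹)⁻¹ = ρ y + ρ (y : G)⁻¹
        refine Eq.trans ?_ h1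
        show _ = ρ a₀ * (ρ y + ρ (y : G)⁻¹) * ρ a₀⁻¹
        rw [mul_add, add_mul, ← map_mul, ← map_mul, ← map_mul, ← map_mul,
          show a₀ * (y : G)⁻¹ * a₀⁻¹ = (a₀ * y * a₀⁻¹)⁻¹ by group]
      let fM : M →* R' ⧸ J :=
        { toFun := f, map_one' := hf1, map_mul' := hf }
      let twM : M →* M := { toFun := tw, map_one' := Subtype.ext (by simp [tw]), map_mul' := htw }
      obtain ⟨k, hk⟩ := IsPGroup.iff_orderOf.mp hAp ⟨a₀, ha₀⟩
      rw [Subgroup.orderOf_mk] at hk
      refine eq_of_add_inv_eq fM twM hsum (n := orderOf a₀) (hk ▸ (hp.out.odd_of_ne_two hp2).pow) ?_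
      have hit : ∀ (n : ℕ) (y : M), ((tw^[n] y : M) : G) = a₀ ^ n * y * (a₀ ^ n)⁻¹ := by
        intro n
        induction n with
        | zero => simp
        | succ n ih =>
          intro y
          rw [Function.iterate_succ_apply']
          show a₀ * ((tw^[n] y : M) : G) * a₀⁻¹ = _
          rw [ih, pow_succ']
          group
      refine Subtype.ext ?_
      show ((tw^[orderOf a₀] ⟨x, hx⟩ : M) : G) = x
      rw [hit, pow_orderOf_eq_one]
      simp
    rcases h.sylow_maximal ((P : Subgroup G) ⊔ K) le_sup_left with hs | hs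
    · exact h.U_max K hKn (P.2.to_le (le_sup_right.trans hs.le)) hmem
    · exfalso
      refine hHL ((closure_le _).mpr fun g hg => mem_centralizer_iff.mpr fun y hy => ?_)
      have hgK := (hcopN K hKn hs g hg).1
      refine (centralizes_of_stabilizes hHp (inf_le_left : Z ≤ H) hg (hLZ g (subset_closure hg)) ?_).symm
      have hv := congrArg (fun r : AddMonoid.End (Layer H Z) => r (mk ⟨y, hy⟩)) (show ρ g = 1 from hgK)
      rw [layerRep_mk] at hv
      exact (layerMk_eq_iff H Z).mp hv.symm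
  obtain ⟨s, c, hc0, hcfix, hs, b₁, hb₁⟩ := exists_ring_shift
    (Subtype.ext (by simpa using hchar) : (p : R) = 0) hAp σ hne
  -- a fixed vector on which `c` acts invertibly
  have hfixR : ∀ r : R, r ^ q = r := fun r => Subtype.ext (hfix r (hRR r.2))
  set e : R := c ^ (q - 1) with he
  have hec : e * c = c := by rw [he, ← pow_succ, Nat.sub_add_cancel (by omega), hfixR]
  have hee : e * e = e := by
    calc e * e = c ^ (q - 2) * c ^ q := by rw [he, ← pow_add, ← pow_add]; congr 1; omega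
      _ = e := by rw [hfixR, he, ← pow_succ]; congr 1; omega
  have hefix : ∀ b : A, σ b e = e := fun b => by rw [he, map_pow, hcfix b]
  let E' := AddMonoidHom.range ((e : AddMonoid.End (Layer H Z)) : Layer H Z →+ Layer H Z)
  have hE'mem : ∀ (b : A), ∀ v ∈ E', ρ (b : G) v ∈ E' := by
    rintro b _ ⟨v, rfl⟩
    refine ⟨ρ (b : G) v, ?_⟩
    exact ((hσ b e v).trans (by rw [hefix b]; rfl)).symm
  letI : MulAction A E' :=
    { smul := fun b v => ⟨ρ (b : G) v, hE'mem b v v.2⟩
      one_smul := fun v => Subtype.ext (by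
        show ρ ((1 : A) : G) v = v
        rw [Subgroup.coe_one, map_one]; rfl)
      mul_smul := fun b b' v => Subtype.ext (by
        show ρ ((b * b' : A) : G) v = ρ (b : G) (ρ (b' : G) v)
        rw [Subgroup.coe_mul, map_mul]; rfl) }
  obtain ⟨v₀, hv₀, hv₀0⟩ : ∃ v : E', v ∈ MulAction.fixedPoints A E' ∧ 0 ≠ v := by
    refine hAp.exists_fixed_point_of_prime_dvd_card_of_fixed_point E' ?_ (fun b => Subtype.ext (map_zero _))
    obtain ⟨w, hw⟩ : ∃ w, (e : AddMonoid.End (Layer H Z)) w ≠ 0 := by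
      by_contra hcon
      push Not at hcon
      refine hc0 ?_
      rw [← hec, show e = 0 from Subtype.ext (AddMonoidHom.ext hcon), zero_mul]
    let v : E' := ⟨_, ⟨w, rfl⟩⟩
    have h1 : addOrderOf v = p := by
      refine addOrderOf_eq_prime (Subtype.ext ?_) (fun h0 => hw (congrArg Subtype.val h0))
      obtain ⟨x, hx⟩ := layerMk_surjective H Z (e.1 w)
      show p • (e.1 w) = 0
      rw [← hx, show p • mk x = mk (x ^ p) from rfl]
      exact (layerMk_eq_zero H Z).mpr (hpow x x.2)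
    exact h1 ▸ addOrderOf_dvd_natCard v
  obtain ⟨y, hyE⟩ := v₀
  have hyfix : ∀ b : A, ρ (b : G) y = y := fun b => congrArg Subtype.val (hv₀ b)
  have hy0 : y ≠ 0 := fun e' => hv₀0 (Subtype.ext e'.symm)
  have hey : (e : AddMonoid.End (Layer H Z)) y = y := by
    obtain ⟨w, rfl⟩ := hyE
    exact congrArg (fun r : R => (r : AddMonoid.End (Layer H Z)) w) hee
  let ev : R → Layer H Z := fun r => (r : AddMonoid.End (Layer H Z)) y
  have hevσ : ∀ (b : A) (r : R), ρ (b : G) (ev r) = ev (σ b r) := fun b r => by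
    show ρ (b : G) _ = _
    rw [hσ b r y, hyfix b]
  have hevadd : ∀ r t : R, ev (r + t) = ev r + ev t := fun r t => rfl
  have hevsub : ∀ r t : R, ev (r - t) = ev r - ev t := fun r t =>
    eq_sub_iff_add_eq.mpr (by rw [← hevadd, sub_add_cancel])
  have hevmul : ∀ r t : R, ev (r * t) = (r : AddMonoid.End (Layer H Z)) (ev t) := fun r t => rfl
  have hev0 : ev 0 = 0 := rfl
  have hadj : ∀ r ∈ R, CommAdjoint r := by
    intro r hr
    induction hr using Subring.closure_induction with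
    | mem x hx =>
      obtain ⟨g, hg, rfl⟩ := hx
      obtain ⟨l, hl, hgl⟩ := hρL g hg
      have e' : ρ g⁻¹ = ρ l⁻¹ := by
        calc ρ g⁻¹ = ρ g⁻¹ * (ρ l * ρ l⁻¹) := by rw [← map_mul, mul_inv_cancel, map_one, mul_one]
          _ = _ := by rw [← mul_assoc, ← hgl, hinv1, one_mul]
      rw [hgl, e']
      exact CommAdjoint.of_rep hc hZH (hLZ l hl)
    | zero => exact CommAdjoint.zero hc hZH
    | one => exact CommAdjoint.one hc hZH
    | add x y _ _ ihx ihy => exact ihx.add hc hZH ihy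
    | neg x _ ih => exact ih.neg hc hZH
    | mul x y hx hy ihx ihy => exact ihx.mul hc hZH ihy (hcomm x (hRR hx) y (hRR hy))
  -- the abelian subgroup over `R y`
  obtain ⟨y₀, hy₀⟩ := layerMk_surjective H Z y
  let B : Subgroup G :=
    { carrier := {g | ∃ k : H, (k : G) = g ∧ ∃ r : R, mk k = ev r}
      one_mem' := ⟨1, rfl, 0, rfl⟩
      mul_mem' := by
        rintro _ _ ⟨k, rfl, r, hr⟩ ⟨k', rfl, r', hr'⟩
        exact ⟨k * k', rfl, r + r', by rw [hevadd, ← hr, ← hr']; exact layerMk_mul H Z k k'⟩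
      inv_mem' := by
        rintro _ ⟨k, rfl, r, hr⟩
        exact ⟨k⁻¹, rfl, -r, by
          rw [show ev (-r) = -ev r from eq_neg_of_add_eq_zero_left (by rw [← hevadd, neg_add_cancel]; rfl),
            ← hr]
          exact layerMk_inv H Z k⟩ }
  have hBc : ∀ k ∈ B, ∀ k' ∈ B, k * k' = k' * k := by
    rintro _ ⟨k, rfl, r, hr⟩ _ ⟨k', rfl, r', hr'⟩
    obtain ⟨k'', hk''⟩ := layerMk_surjective H Z ((r : AddMonoid.End (Layer H Z)) (mk k'))
    have e1 := hadj r r.2 y₀ k' k k'' (by rw [hy₀]; exact hr) hk''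
    rw [← commutatorElement_eq_one_iff_mul_comm, e1, commutatorElement_eq_one_iff_mul_comm]
    refine commute_of_commAdjoint hc hZH hp2 hHp (hadj _ (r * r').2) ?_
    rw [hy₀]
    refine hk''.trans ?_
    rw [hr']
    rfl
  have hAconj : ∀ b : A, ∀ g ∈ B, (b : G) * g * (b : G)⁻¹ ∈ B := by
    rintro b _ ⟨k, rfl, r, hr⟩
    refine ⟨⟨(b : G) * k * (b : G)⁻¹, hHn.conj_mem k k.2 b⟩, rfl, σ b r, ?_⟩
    show layerMk H Z _ = _
    rw [← hevσ, ← hr, layerRep_mk]
  have hAB : A ≤ normalizer (B : Set G) := by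
    intro b hb
    rw [mem_normalizer_iff]
    refine fun g => ⟨hAconj ⟨b, hb⟩ g, fun hg => ?_⟩
    have := hAconj ⟨b⁻¹, A.inv_mem hb⟩ _ hg
    simpa [mul_assoc] using this
  have hBS : B ≤ (P : Subgroup G) := by
    rintro _ ⟨k, rfl, -⟩
    exact h.U_le (hHU k.2)
  -- the element `x` over `s ^ 3 y`
  obtain ⟨x, hx⟩ := layerMk_surjective H Z (ev (s ^ 3))
  have hxB : (x : G) ∈ B := ⟨x, rfl, s ^ 3, hx⟩
  have hcover := exists_commutator_mul_mem hA hBS hBc hAB hxB
  let uH : G → H := fun b => ⟨b * x * b⁻¹, hHn.conj_mem x x.2 b⟩ * x⁻¹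
  have huH : ∀ b : G, (uH b : G) = b * x * b⁻¹ * (x : G)⁻¹ := fun b => rfl
  have hu : ∀ b : A, mk (uH b) = ev (σ b (s ^ 3) - s ^ 3) := by
    intro b
    rw [hevsub, ← hevσ, ← hx, sub_eq_add_neg, layerRep_mk, ← layerMk_inv, ← layerMk_mul]
  let δ : R → R := fun r => σ b₁ r - r
  let Δ : Layer H Z → Layer H Z := fun v => ρ (b₁ : G) v - v
  have hΔev : ∀ r, Δ (ev r) = ev (δ r) := fun r => by
    show ρ (b₁ : G) (ev r) - ev r = _
    rw [hevσ, hevsub]
  have hΔadd : ∀ v w, Δ (v + w) = Δ v + Δ w := fun v w => by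
    show ρ (b₁ : G) (v + w) - (v + w) = _
    rw [map_add, add_sub_add_comm]
  have hΔnsmul : ∀ (n : ℕ) v, Δ (n • v) = n • Δ v := fun n v => by
    show ρ (b₁ : G) (n • v) - n • v = _
    rw [map_nsmul, ← nsmul_sub]
  set z₁ := uH (b₁ : G) with hz₁
  set z₂ := uH ((b₁ * b₁ : A) : G) * (uH (b₁ : G))⁻¹ * (uH (b₁ : G))⁻¹ with hz₂
  have e1 : mk z₁ = ev (δ (s ^ 3)) := hu b₁
  have e2 : mk z₂ = ev (δ (δ (s ^ 3))) := by
    have hu' : ∀ b : A, layerMk H Z (uH b) = ev (σ b (s ^ 3) - s ^ 3) := hu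
    show layerMk H Z _ = _
    rw [hz₂, layerMk_mul, layerMk_mul, layerMk_inv, hu', hu', ← sub_eq_add_neg, ← sub_eq_add_neg,
      ← hevsub, ← hevsub, map_mul σ]
    refine congrArg ev ?_
    show σ b₁ (σ b₁ (s ^ 3)) - s ^ 3 - _ - _ = σ b₁ (σ b₁ (s ^ 3) - s ^ 3) - _
    rw [map_sub]
    simp only [δ]
    ring
  have hzmem : (z₁ : G) ∈ closure {g | ∃ b ∈ A, g = b * x * b⁻¹ * (x : G)⁻¹} ∧
      (z₂ : G) ∈ closure {g | ∃ b ∈ A, g = b * x * b⁻¹ * (x : G)⁻¹} := by
    have hb : ∀ b : A, (uH (b : G) : G) ∈ closure {g | ∃ b ∈ A, g = b * x * b⁻¹ * (x : G)⁻¹} :=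
      fun b => subset_closure ⟨b, b.2, huH b⟩
    refine ⟨hb b₁, ?_⟩
    rw [hz₂, Subgroup.coe_mul, Subgroup.coe_mul, Subgroup.coe_inv]
    exact mul_mem (mul_mem (hb _) (inv_mem (hb b₁))) (inv_mem (hb b₁))
  have hchar' : (p : R) = 0 := Subtype.ext (by simpa using hchar)
  have hΔfix : ∀ k : H, (k : G) ∈ A → Δ (mk k) = 0 := by
    intro k hk
    show ρ (b₁ : G) (mk k) - mk k = 0
    rw [layerRep_mk, sub_eq_zero]
    refine congrArg (layerMk H Z) (Subtype.ext ?_)
    show (b₁ : G) * k * (b₁ : G)⁻¹ = k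
    rw [show (b₁ : G) * k = k * b₁ from
      congrArg Subtype.val (hA.2.1.is_comm.comm b₁ (⟨k, hk⟩ : A)), mul_inv_cancel_right]
  let Ψ : ℕ → Layer H Z := fun k => Δ (ev ((s + k * c) ^ 3 - s ^ 3))
  let Φ : Fin p × Fin p → Layer H Z := fun ij =>
    (ij.1 : ℕ) • ev (δ (δ (s ^ 3))) + (ij.2 : ℕ) • ev (δ (δ (δ (s ^ 3))))
  have hmem : ∀ ij, ∃ k : Fin p, Φ ij = Ψ k := by
    rintro ⟨i, j⟩
    obtain ⟨b, hb, hbA⟩ := hcover ((z₁ ^ (i : ℕ) * z₂ ^ (j : ℕ) : H) : G)
      (by rw [Subgroup.coe_mul, Subgroup.coe_pow, Subgroup.coe_pow]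
          exact mul_mem (pow_mem hzmem.1 _) (pow_mem hzmem.2 _))
    rw [← huH b, ← Subgroup.coe_inv, ← Subgroup.coe_mul] at hbA
    have h0 := hΔfix _ hbA
    obtain ⟨k, hk⟩ := hs ⟨b, hb⟩
    refine ⟨⟨k % p, Nat.mod_lt _ hp.out.pos⟩, ?_⟩
    have hkp : ((k % p : ℕ) : R) = (k : R) := by
      conv_rhs => rw [← Nat.mod_add_div k p, Nat.cast_add, Nat.cast_mul, hchar', zero_mul, add_zero]
    show Φ (i, j) = Δ (ev ((s + ((k % p : ℕ) : R) * c) ^ 3 - s ^ 3))
    rw [hkp, ← hk, ← map_pow, ← hu ⟨b, hb⟩]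
    have h1 : mk (z₁ ^ (i : ℕ) * z₂ ^ (j : ℕ)) =
        mk (uH b) + mk ((uH b)⁻¹ * (z₁ ^ (i : ℕ) * z₂ ^ (j : ℕ))) := by
      rw [← layerMk_mul, mul_inv_cancel_left]
    have h2 := congrArg Δ h1
    rw [hΔadd, h0, add_zero] at h2
    refine Eq.trans ?_ h2
    show _ = Δ (layerMk H Z (z₁ ^ (i : ℕ) * z₂ ^ (j : ℕ)))
    rw [layerMk_mul, hΔadd, show layerMk H Z (z₁ ^ (i : ℕ)) = (i : ℕ) • mk z₁ from rfl,
      show layerMk H Z (z₂ ^ (j : ℕ)) = (j : ℕ) • mk z₂ from rfl, hΔnsmul, hΔnsmul, e1, e2, hΔev, hΔev]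
  have h6 : δ (δ (δ (s ^ 3))) = (6 : ℕ) * c ^ 3 := iterate_shift_pow (σ b₁) hb₁ (hcfix b₁) 3
  set w := ev (δ (δ (δ (s ^ 3)))) with hw
  have hw0 : w ≠ 0 := by
    intro h0
    obtain ⟨n, hn⟩ : ∃ n : R, n * ((6 : ℕ) : R) = 1 := by
      have h6p : Nat.Coprime 6 p := (Nat.Prime.coprime_iff_not_dvd hp.out).mpr (fun hd => by
        have := Nat.le_of_dvd (by norm_num) hd
        have : p = 5 ∨ p = 6 := by omega
        rcases this with rfl | rfl
        · norm_num at hd
        · exact absurd hp.out (by norm_num)) |>.symm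
      obtain ⟨n, hn⟩ := Nat.exists_mul_mod_eq_one_of_coprime h6p hp.out.one_lt
      refine ⟨n, ?_⟩
      rw [← Nat.cast_mul, mul_comm n 6, ← Nat.mod_add_div (6 * n) p, hn.2, Nat.cast_add, Nat.cast_mul,
        hchar', zero_mul, add_zero, Nat.cast_one]
    refine hy0 ?_
    have hc3 : ev (c ^ 3) = 0 := by
      rw [show c ^ 3 = n * ((6 : ℕ) * c ^ 3) by rw [← mul_assoc, hn, one_mul], hevmul, ← h6, ← hw, h0,
        map_zero]
    rw [← hey]
    show ev e = 0
    rw [he, show q - 1 = (q - 4) + 3 by omega, pow_add, hevmul, hc3, map_zero]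
  have hpw : addOrderOf w = p := by
    refine addOrderOf_eq_prime ?_ hw0
    obtain ⟨k, hk⟩ := layerMk_surjective H Z w
    rw [← hk, show p • layerMk H Z k = mk (k ^ p) from rfl]
    exact (layerMk_eq_zero H Z).mpr (hpow k k.2)
  have hΔw : Δ w = 0 := by
    rw [hw, hΔev, h6]
    show ev (σ b₁ _ - _) = 0
    rw [map_mul, map_natCast, map_pow, hcfix b₁, sub_self]
    exact hev0
  have hinj : Function.Injective Φ := by
    rintro ⟨i, j⟩ ⟨i', j'⟩ hij
    have h2 := congrArg Δ hij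
    simp only [Φ, hΔadd, hΔnsmul, hΔev] at h2
    rw [← hw, ← hΔev, ← hw, hΔw, smul_zero, smul_zero, add_zero, add_zero] at h2
    have hii : i = i' := Fin.ext (by
      have := nsmul_eq_nsmul_iff_modEq.mp h2
      rw [hpw] at this
      exact Nat.ModEq.eq_of_lt_of_lt this i.2 i'.2)
    subst hii
    have h3 : (j : ℕ) • w = (j' : ℕ) • w := add_left_cancel hij
    have hjj : j = j' := Fin.ext (by
      have := nsmul_eq_nsmul_iff_modEq.mp h3
      rw [hpw] at this
      exact Nat.ModEq.eq_of_lt_of_lt this j.2 j'.2)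
    rw [hjj]
  choose κ hκ using hmem
  have hle := Nat.card_le_card_of_injective κ fun a b hab => hinj (by rw [hκ a, hκ b, hab])
  rw [Nat.card_prod, Nat.card_fin] at hle
  nlinarith

end CfsgLib.Complement
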