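import Cfsg.Prelude.Def_TwoFusion
import Cfsg.Agent.Lib.Complement.AbelianThompson
import Cfsg.Agent.Lib.Complement.CenterThompson

/-!
# The normal `p`-complement criterion with `Z(J(S))`, `J` from abelian subgroups of largest order
-/

set_option autoImplicit false

namespace CfsgLib.Complement

open Subgroup
open scoped commutatorElement

universe u

variable {G : Type u} [Group G]

theorem centerThompsonAOf_le (S : Subgroup G) : Cfsg.centerThompsonAOf S ≤ S :=
  inf_le_left.trans (thompsonAOf_le S)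

theorem centerThompsonAOf_comm (S : Subgroup G) : IsMulCommutative (Cfsg.centerThompsonAOf S) :=
  ⟨⟨fun x y => Subtype.ext ((y.2.2 x.1 x.2.1))⟩⟩

theorem centerThompsonAOf_map {H : Type u} [Group H] (f : G →* H) {S : Subgroup G}
    (hf : Set.InjOn f (S : Set G)) :
    (Cfsg.centerThompsonAOf S).map f = Cfsg.centerThompsonAOf (S.map f) := by
  unfold Cfsg.centerThompsonAOf
  rw [← thompsonAOf_map f hf]
  exact PLocal.center_map_of_injOn f (hf.mono (thompsonAOf_le S))

theorem normalizer_le_normalizer_centerThompsonAOf (S : Subgroup G) :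
    normalizer (S : Set G) ≤ normalizer (Cfsg.centerThompsonAOf S : Set G) := by
  intro g hg
  rw [mem_normalizer_iff_map_conj_eq] at hg ⊢
  rw [centerThompsonAOf_map _ (fun a _ b _ h => (MulAut.conj g).injective h), hg]

/-- `N(Z(J(S)))`, `J` from abelian subgroups. -/
def centerThompsonAFunctor (p : ℕ) [Fact p.Prime] : LocalFunctor.{u} p :=
  normalizerFunctor (fun S => Cfsg.centerThompsonAOf S) (fun S => centerThompsonAOf_le S)
    (fun S hS h1 => center_inf_ne_bot (hS.to_le (thompsonAOf_le S)) (thompsonAOf_ne_bot h1))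
    fun f S hf => centerThompsonAOf_map f hf

theorem mem_normalizer_of_strongly_closed {D S : Subgroup G} (hD : Cfsg.IsStronglyClosed D S) {s : G}
    (hs : s ∈ S) : s ∈ normalizer (D : Set G) := by
  rw [mem_normalizer_iff]
  intro x
  refine ⟨fun hx => hD.2 x hx s (S.mul_mem (S.mul_mem hs (hD.1 hx)) (S.inv_mem hs)), fun hx => ?_⟩
  have h := hD.2 _ hx s⁻¹ (S.mul_mem (S.mul_mem (S.inv_mem hs) (hD.1 hx)) (S.inv_mem (S.inv_mem hs)))
  simpa [mul_assoc] using h

theorem isStronglyClosed_self (S : Subgroup G) : Cfsg.IsStronglyClosed S S :=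
  ⟨le_rfl, fun _ _ _ h => h⟩

/-- Glauberman: `Z(J(D)) ⊓ B` is normal for every normal `p`-subgroup `B`, `D` strongly closed. -/
theorem centerThompsonAOf_inf_normal_of_closed [Finite G] {p : ℕ} [hp : Fact p.Prime] (hp2 : Odd p)
    (S : Sylow p G) {D : Subgroup G} (hD : Cfsg.IsStronglyClosed D (S : Subgroup G))
    (hstab : ∀ B : Subgroup G, B.Normal → IsPGroup p B → ∀ a ∈ (S : Subgroup G),
      (∀ x ∈ B, a * (a * x * a⁻¹ * x⁻¹) * a⁻¹ = a * x * a⁻¹ * x⁻¹) →
      ∃ K : Subgroup G, K.Normal ∧ a ∈ K ∧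
        ∀ g ∈ K, (orderOf g).Coprime p → g ∈ Subgroup.centralizer (B : Set G)) :
    ∀ B : Subgroup G, B.Normal → IsPGroup p B →
      (Cfsg.centerThompsonAOf D ⊓ B).Normal := by
  intro B
  induction hn : Nat.card B using Nat.strong_induction_on generalizing B with
  | _ n ih =>
    subst hn
    intro hBn hBp
    set J := Cfsg.thompsonSubgroupAOf D with hJ
    set Z := Cfsg.centerThompsonAOf D with hZ
    set X := Z ⊓ B with hX
    by_cases hB1 : B = ⊥
    · have : X = ⊥ := le_bot_iff.mp (inf_le_right.trans hB1.le)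
      rw [this]; infer_instance
    have hBS : B ≤ (S : Subgroup G) := CfsgLib.Solvable.normal_pgroup_le_sylow hBp S
    have hSX : (S : Subgroup G) ≤ Subgroup.normalizer (X : Set G) := fun s hs => by
      rw [Subgroup.mem_normalizer_iff_map_conj_eq, Subgroup.map_inf _ _ _ (MulAut.conj s).injective,
        Subgroup.mem_normalizer_iff_map_conj_eq.mp
          (normalizer_le_normalizer_centerThompsonAOf _ (mem_normalizer_of_strongly_closed hD hs)),
        Subgroup.mem_normalizer_iff_map_conj_eq.mp (Subgroup.normalizer_eq_top B ▸ Subgroup.mem_top s)]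
    -- reduce to `B` generated by the conjugates of `X`
    set N := Subgroup.normalClosure (X : Set G)
    have hNB : N ≤ B := Subgroup.normalClosure_le_normal (inf_le_right : X ≤ B)
    by_cases hNlt : N = B
    swap
    · have hcard : Nat.card N < Nat.card B := lt_of_le_of_ne (Subgroup.card_le_of_le hNB)
        fun h => hNlt (Subgroup.eq_of_le_of_card_ge hNB h.ge)
      have := ih _ hcard N rfl Subgroup.normalClosure_normal (hBp.to_le hNB)
      rwa [show Z ⊓ N = X from le_antisymm (inf_le_inf_left Z hNB)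
        (le_inf inf_le_left Subgroup.le_normalClosure)] at this
    have hBD : B ≤ D := by
      rw [← hNlt]
      refine (Subgroup.closure_le _).mpr ?_
      intro y hy
      obtain ⟨x, hx, hxy⟩ := Group.mem_conjugatesOfSet_iff.mp hy
      obtain ⟨g, rfl⟩ := isConj_iff.mp hxy
      exact hD.2 x ((inf_le_left.trans (centerThompsonAOf_le D) : X ≤ D) hx) g
        (hBS (hBn.conj_mem x hx.2 g))
    -- the derived subgroup of `B`
    have hDn : (⁅B, B⁆ : Subgroup G).Normal := Subgroup.commutator_normal B B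
    have hDB : ⁅B, B⁆ ≤ B := Subgroup.commutator_le_left B B
    have hDlt : Nat.card ↥⁅B, B⁆ < Nat.card B := by
      refine lt_of_le_of_ne (Subgroup.card_le_of_le hDB) fun h => ?_
      have hBB : ⁅B, B⁆ = B := Subgroup.eq_of_le_of_card_ge hDB h.ge
      have : Nontrivial B := (Subgroup.nontrivial_iff_ne_bot B).mpr hB1
      have := hBp.isNilpotent
      refine (Group.IsSolvable.commutator_lt_top_of_nontrivial (G := B)).ne ?_
      apply Subgroup.map_injective B.subtype_injective
      rw [← MonoidHom.range_eq_map, Subgroup.range_subtype, _root_.commutator_def,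
        Subgroup.map_commutator, ← MonoidHom.range_eq_map, Subgroup.range_subtype, hBB]
    set W := Z ⊓ ⁅B, B⁆
    have hWn : W.Normal := ih _ hDlt _ rfl hDn (hBp.to_le hDB)
    have hWc : ∀ w ∈ W, ∀ g : G, ∀ x ∈ X, Commute w (g * x * g⁻¹) := by
      intro w hw g x hx
      have h1 : g⁻¹ * w * g ∈ Z := ((hWn.conj_mem' w hw g)).1
      have h2 : Commute (g⁻¹ * w * g) x := (hx.1.2 _ h1.1)
      have := h2.map (MulAut.conj g).toMonoidHom
      simpa [mul_assoc] using this
    have hDW : ⁅B, B⁆ ≤ W := by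
      rw [Subgroup.commutator_le]
      intro s hs t ht
      rw [← hNlt] at hs
      have key : N ≤ (Subgroup.centralizer ((B.map (QuotientGroup.mk' W) : Subgroup (G ⧸ W)) : Set (G ⧸ W))).comap
          (QuotientGroup.mk' W) := by
        have : (B.map (QuotientGroup.mk' W)).Normal := hBn.map _ (QuotientGroup.mk'_surjective W)
        refine Subgroup.normalClosure_le_normal ?_
        intro x hx
        rw [SetLike.mem_coe, Subgroup.mem_comap, Subgroup.mem_centralizer_iff]
        rintro _ ⟨b, hb, rfl⟩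
        rw [← map_mul, ← map_mul]
        refine QuotientGroup.eq.mpr ?_
        have hbX : b⁻¹ * x * b ∈ X := (Subgroup.mem_normalizer_iff''.mp (hSX (hBS hb)) x).mp hx
        refine ⟨?_, ?_⟩
        · have : (b * x)⁻¹ * (x * b) = x⁻¹ * (b⁻¹ * x * b) := by group
          rw [this]
          exact Z.mul_mem (Z.inv_mem hx.1) hbX.1
        · have : (b * x)⁻¹ * (x * b) = ⁅x⁻¹, b⁻¹⁆ := by rw [commutatorElement_def]; group
          rw [this]
          exact Subgroup.commutator_mem_commutator (B.inv_mem hx.2) (B.inv_mem hb)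
      have h := Subgroup.mem_centralizer_iff.mp (key hs) _ ⟨t, ht, rfl⟩
      rw [← QuotientGroup.eq_one_iff]
      show QuotientGroup.mk' W ⁅s, t⁆ = 1
      rw [map_commutatorElement, commutatorElement_eq_one_iff_commute]
      exact h.symm
    have hWB : B ≤ Subgroup.centralizer (W : Set G) := by
      rw [← hNlt]
      refine (Subgroup.closure_le _).mpr ?_
      intro y hy
      obtain ⟨x, hx, hxy⟩ := Group.mem_conjugatesOfSet_iff.mp hy
      obtain ⟨g, rfl⟩ := isConj_iff.mp hxy
      exact fun w hw => (hWc w hw g x hx).eq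
    have hB2 : ∀ x ∈ B, ∀ y ∈ B, ∀ z ∈ B, Commute z (x * y * x⁻¹ * y⁻¹) := fun x hx y hy z hz =>
      (hWB hz _ (hDW (Subgroup.commutator_mem_commutator hx hy))).symm
    -- the largest normal subgroup normalizing `X`
    set L := (Subgroup.normalizer (X : Set G)).normalCore
    have hLn : L.Normal := Subgroup.normalCore_normal _
    by_contra hnot
    set R := (S : Subgroup G) ⊓ L
    set RD := D ⊓ L
    have hRN : Subgroup.normalizer (R : Set G) ≤ Subgroup.normalizer (RD : Set G) := by
      intro g hg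
      rw [Subgroup.mem_normalizer_iff] at hg ⊢
      intro x
      refine ⟨fun hx => ?_, fun hx => ?_⟩
      · have hxR := (hg x).mp ⟨hD.1 hx.1, hx.2⟩
        exact ⟨hD.2 x hx.1 g hxR.1, hxR.2⟩
      · have hxR := (hg x).mpr ⟨hD.1 hx.1, hx.2⟩
        have h' := hD.2 _ hx.1 g⁻¹ (by rw [show g⁻¹ * (g * x * g⁻¹) * g⁻¹⁻¹ = x by group]; exact hxR.1)
        exact ⟨by simpa [mul_assoc] using h', hxR.2⟩
    have hLX : L ≤ Subgroup.normalizer (X : Set G) := Subgroup.normalCore_le _
    have htop : ∀ Y : Subgroup G, L ≤ Y → Subgroup.normalizer (R : Set G) ≤ Y → Y = ⊤ := fun Y h1 h2 =>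
      top_le_iff.mp fun g _ => by
        obtain ⟨c, hc, n, hn, rfl⟩ := CfsgLib.PLocal.frattini_mul S L g
        exact Y.mul_mem (h1 hc) (h2 hn)
    have hAL : ∃ A ∈ maxAbIn D, ¬ A ≤ L := by
      by_contra hall
      apply hnot
      have hall' : J ≤ RD := by
        refine le_inf (thompsonAOf_le _) ?_
        rw [hJ, thompsonAOf_eq]
        exact sSup_le fun A hA => by_contra fun h => hall ⟨A, hA, h⟩
      refine Subgroup.normalizer_eq_top_iff.mp (htop _ hLX ?_)
      intro g hg
      have h2 : g ∈ Subgroup.normalizer (Z : Set G) := by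
        have := normalizer_le_normalizer_centerThompsonAOf RD (hRN hg)
        rwa [show Cfsg.centerThompsonAOf RD = Z by
          rw [hZ, Cfsg.centerThompsonAOf, Cfsg.centerThompsonAOf,
            thompsonAOf_eq_of_le hall' inf_le_left]] at this
      rw [Subgroup.mem_normalizer_iff_map_conj_eq, Subgroup.map_inf _ _ _ (MulAut.conj g).injective,
        Subgroup.mem_normalizer_iff_map_conj_eq.mp h2,
        Subgroup.mem_normalizer_iff_map_conj_eq.mp (Subgroup.normalizer_eq_top B ▸ Subgroup.mem_top g)]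
    -- quadratic elements on `B₁` lie in `L`
    have hquadL : ∀ a ∈ (S : Subgroup G),
        (∀ x ∈ B, a * (a * x * a⁻¹ * x⁻¹) * a⁻¹ = a * x * a⁻¹ * x⁻¹) → a ∈ L := by
      intro a haS hq
      obtain ⟨K, hKn, haK, hK⟩ := hstab B hBn hBp a haS hq
      set C := Subgroup.centralizer (B : Set G)
      have hK' : ∀ g ∈ K, (orderOf g).Coprime p → g ∈ C := hK
      have hmap := OddLocal.map_le_pCore_of_p'_le C K hK'
      set f := QuotientGroup.mk' C
      have := CfsgLib.Solvable.pCore_normal p (G ⧸ C)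
      have hPL : (Cfsg.pCore p (G ⧸ C)).comap f ≤ L := by
        refine (Subgroup.normal_le_normalCore (hN := Subgroup.Normal.comap inferInstance f)).mpr ?_
        intro g hg
        obtain ⟨s, hs, hsg⟩ :=
          CfsgLib.Solvable.pCore_le_sylow (S.mapSurjective (QuotientGroup.mk'_surjective C)) hg
        have h1 : s⁻¹ * g ∈ C := QuotientGroup.eq.mp hsg
        have h2 : s⁻¹ * g ∈ Subgroup.normalizer (X : Set G) :=
          Subgroup.centralizer_le_normalizer _ (Subgroup.centralizer_le (inf_le_right : X ≤ B) h1)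
        simpa using Subgroup.mul_mem _ (hSX hs) h2
      exact hPL (hmap ⟨a, haK, rfl⟩)
    obtain ⟨A, ⟨hAmem, hAnL⟩, hAmax⟩ := Set.exists_max_image
      {A | A ∈ maxAbIn D ∧ ¬ A ≤ L}
      (fun A => Nat.card ↥(A ⊓ B)) (Set.toFinite _) (by obtain ⟨A, h1, h2⟩ := hAL; exact ⟨A, h1, h2⟩)
    obtain ⟨a, haA, haL⟩ := SetLike.not_le_iff_exists.mp hAnL
    have hnn : ¬ B ≤ Subgroup.normalizer (A : Set G) := fun h =>
      haL (hquadL a (hD.1 (hAmem.1 haA)) fun x hx => OddLocal.quad_of_normalizes hAmem.2.1 haA (h hx))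
    obtain ⟨A', hA', hA'N, hlt⟩ := abelian_replacement (S.2.to_le hD.1) (Or.inl hp2) hAmem hBD
      (le_top.trans (Subgroup.normalizer_eq_top B).ge) hB2
      (fun x hx y hy b hb => by
        have h : x * y * x⁻¹ * y⁻¹ ∈ Z := (hDW (Subgroup.commutator_mem_commutator hx hy)).1
        exact h.2 b (le_thompsonAOf hAmem hb)) hnn
    have hA'L : A' ≤ L := by
      by_contra h
      exact absurd (hAmax A' ⟨hA', h⟩) (not_le.mpr hlt)
    have hA'R : A' ≤ RD := le_inf hA'.1 hA'L
    -- `B` centralizes `A'`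
    set JR := Cfsg.thompsonSubgroupAOf RD
    have hJR : JR ≤ J := by
      have h1 : JR = _ := thompsonAOf_eq RD
      rw [h1, hJ, thompsonAOf_eq]
      refine sSup_le fun E hE => le_sSup ?_
      exact ((maxAbIn_of_le inf_le_left hA' hA'R).mp hE).1
    have hA'JR : A' ≤ JR := le_thompsonAOf
      ((maxAbIn_of_le inf_le_left hA' hA'R).mpr ⟨hA', hA'R⟩)
    have hXJR : X ≤ Subgroup.centralizer (JR : Set G) :=
      inf_le_left.trans (inf_le_right.trans (Subgroup.centralizer_le hJR))
    have hBc : B ≤ Subgroup.centralizer (JR : Set G) := by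
      rw [← hNlt]
      refine (Subgroup.closure_le _).mpr ?_
      intro y hy
      obtain ⟨x, hx, hxy⟩ := Group.mem_conjugatesOfSet_iff.mp hy
      obtain ⟨g, rfl⟩ := isConj_iff.mp hxy
      obtain ⟨c, hc, n, hn, he⟩ := CfsgLib.PLocal.frattini_mul S L g⁻¹
      obtain ⟨r, hr, l, hl, rfl⟩ : ∃ r ∈ Subgroup.normalizer (R : Set G), ∃ l ∈ L, g = r * l :=
        ⟨n⁻¹, Subgroup.inv_mem _ hn, c⁻¹, L.inv_mem hc, by rw [← inv_inv g, he]; group⟩
      have h1 : l * x * l⁻¹ ∈ X := (Subgroup.mem_normalizer_iff.mp (hLX hl) x).mp hx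
      have h2 := normalizer_le_normalizer_thompsonAOf RD (hRN hr)
      intro j hj
      have h3 : r⁻¹ * j * r ∈ JR := (Subgroup.mem_normalizer_iff''.mp h2 j).mp hj
      have h4 : Commute (r⁻¹ * j * r) (l * x * l⁻¹) := hXJR h1 _ h3
      have := (h4.map (MulAut.conj r).toMonoidHom).eq
      simpa [mul_assoc] using this
    have hBA' : B ≤ A' := fun x hx => mem_maxAbIn_of_centralizes hA' (hBD hx)
      (fun b hb => hBc hx b (hA'JR hb))
    exact haL (hquadL a (hD.1 (hAmem.1 haA)) fun x hx =>
      OddLocal.quad_of_normalizes hAmem.2.1 haA (hA'N (hBA' hx)))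

theorem MinimalFailure.stable [Finite G] {p : ℕ} [hp : Fact p.Prime] (hp2 : p ≠ 2) {ι : Type*}
    {F : ι → LocalFunctor.{u} p} {P : Sylow p G} {U M : Subgroup G} {m : ℕ}
    (h : MinimalFailure F P U M m) :
    ∀ B : Subgroup G, B.Normal → IsPGroup p B → ∀ a ∈ (P : Subgroup G),
      (∀ x ∈ B, a * (a * x * a⁻¹ * x⁻¹) * a⁻¹ = a * x * a⁻¹ * x⁻¹) →
      ∃ K : Subgroup G, K.Normal ∧ a ∈ K ∧
        ∀ g ∈ K, (orderOf g).Coprime p → g ∈ centralizer (B : Set G) := by
  have hUn := h.normal_U
  have hMn := h.normal_M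
  intro B hBn hBp a ha hq
  have htriv : ∀ (L : Subgroup G), IsPGroup p L → ∀ g ∈ L, (orderOf g).Coprime p → g = 1 := by
    intro L hL g hg hord
    obtain ⟨k, hk⟩ := IsPGroup.iff_orderOf.mp hL ⟨g, hg⟩
    rw [Subgroup.orderOf_mk] at hk
    exact orderOf_eq_one_iff.mp (Nat.eq_one_of_dvd_coprimes (hord.pow_right k) dvd_rfl hk.dvd)
  set C := centralizer (B : Set G) with hC
  have hCn : C.Normal := inferInstance
  rcases h.sylow_maximal ((P : Subgroup G) ⊔ C) le_sup_left with hs | hs
  · -- `C(B)` is a `p`-group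
    have hCU : C ≤ U := h.U_max C hCn (P.2.to_le (le_sup_right.trans hs.le))
    obtain ⟨D, hDn, hDa, hD⟩ := exists_normal_of_quadratic_layer hp2 G M U h.isPGroup_U h.coprime_m
      h.commutator_M h.pow_m B hBp hq
    have hDU : D ≤ U := by
      refine h.U_max D hDn fun g => ?_
      obtain ⟨g, hg⟩ := g
      refine ⟨(orderOf g).factorization p, Subtype.ext ?_⟩
      show g ^ _ = (1 : G)
      set x := g ^ p ^ (orderOf g).factorization p with hxdef
      have hx : (orderOf x).Coprime p := by
        rw [hxdef, orderOf_pow' g (pow_ne_zero _ hp.out.ne_zero),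
          Nat.gcd_eq_right (Nat.ordProj_dvd (orderOf g) p)]
        exact (Nat.coprime_ordCompl hp.out (orderOf_pos g).ne').symm
      exact htriv U h.isPGroup_U x (hCU (hD x (pow_mem hg _) hx)) hx
    exact ⟨U, hUn, h.faithful a ha fun k hk => hDU (hDa k hk), fun g hg hord => by
      rw [htriv U h.isPGroup_U g hg hord]; exact one_mem _⟩
  · -- `G = P C(B)`
    refine ⟨⊤, inferInstance, mem_top a, fun g _ hord => ?_⟩
    obtain ⟨k, hk⟩ := IsPGroup.iff_card.mp
      (P.2.map (QuotientGroup.mk' C) : IsPGroup p ((P : Subgroup G).map (QuotientGroup.mk' C)))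
    have htop : (P : Subgroup G).map (QuotientGroup.mk' C) = ⊤ := by
      rw [← Subgroup.map_top_of_surjective _ (QuotientGroup.mk'_surjective C), ← hs, Subgroup.map_sup,
        (map_eq_bot_iff C).mpr (QuotientGroup.ker_mk' C).ge, sup_bot_eq]
    rw [htop, card_top] at hk
    rw [← QuotientGroup.eq_one_iff]
    refine orderOf_eq_one_iff.mp (Nat.eq_one_of_dvd_coprimes (hord.pow_right k)
      (orderOf_map_dvd (QuotientGroup.mk' C) g) ?_)
    rw [← hk]
    exact orderOf_dvd_natCard _

/-- In a minimal failure an abelian `Z ≤ P` with `N(Z) = P` cannot meet every normal `p`-subgroup in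
a normal subgroup. -/
theorem MinimalFailure.false_of_inf_normal [Finite G] {p : ℕ} [hp : Fact p.Prime] (hp2 : p ≠ 2)
    {ι : Type*} {F : ι → LocalFunctor.{u} p} {P : Sylow p G} {U M : Subgroup G} {m : ℕ}
    (h : MinimalFailure F P U M m) {Z : Subgroup G} (hZle : Z ≤ (P : Subgroup G))
    (hZc : IsMulCommutative Z) (hloc : normalizer (Z : Set G) = P)
    (hlc : Cfsg.HasNormalPComplement p (P : Subgroup G))
    (hinf : ∀ B : Subgroup G, B.Normal → IsPGroup p B → (Z ⊓ B).Normal) : False := by
  have hUn := h.normal_U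
  have hstab := h.stable hp2
  have hPtop : (P : Subgroup G) ≠ ⊤ := fun e => h.not_complement
    (hasNormalPComplement_of_top (e ▸ hlc))
  have hZU : Z ≤ U := by
    intro a ha
    obtain ⟨K, hKn, haK, hK⟩ := hstab U hUn h.isPGroup_U a (hZle ha)
      fun x hx => OddLocal.quad_of_normalizes hZc ha
        (hloc.ge (h.U_le hx))
    refine h.U_max K hKn (fun g => ?_) haK
    obtain ⟨g, hg⟩ := g
    refine ⟨(orderOf g).factorization p, Subtype.ext ?_⟩
    show g ^ _ = (1 : G)
    set x := g ^ p ^ (orderOf g).factorization p with hxdef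
    have hx : (orderOf x).Coprime p := by
      rw [hxdef, orderOf_pow' g (pow_ne_zero _ hp.out.ne_zero),
        Nat.gcd_eq_right (Nat.ordProj_dvd (orderOf g) p)]
      exact (Nat.coprime_ordCompl hp.out (orderOf_pos g).ne').symm
    obtain ⟨k, hk⟩ := IsPGroup.iff_orderOf.mp h.isPGroup_U
      ⟨x, h.centralizer_le (hK x (pow_mem hg _) hx)⟩
    rw [Subgroup.orderOf_mk] at hk
    exact orderOf_eq_one_iff.mp (Nat.eq_one_of_dvd_coprimes (hx.pow_right k) dvd_rfl hk.dvd)
  have hn := hinf U hUn h.isPGroup_U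
  rw [inf_eq_left.mpr hZU] at hn
  exact hPtop (hloc.symm.trans (normalizer_eq_top_iff.mpr hn))

/-- For odd `p`, a normal `p`-complement in `N(Z(J(P)))` gives one in `G`. -/
theorem hasNormalPComplement_of_centerThompsonA [Finite G] {p : ℕ} [hp : Fact p.Prime] (hp2 : p ≠ 2)
    (P : Sylow p G) (hZ : Cfsg.HasNormalPComplement p
      (normalizer (Cfsg.centerThompsonAOf (P : Subgroup G) : Set G))) :
    Cfsg.HasNormalPComplement p G :=
  hasNormalPComplement_of_local (fun _ : Unit => centerThompsonAFunctor.{u} p) () (fun _ => rfl)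
    (fun H _ _ P U M m h => h.false_of_inf_normal hp2 (centerThompsonAOf_le _)
      (centerThompsonAOf_comm _) (h.loc_eq ()) (h.loc_eq () ▸ h.local_complement ())
      (centerThompsonAOf_inf_normal_of_closed (hp.out.odd_of_ne_two hp2) P (isStronglyClosed_self _)
        (h.stable hp2)))
    G P fun _ => hZ

end CfsgLib.Complement
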