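import Cfsg.Agent.Lib.Complement.Unipotent
import Cfsg.Agent.Lib.Complement.QuadAbelian

/-!
# Unipotent elements of degree less than `p` centralize abelian `p'`-groups of automorphisms
-/

set_option autoImplicit false

namespace CfsgLib.Complement

open Subgroup
open scoped commutatorElement

universe u

variable {X : Type u} [Group X]

/-- An element `a` acting on an elementary abelian `p`-subgroup `W` unipotently of degree less than
`p` centralizes every `a`-invariant group of automorphisms of `W` which is abelian of order prime to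
`p`. -/
theorem commutator_mem_centralizer_of_unipotent [Finite X] {p : ℕ} [hp : Fact p.Prime]
    {W K : Subgroup X} (hW : IsMulCommutative W) (hWp : ∀ w ∈ W, w ^ p = 1)
    (hK : K ≤ normalizer (W : Set X))
    (hKab : ∀ x ∈ K, ∀ y ∈ K, x * y * x⁻¹ * y⁻¹ ∈ centralizer (W : Set X))
    {m : ℕ} (hm : m.Coprime p) (hKm : ∀ x ∈ K, x ^ m ∈ centralizer (W : Set X))
    {a : X} (haW : a ∈ normalizer (W : Set X)) (haK : a ∈ normalizer (K : Set X))
    (huni : ∀ w ∈ W, (fun v => a * v * a⁻¹ * v⁻¹)^[p - 1] w = 1) :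
    ∀ k ∈ K, a * k * a⁻¹ * k⁻¹ ∈ centralizer (W : Set X) := by
  classical
  let _ : CommGroup W := { (inferInstance : Group W) with mul_comm := hW.is_comm.comm }
  let Φ : normalizer (W : Set X) →* AddMonoid.End (Additive W) :=
    { toFun := fun g => MonoidHom.toAdditive (normalizerMonoidHom W g).toMonoidHom
      map_one' := AddMonoidHom.ext fun w => by rw [map_one]; rfl
      map_mul' := fun g h => AddMonoidHom.ext fun w => by rw [map_mul]; rfl }
  have hΦ : ∀ (g : normalizer (W : Set X)) (w : W),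
      ((Φ g (Additive.ofMul w)).toMul : X) = g * w * (g : X)⁻¹ := fun g w => rfl
  have hker : ∀ g : normalizer (W : Set X), Φ g = 1 ↔ (g : X) ∈ centralizer (W : Set X) := by
    intro g
    rw [mem_centralizer_iff]
    constructor
    · intro h w hw
      have := hΦ g ⟨w, hw⟩
      rw [h] at this
      exact (eq_mul_inv_iff_mul_eq.mp this)
    · intro h
      refine AddMonoidHom.ext fun w => Additive.toMul.injective (Subtype.ext ?_)
      show ((Φ g (Additive.ofMul w.toMul)).toMul : X) = w.toMul
      rw [hΦ, ← h _ w.toMul.2, mul_inv_cancel_right]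
  have hchar : ∀ r : AddMonoid.End (Additive W), (p : AddMonoid.End (Additive W)) * r = 0 := by
    intro r
    rw [← nsmul_eq_mul]
    refine AddMonoidHom.ext fun w => ?_
    show p • (r w) = 0
    exact Additive.toMul.injective (Subtype.ext (hWp _ (r w).toMul.2))
  rcases eq_or_ne W ⊥ with rfl | hW1
  · intro k _
    rw [mem_centralizer_iff]
    intro w hw
    rw [show w = 1 from hw]; simp
  have : Nontrivial W := (nontrivial_iff_ne_bot W).mpr hW1
  have : Nontrivial (AddMonoid.End (Additive W)) := by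
    obtain ⟨w, hw⟩ := exists_ne (1 : W)
    exact ⟨1, 0, fun h => hw (DFunLike.congr_fun h (Additive.ofMul w))⟩
  have : CharP (AddMonoid.End (Additive W)) p :=
    (CharP.charP_iff_prime_eq_zero hp.out).mpr (by simpa using hchar 1)
  set A := Φ ⟨a, haW⟩ with hA
  set A' := Φ ⟨a⁻¹, inv_mem haW⟩ with hA'
  have hn : (A - 1) ^ (p - 1) = 0 := by
    have hit : ∀ (i : ℕ) (w : Additive W),
        (((A - 1) ^ i) w).toMul.1 = (fun v => a * v * a⁻¹ * v⁻¹)^[i] (w.toMul : X) := by
      intro i
      induction i with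
      | zero => intro w; rfl
      | succ i ih =>
        intro w
        rw [pow_succ', Function.iterate_succ_apply', ← ih]
        obtain ⟨v, hv⟩ : ∃ v, v = ((A - 1) ^ i) w := ⟨_, rfl⟩
        rw [← hv]
        show (((A - 1) * (A - 1) ^ i) w).toMul.1 = _
        rw [show ((A - 1) * (A - 1) ^ i) w = A v - v by rw [hv]; rfl, toMul_sub, div_eq_mul_inv,
          Subgroup.coe_mul, Subgroup.coe_inv]
        rfl
    exact AddMonoidHom.ext fun w => Additive.toMul.injective (Subtype.ext
      ((hit (p - 1) w).trans (huni _ w.toMul.2)))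
  have h1 : A * A' = 1 := by
    rw [hA, hA', ← map_mul, show (⟨a, haW⟩ : normalizer (W : Set X)) * ⟨a⁻¹, inv_mem haW⟩ = 1 from
      Subtype.ext (mul_inv_cancel a), map_one]
  have h2 : A' * A = 1 := by
    rw [hA, hA', ← map_mul, show (⟨a⁻¹, inv_mem haW⟩ : normalizer (W : Set X)) * ⟨a, haW⟩ = 1 from
      Subtype.ext (inv_mul_cancel a), map_one]
  set T : Set (AddMonoid.End (Additive W)) := Set.range fun k : K => Φ ⟨k, hK k.2⟩ with hT
  have hTc : ∀ x ∈ T, ∀ y ∈ T, x * y = y * x := by
    rintro _ ⟨k, rfl⟩ _ ⟨l, rfl⟩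
    simp only [← map_mul]
    have h := (hker (⟨(l : X), hK l.2⟩ * ⟨k, hK k.2⟩ * ⟨(l : X), hK l.2⟩⁻¹ * ⟨k, hK k.2⟩⁻¹)).mpr
      (by simpa using hKab l l.2 k k.2)
    rw [map_mul, map_mul] at h
    calc Φ (⟨k, hK k.2⟩ * ⟨l, hK l.2⟩)
        = (Φ (⟨l, hK l.2⟩ * ⟨k, hK k.2⟩ * ⟨(l : X), hK l.2⟩⁻¹) * Φ ⟨(k : X), hK k.2⟩⁻¹) *
            Φ (⟨k, hK k.2⟩ * ⟨l, hK l.2⟩) := by rw [map_mul, map_mul, h, one_mul]
      _ = _ := by
          rw [← map_mul, ← map_mul]
          congr 1
          group
  have hcl := Subring.closure T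
  set S := Subring.closure T with hS
  have hSc : ∀ x ∈ S, ∀ y ∈ S, x * y = y * x := by
    have hc : T ⊆ (Subring.centralizer T : Set (AddMonoid.End (Additive W))) :=
      fun x hx => Subring.mem_centralizer_iff.mpr fun g hg => hTc g hg x hx
    intro x hx y hy
    have hy' : y ∈ Subring.centralizer T := (Subring.closure_le.mpr hc) hy
    exact (Subring.mem_centralizer_iff.mp
      ((Subring.closure_le.mpr (fun t ht => Subring.mem_centralizer_iff.mpr fun g hg => by
        rw [Set.mem_singleton_iff] at hg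
        subst hg
        exact (Subring.mem_centralizer_iff.mp hy' t ht).symm) :
        Subring.closure T ≤ Subring.centralizer {y}) hx) y rfl).symm
  have hm0 : m ≠ 0 := fun h => by
    rw [h, Nat.coprime_zero_left] at hm
    exact hp.out.ne_one hm
  -- the power map
  have htot : p ^ m.totient ≡ 1 [MOD m] := Nat.ModEq.pow_totient hm.symm
  have he : 0 < m.totient := Nat.totient_pos.mpr (Nat.pos_of_ne_zero hm0)
  set N := p ^ m.totient with hNdef
  have hN : 2 ≤ N := hp.out.two_le.trans (Nat.le_self_pow he.ne' p)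
  have hTpow : ∀ x ∈ T, x ^ N = x := by
    rintro _ ⟨k, rfl⟩
    obtain ⟨d, hd⟩ : ∃ d, N = 1 + m * d := by
      obtain ⟨d, hd⟩ := (Nat.modEq_iff_dvd' (by omega)).mp htot.symm
      exact ⟨d, by omega⟩
    show Φ ⟨k, hK k.2⟩ ^ N = _
    rw [hd, pow_add, pow_one, pow_mul, ← map_pow]
    rw [(hker (⟨(k : X), hK k.2⟩ ^ m)).mpr (by simpa using hKm k k.2), one_pow, mul_one]
  have hSpow : ∀ x ∈ S, x ^ N = x := by
    intro x hx
    induction hx using Subring.closure_induction with
    | mem x hx => exact hTpow x hx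
    | zero => exact zero_pow (by omega)
    | one => exact one_pow _
    | add x y hx hy hx' hy' =>
      rw [hNdef, add_pow_char_pow_of_commute _ _ (hSc x hx y hy)]
      rw [← hNdef, hx', hy']
    | neg x _ hx' =>
      have hz : (0 : AddMonoid.End (Additive W)) ^ N = 0 := zero_pow (by omega)
      refine eq_neg_of_add_eq_zero_left ?_
      rw [← hz, ← neg_add_cancel x, hNdef, add_pow_char_pow_of_commute _ _ ((Commute.refl x).neg_left),
        ← hNdef, hx']
    | mul x y hx hy hx' hy' =>
      rw [(show Commute x y from hSc x hx y hy).mul_pow, hx', hy']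
  have hconj : ∀ x ∈ S, A * x * A' ∈ S := by
    intro x hx
    induction hx using Subring.closure_induction with
    | mem x hx =>
      obtain ⟨k, rfl⟩ := hx
      refine Subring.subset_closure ⟨⟨a * k * a⁻¹, (mem_normalizer_iff.mp haK k).mp k.2⟩, ?_⟩
      simp only [hA, hA', ← map_mul]
      rfl
    | zero => simp
    | one => rw [mul_one, h1]; exact S.one_mem
    | add x y _ _ hx' hy' => rw [mul_add, add_mul]; exact S.add_mem hx' hy'
    | neg x _ hx' =>
      have e : A * -x * A' = -(A * x * A') :=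
        eq_neg_of_add_eq_zero_left (by rw [← add_mul, ← mul_add, neg_add_cancel, mul_zero, zero_mul])
      rw [e]; exact S.neg_mem hx'
    | mul x y _ _ hx' hy' =>
      rw [show A * (x * y) * A' = A * x * A' * (A * y * A') by
        simp only [mul_assoc]; rw [← mul_assoc A' A, h2, one_mul]]
      exact S.mul_mem hx' hy'
  intro k hk
  have : Finite (AddMonoid.End (Additive W)) :=
    Finite.of_injective (fun f => (f : Additive W → Additive W)) DFunLike.coe_injective
  have key := conj_unipotent_eq_self S hSc hN hSpow h1 h2 hn hconj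
    (Subring.subset_closure ⟨⟨k, hk⟩, rfl⟩)
  refine (hker ⟨a * k * a⁻¹ * k⁻¹, mul_mem (mul_mem (mul_mem haW (hK hk)) (inv_mem haW))
    (inv_mem (hK hk))⟩).mp ?_
  rw [show (⟨a * k * a⁻¹ * k⁻¹, _⟩ : normalizer (W : Set X)) =
    (⟨a, haW⟩ * ⟨k, hK hk⟩ * ⟨a⁻¹, inv_mem haW⟩) * ⟨k⁻¹, inv_mem (hK hk)⟩ from rfl, map_mul,
    map_mul, map_mul, key, ← map_mul, show (⟨k, hK hk⟩ : normalizer (W : Set X)) *
      ⟨k⁻¹, inv_mem (hK hk)⟩ = 1 from Subtype.ext (mul_inv_cancel k), map_one]

end CfsgLib.Complement
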