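import Cfsg.Agent.Lib.Complement.Functorial
import Cfsg.Agent.Lib.Complement.UnipotentGroup
import Cfsg.Agent.Lib.Complement.Stability
import Cfsg.Prelude.Def_LocalEven

/-!
# A normal `p`-complement when the functor is normal unless some element acts unipotently of small
degree on a chief factor
-/

set_option autoImplicit false

namespace CfsgLib.Complement

open Subgroup
open scoped commutatorElement

universe u

variable {p : ℕ} [hp : Fact p.Prime] {G : Type u} [Group G] [Finite G]

omit hp [Finite G] in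
theorem iterate_comm_mem_iterCommutator {X : Subgroup G} {g : G} :
    ∀ (i : ℕ) (w : G), w ∈ X →
      (fun v => g * v * g⁻¹ * v⁻¹)^[i] w ∈ Cfsg.iterCommutator X (zpowers g) i := by
  intro i
  induction i with
  | zero => exact fun w hw => hw
  | succ i ih =>
    intro w hw
    rw [Function.iterate_succ_apply']
    set v := (fun v => g * v * g⁻¹ * v⁻¹)^[i] w
    have h := inv_mem (commutator_mem_commutator (ih w hw) (mem_zpowers g))
    rw [commutatorElement_inv, commutatorElement_def] at h
    exact h

omit hp in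
theorem iterCommutator_map {H : Type u} [Group H] (f : G →* H) (A B : Subgroup G) :
    ∀ i, (Cfsg.iterCommutator A B i).map f = Cfsg.iterCommutator (A.map f) (B.map f) i := by
  intro i
  induction i with
  | zero => rfl
  | succ i ih => rw [Cfsg.iterCommutator, Cfsg.iterCommutator, map_commutator, ih]

omit hp [Finite G] in
theorem isChiefFactor_map_equiv {H : Type u} [Group H] (e : G ≃* H) {X Y : Subgroup G}
    (h : Cfsg.IsChiefFactor X Y) : Cfsg.IsChiefFactor (X.map e.toMonoidHom) (Y.map e.toMonoidHom) := by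
  obtain ⟨h1, h2, h3, h4⟩ := h
  refine ⟨(map_lt_map_iff_of_injective (f := e.toMonoidHom) e.injective).mpr h1, h2.map _ e.surjective,
    h3.map _ e.surjective, fun N hN hle hle' => ?_⟩
  have hN' : (N.comap e.toMonoidHom).map e.toMonoidHom = N :=
    map_comap_eq_self_of_surjective (f := e.toMonoidHom) e.surjective N
  rcases h4 (N.comap e.toMonoidHom) (hN.comap _) (map_le_iff_le_comap.mp hle)
      (fun x hx => (mem_map_iff_mem (f := e.toMonoidHom) e.injective).mp (hle' hx)) with h | h
  · exact Or.inl (hN'.symm.trans (by rw [h]))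
  · exact Or.inr (hN'.symm.trans (by rw [h]))

/-- In a minimal failure no element outside `U` acts unipotently of degree less than `p` and
nontrivially on a chief factor below `U`. -/
theorem MinimalFailure.not_unipotent_chiefFactor {ι : Type*} {F : ι → LocalFunctor.{u} p}
    {P : Sylow p G} {U M : Subgroup G} {m : ℕ} (h : MinimalFailure F P U M m) {g : G}
    (hg : g ∈ (P : Subgroup G)) (hgU : g ∉ U) {X Y : Subgroup G} (hXY : Cfsg.IsChiefFactor X Y)
    (hXU : X ≤ U) (hit : Cfsg.iterCommutator X (zpowers g) (p - 1) ≤ Y) :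
    ⁅X, zpowers g⁆ ≤ Y := by
  obtain ⟨hlt, hXn, hYn, hmin⟩ := hXY
  have := hYn
  have hUn := h.normal_U
  have hMn := h.normal_M
  set f := QuotientGroup.mk' Y
  have hf := QuotientGroup.mk'_surjective Y
  set W := X.map f
  have hWn : W.Normal := hXn.map f hf
  have hWp : IsPGroup p W := (h.isPGroup_U.to_le hXU).map f
  have hW1 : W ≠ ⊥ := fun e => hlt.not_ge (by
    rw [Subgroup.map_eq_bot_iff, QuotientGroup.ker_mk'] at e; exact e)
  have hWmin : ∀ K : Subgroup (G ⧸ Y), K.Normal → K ≤ W → K = ⊥ ∨ K = W := by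
    intro K hK hKW
    rcases hmin (K.comap f) (hK.comap f) (fun y hy => by
        rw [mem_comap, show f y = 1 from (QuotientGroup.eq_one_iff y).mpr hy]; exact one_mem _)
        (fun x hx => by
          obtain ⟨z, hz, e⟩ := hKW hx
          have : z⁻¹ * x ∈ X := hlt.le (QuotientGroup.eq.mp e)
          simpa using X.mul_mem hz this) with e | e
    · left
      rw [← map_comap_eq_self_of_surjective hf K, e, Subgroup.map_eq_bot_iff, QuotientGroup.ker_mk']
    · right
      rw [← map_comap_eq_self_of_surjective hf K, e]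
  have hUW : U.map f ≤ centralizer (W : Set (G ⧸ Y)) := by
    have := hUn.map f hf
    exact le_centralizer_of_minimal (h.isPGroup_U.map f) hWp hW1 hWmin
  have hWW : W ≤ centralizer (W : Set (G ⧸ Y)) := le_trans (map_mono hXU) hUW
  have hWexp : ∀ w ∈ W, w ^ p = 1 := by
    let V : Subgroup (G ⧸ Y) :=
      { carrier := {v | v ∈ W ∧ v ^ p = 1}
        one_mem' := ⟨W.one_mem, one_pow p⟩
        inv_mem' := fun {x} hx => ⟨W.inv_mem hx.1, by rw [inv_pow, hx.2, inv_one]⟩
        mul_mem' := fun {x y} hx hy => ⟨W.mul_mem hx.1 hy.1, by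
          rw [(show Commute x y from (mem_centralizer_iff.mp (hWW hx.1) y hy.1).symm).mul_pow,
            hx.2, hy.2, one_mul]⟩ }
    rcases hWmin V ⟨fun x hx c => ⟨hWn.conj_mem x hx.1 c, by rw [conj_pow, hx.2]; group⟩⟩
        (fun v hv => hv.1) with e | e
    · exfalso
      obtain ⟨k, hk⟩ := IsPGroup.iff_card.mp hWp
      have hk0 : k ≠ 0 := fun h0 => hW1 (card_eq_one.mp (by rw [hk, h0, pow_zero]))
      obtain ⟨v, hv⟩ := exists_prime_orderOf_dvd_card' p (hk ▸ dvd_pow_self p hk0 : p ∣ Nat.card W)
      have hmem : (v : G ⧸ Y) ∈ V := ⟨v.2, by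
        rw [← SubmonoidClass.coe_pow, ← hv, pow_orderOf_eq_one, OneMemClass.coe_one]⟩
      rw [e, mem_bot, OneMemClass.coe_eq_one] at hmem
      rw [hmem, orderOf_one] at hv
      exact hp.out.ne_one hv.symm
    · exact fun w hw => (e.ge hw).2
  set D := (centralizer (W : Set (G ⧸ Y))).comap f with hD
  have hDn : D.Normal := Subgroup.Normal.comap inferInstance f
  have hUD : U ≤ D := fun x hx => hUW (mem_map_of_mem f hx)
  have hcomm : ∀ k ∈ M, g * k * g⁻¹ * k⁻¹ ∈ D := by
    intro k hk
    have hWt := (normalizer_eq_top_iff.mpr hWn).ge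
    have h1 := commutator_mem_centralizer_of_unipotent (p := p) (W := W) (K := M.map f)
      ⟨⟨fun a b => Subtype.ext (mem_centralizer_iff.mp (hWW b.2) a a.2)⟩⟩ hWexp
      (le_top.trans hWt)
      (by
        rintro _ ⟨x, hx, rfl⟩ _ ⟨y, hy, rfl⟩
        rw [← map_inv, ← map_inv, ← map_mul, ← map_mul, ← map_mul]
        exact hUW (mem_map_of_mem f (h.commutator_M x hx y hy)))
      h.coprime_m (by
        rintro _ ⟨x, hx, rfl⟩
        rw [← map_pow]
        exact hUW (mem_map_of_mem f (h.pow_m x hx)))
      (a := f g) (hWt (mem_top _))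
      (by rw [normalizer_eq_top_iff.mpr (hMn.map f hf)]; exact mem_top _)
      (by
        rintro _ ⟨w, hw, rfl⟩
        have hcomp : ∀ (i : ℕ) (x : G), (fun v => f g * v * (f g)⁻¹ * v⁻¹)^[i] (f x) =
            f ((fun v => g * v * g⁻¹ * v⁻¹)^[i] x) := by
          intro i
          induction i with
          | zero => exact fun x => rfl
          | succ i ih =>
            intro x
            rw [Function.iterate_succ_apply', Function.iterate_succ_apply', ih, map_mul, map_mul,
              map_mul, map_inv, map_inv]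
        rw [hcomp]
        exact (QuotientGroup.eq_one_iff _).mpr (hit (iterate_comm_mem_iterCommutator _ w hw)))
      (f k) (mem_map_of_mem f hk)
    rw [← map_inv, ← map_inv, ← map_mul, ← map_mul, ← map_mul] at h1
    exact h1
  have hgD : g ∈ D := by
    rcases h.sylow_maximal ((P : Subgroup G) ⊔ D) le_sup_left with hs | hs
    · have hDU : D ≤ U := h.U_max D hDn (P.2.to_le (le_sup_right.trans hs.le))
      exact absurd (h.faithful g hg fun k hk => hDU (hcomm k hk)) hgU
    · -- `P` and `D` centralize an element of the chief factor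
      have hQ : IsPGroup p ((P : Subgroup G).map f ⊔ W : Subgroup (G ⧸ Y)) :=
        (P.2.map f).to_sup_of_normal_right hWp
      have := hQ.isNilpotent
      have hne : W.subgroupOf ((P : Subgroup G).map f ⊔ W) ≠ ⊥ := fun e => hW1 (le_bot_iff.mp
        ((le_inf le_rfl le_sup_right).trans (subgroupOf_eq_bot.mp e).eq_bot.le))
      obtain ⟨⟨z, hzQ⟩, ⟨hzW, hzc⟩, hz1⟩ := SetLike.exists_of_lt (bot_lt_iff_ne_bot.mpr
        (Solvable.normal_inf_center_ne_bot (W.subgroupOf ((P : Subgroup G).map f ⊔ W)) hne))
      have hcent : W ⊓ center (G ⧸ Y) = W := by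
        refine (hWmin _ inferInstance inf_le_left).resolve_left fun e => hz1 ?_
        have hzc' : z ∈ center (G ⧸ Y) := by
          have hle : (⊤ : Subgroup (G ⧸ Y)) ≤ centralizer ({z} : Set (G ⧸ Y)) := by
            rw [← Subgroup.map_top_of_surjective f hf, ← hs, Subgroup.map_sup, sup_le_iff]
            refine ⟨fun y hy => mem_centralizer_singleton_iff.mpr
              (congrArg Subtype.val (mem_center_iff.mp hzc ⟨y, mem_sup_left hy⟩)), ?_⟩
            rintro _ ⟨y, hy, rfl⟩
            exact mem_centralizer_singleton_iff.mpr (mem_centralizer_iff.mp hy z hzW).symm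
          exact mem_center_iff.mpr fun y => mem_centralizer_singleton_iff.mp (hle (mem_top y))
        have hm : z ∈ W ⊓ center (G ⧸ Y) := ⟨hzW, hzc'⟩
        rw [e, mem_bot] at hm
        exact mem_bot.mpr (Subtype.ext hm)
      intro w hw
      exact ((hcent.ge hw).2.comm (f g)).eq
  rw [commutator_le]
  intro x hx y hy
  rw [← QuotientGroup.eq_one_iff]
  show f ⁅x, y⁆ = 1
  rw [map_commutatorElement, commutatorElement_eq_one_iff_commute]
  have hyD : y ∈ D := (zpowers_le.mpr hgD) hy
  exact mem_centralizer_iff.mp hyD _ (mem_map_of_mem f hx)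

/-- The section criterion with a unipotent element on a chief factor. -/
theorem hasNormalPComplement_of_functor_unipotent (W : ∀ (Q : Type u) [Group Q], Subgroup Q)
    (hW : Cfsg.IsCharPFunctor.{u} p W) (S : Sylow p G)
    (hN : Cfsg.HasNormalPComplement p
      (normalizer (Cfsg.inducedFunctor W (S : Subgroup G) : Set G)))
    (hloc : ∀ (K R : Subgroup G) [_hR : (R.subgroupOf K).Normal],
      centralizer (Cfsg.pCore p (↥K ⧸ R.subgroupOf K) : Set (↥K ⧸ R.subgroupOf K)) ≤
        Cfsg.pCore p (↥K ⧸ R.subgroupOf K) →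
      ∀ T : Sylow p (↥K ⧸ R.subgroupOf K),
        ¬ (Cfsg.inducedFunctor W (T : Subgroup (↥K ⧸ R.subgroupOf K))).Normal →
        ∃ g : (↥K ⧸ R.subgroupOf K), g ∈ (T : Subgroup (↥K ⧸ R.subgroupOf K)) ∧
          g ∉ Cfsg.pCore p (↥K ⧸ R.subgroupOf K) ∧ ∃ U V : Subgroup (↥K ⧸ R.subgroupOf K),
            Cfsg.IsChiefFactor U V ∧ U ≤ Cfsg.pCore p (↥K ⧸ R.subgroupOf K) ∧
            Cfsg.iterCommutator U (zpowers g) (p - 1) ≤ V ∧ ¬ ⁅U, zpowers g⁆ ≤ V) :
    Cfsg.HasNormalPComplement p G := by
  let F : Unit → LocalFunctor.{u} p := fun _ => inducedLocalFunctor p W hW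
  refine hasNormalPComplement_of_local_hered F () (fun _ => rfl) (fun H _ => IsSectionOf G H)
    (fun H h => h.subgroup H) (fun N _ h => h.quotient N) (fun H _ _ P U M m hPr h => ?_) G S
    isSectionOf_self (fun _ => ?_)
  swap
  · show Cfsg.HasNormalPComplement p (normalizer (functorCore p W (S : Subgroup G) : Set G))
    rw [functorCore_eq S.2]
    exact hN
  have h1 : normalizer (functorCore p W (P : Subgroup H) : Set H) = P := h.loc_eq ()
  rw [functorCore_eq P.2] at h1
  have hco := h.isCoatom ()
  obtain ⟨K, R, hR, ⟨e⟩⟩ := hPr.exists_equiv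
  let T : Sylow p (↥K ⧸ R.subgroupOf K) := P.mapSurjective (f := e.symm.toMonoidHom) e.symm.surjective
  have hTn : ¬ (Cfsg.inducedFunctor W (T : Subgroup (↥K ⧸ R.subgroupOf K))).Normal := by
    intro hn
    refine hco.1 (h1.symm.trans (normalizer_eq_top_iff.mpr ?_))
    have h3 : Cfsg.inducedFunctor W (P : Subgroup H) =
        (Cfsg.inducedFunctor W (T : Subgroup (↥K ⧸ R.subgroupOf K))).map e.toMonoidHom := by
      show _ = (Cfsg.inducedFunctor W ((P : Subgroup H).map e.symm.toMonoidHom)).map e.toMonoidHom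
      rw [← inducedFunctor_map hW e.symm (P : Subgroup H) P.2, map_map]
      ext x
      simp
    rw [h3]
    exact hn.map _ e.surjective
  obtain ⟨g, hgT, hgU, X, Y, hXY, hXU, hit, hnot⟩ :=
    hloc K R (pCore_centralizer_equiv e (h.pCore_eq.symm ▸ h.centralizer_le)) T hTn
  have hpc : (Cfsg.pCore p (↥K ⧸ R.subgroupOf K)).map e.toMonoidHom = U :=
    (Solvable.map_pCore_equiv e p).trans h.pCore_eq
  refine hnot ?_
  have hgP : e g ∈ (P : Subgroup H) := by
    obtain ⟨y, hy, rfl⟩ := hgT
    show e (e.symm y) ∈ (P : Subgroup H)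
    rw [e.apply_symm_apply]
    exact hy
  have hz : (zpowers g).map e.toMonoidHom = zpowers (e g) := MonoidHom.map_zpowers _ g
  have key := h.not_unipotent_chiefFactor hgP
    (fun hm => hgU ((mem_map_iff_mem (f := e.toMonoidHom) e.injective).mp (hpc.ge hm)))
    (isChiefFactor_map_equiv e hXY) ((map_mono hXU).trans hpc.le)
    (by rw [← hz, ← iterCommutator_map]; exact map_mono hit)
  rw [← hz, ← map_commutator] at key
  exact fun x hx => (mem_map_iff_mem (f := e.toMonoidHom) e.injective).mp (key (mem_map_of_mem _ hx))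

end CfsgLib.Complement
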