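import Mathlib

/-!
# Fixed points of an involution inverting an element of odd prime order
-/

set_option autoImplicit false

namespace CfsgLib.Complement

open Subgroup

universe u

variable {G : Type u} [Group G] [Finite G]

omit [Finite G] in
theorem mul_conj_inv_mem_of_normal {U : Subgroup G} (hU : U.Normal) {u : G} (hu : u ∈ U) (k : G) :
    u * k * u⁻¹ * k⁻¹ ∈ U := by
  rw [mul_assoc, mul_assoc u]
  exact U.mul_mem hu (by rw [← mul_assoc]; exact hU.conj_mem _ (U.inv_mem hu) k)

/-- In an elementary abelian 2-group `D` normalized by `k` of odd prime order other than 3 and by an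
element inverting it, the fixed points of the latter have index at least 4 unless `k` fixes `D`. -/
theorem four_mul_card_fixed_le {D : Subgroup G} (hDc : ∀ x ∈ D, ∀ y ∈ D, x * y = y * x)
    (hD2 : ∀ x ∈ D, x * x = 1) {a k : G}
    (hkD : k ∈ normalizer (D : Set G)) {q : ℕ} (hq : q.Prime) (hq3 : q ≠ 3) (hq2 : q ≠ 2)
    (hkq : k ^ q ∈ centralizer (D : Set G)) (hk : k ∉ centralizer (D : Set G))
    (hinv : a * k * a⁻¹ * k ∈ centralizer (D : Set G)) :
    4 * Nat.card ↥(D ⊓ centralizer ({a} : Set G)) ≤ Nat.card D := by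
  classical
  set E := D ⊓ centralizer ({a} : Set G) with hE
  have hED : E ≤ D := inf_le_left
  by_contra hlt
  push Not at hlt
  have hidx : E.relIndex D ≤ 3 := by
    have h2 : Nat.card E * E.relIndex D = Nat.card D := by
      rw [Subgroup.relIndex, ← Nat.card_congr (subgroupOfEquivOfLe hED).toEquiv]
      exact card_mul_index _
    by_contra h3
    have h4 := Nat.mul_le_mul_left (Nat.card E) (show 4 ≤ E.relIndex D by omega)
    rw [h2, mul_comm] at h4
    omega
  set E₂ := E.map (MulAut.conj k).toMonoidHom with hE₂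
  set F := D ⊓ centralizer ({k} : Set G) with hF
  have hE₂D : E₂ ≤ D := by
    rintro _ ⟨e, he, rfl⟩
    exact (mem_normalizer_iff.mp hkD e).mp (hED he)
  have hfixE : E ⊓ E₂ ≤ F := by
    rintro d ⟨hd, e, he, hed⟩
    have hd2 : k * e * k⁻¹ = d := hed
    refine ⟨hED hd, mem_centralizer_singleton_iff.mpr ?_⟩
    have h1 : d * a = a * d := (mem_centralizer_singleton_iff.mp hd.2)
    have h2 : e * a = a * e := (mem_centralizer_singleton_iff.mp he.2)
    have h3 : (a * k * a⁻¹ * k) * d = d * (a * k * a⁻¹ * k) :=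
      (mem_centralizer_iff.mp hinv d (hED hd)).symm
    -- `a k a⁻¹ k` and `a` fix `d`, and `k a k⁻¹` fixes `d`
    have h4 : Commute (k * a * k⁻¹) d := by
      rw [← hd2]; exact (Commute.map (show Commute a e from h2.symm) (MulAut.conj k).toMonoidHom)
    have h5 : Commute (k ^ 2) d := by
      have : k ^ 2 = (k * a * k⁻¹) * (a⁻¹ * (a * k * a⁻¹ * k)⁻¹ * a)⁻¹ * a⁻¹ * 1 := by
        rw [pow_two]; group
      have ha : Commute a d := h1.symm
      have hc : Commute (a * k * a⁻¹ * k) d := h3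
      rw [this, mul_one]
      exact (h4.mul_left ((ha.inv_left.mul_left hc.inv_left).mul_left ha).inv_left).mul_left ha.inv_left
    obtain ⟨j, hj⟩ := hq.odd_of_ne_two hq2
    have h6 : Commute (k ^ q) d := (mem_centralizer_iff.mp hkq d (hED hd)).symm
    have h7 : k = k ^ q * ((k ^ 2) ^ j)⁻¹ := by rw [← pow_mul, hj, pow_succ']; group
    rw [h7]
    exact ((h6.mul_left (h5.pow_left j).inv_left)).symm
  have hFidx : F.relIndex D ≤ 9 := by
    have h1 : E₂.relIndex D ≤ 3 := by
      have hmap : D.map (MulAut.conj k).toMonoidHom = D := mem_normalizer_iff_map_conj_eq.mp hkD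
      calc E₂.relIndex D = E₂.relIndex (D.map (MulAut.conj k).toMonoidHom) := by rw [hmap]
        _ = E.relIndex D := relIndex_map_map_of_injective _ _ (MulAut.conj k).injective
        _ ≤ 3 := hidx
    have h2 := relIndex_inf_le (H := E) (K := E₂) (L := D)
    have h3 : F.relIndex D ≤ (E ⊓ E₂).relIndex D :=
      Nat.le_of_dvd (Nat.pos_of_ne_zero index_ne_zero_of_finite) (relIndex_dvd_of_le_left D hfixE)
    calc F.relIndex D ≤ _ := h3
      _ ≤ E.relIndex D * E₂.relIndex D := h2
      _ ≤ 3 * 3 := Nat.mul_le_mul hidx h1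
  -- powers of two
  have hpow : ∀ X : Subgroup G, X ≤ D → ∃ j, Nat.card X = 2 ^ j := by
    intro X hX
    exact IsPGroup.iff_card.mp fun x => ⟨1, Subtype.ext (by
      show (x : G) ^ (2 ^ 1) = 1
      rw [pow_one, pow_two]; exact hD2 _ (hX x.2))⟩
  have hidx2 : E.relIndex D ≤ 2 := by
    obtain ⟨i, hi⟩ := hpow D le_rfl
    have h1 : E.relIndex D ∣ 2 ^ i := hi ▸ relIndex_dvd_card E D
    obtain ⟨j, -, hj⟩ := (Nat.dvd_prime_pow Nat.prime_two).mp h1
    rcases lt_or_ge j 2 with h | h
    · exact hj ▸ Nat.pow_le_pow_right (show 1 ≤ 2 by norm_num) (Nat.lt_succ_iff.mp h)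
    · have := Nat.pow_le_pow_right (show 1 ≤ 2 by norm_num) h
      omega
  have hF4 : F.relIndex D ≤ 4 := by
    have h1 : E₂.relIndex D ≤ 2 := by
      have hmap : D.map (MulAut.conj k).toMonoidHom = D := mem_normalizer_iff_map_conj_eq.mp hkD
      calc E₂.relIndex D = E₂.relIndex (D.map (MulAut.conj k).toMonoidHom) := by rw [hmap]
        _ = E.relIndex D := relIndex_map_map_of_injective _ _ (MulAut.conj k).injective
        _ ≤ 2 := hidx2
    calc F.relIndex D ≤ (E ⊓ E₂).relIndex D :=
          Nat.le_of_dvd (Nat.pos_of_ne_zero index_ne_zero_of_finite) (relIndex_dvd_of_le_left D hfixE)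
      _ ≤ E.relIndex D * E₂.relIndex D := relIndex_inf_le (H := E) (K := E₂) (L := D)
      _ ≤ 2 * 2 := Nat.mul_le_mul hidx2 h1
  obtain ⟨x, hxD, hxk⟩ : ∃ x ∈ D, k * x * k⁻¹ ≠ x := by
    by_contra hcon
    push Not at hcon
    exact hk (mem_centralizer_iff.mpr fun x hx => (mul_inv_eq_iff_eq_mul.mp (hcon x hx)).symm)
  have hxi : ∀ i : ℕ, k ^ i * x * (k ^ i)⁻¹ ∈ D := fun i =>
    (mem_normalizer_iff.mp (pow_mem hkD i) x).mp hxD
  let φ : Option (Fin q) → D ⧸ F.subgroupOf D := fun o => match o with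
    | none => QuotientGroup.mk 1
    | some i => QuotientGroup.mk ⟨k ^ (i : ℕ) * x * (k ^ (i : ℕ))⁻¹, hxi i⟩
  have hkF : ∀ f ∈ F, ∀ i : ℕ, k ^ i * f * (k ^ i)⁻¹ = f := by
    intro f hf i
    have : Commute (k ^ i) f := (show Commute k f from (mem_centralizer_singleton_iff.mp hf.2).symm).pow_left i
    rw [this.eq, mul_inv_cancel_right]
  have key : ∀ i : ℕ, i < q → 0 < i → x⁻¹ * (k ^ i * x * (k ^ i)⁻¹) ∉ F := by
    intro i hiq hi0 hf
    set f := x⁻¹ * (k ^ i * x * (k ^ i)⁻¹) with hfdef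
    have hit : ∀ n : ℕ, (k ^ i) ^ n * x * ((k ^ i) ^ n)⁻¹ = x * f ^ n := by
      intro n
      induction n with
      | zero => simp
      | succ n ih =>
        calc (k ^ i) ^ (n + 1) * x * ((k ^ i) ^ (n + 1))⁻¹
            = k ^ i * ((k ^ i) ^ n * x * ((k ^ i) ^ n)⁻¹) * (k ^ i)⁻¹ := by rw [pow_succ']; group
          _ = k ^ i * (x * f ^ n) * (k ^ i)⁻¹ := by rw [ih]
          _ = (k ^ i * x * (k ^ i)⁻¹) * (k ^ i * f ^ n * (k ^ i)⁻¹) := by group
          _ = x * f * f ^ n := by rw [hkF _ (F.pow_mem hf n) i, hfdef, mul_inv_cancel_left]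
          _ = x * f ^ (n + 1) := by rw [pow_succ']; group
    have h1 := hit q
    have h2 : (k ^ i) ^ q * x * ((k ^ i) ^ q)⁻¹ = x := by
      have : (k ^ i) ^ q ∈ centralizer (D : Set G) := by
        rw [← pow_mul, mul_comm, pow_mul]; exact pow_mem hkq i
      rw [← mem_centralizer_iff.mp this x hxD, mul_inv_cancel_right]
    rw [h2] at h1
    have hfq : f ^ q = 1 := mul_eq_left.mp h1.symm
    have hf1 : f = 1 := orderOf_eq_one_iff.mp (Nat.eq_one_of_dvd_coprimes
      ((Nat.coprime_primes hq Nat.prime_two).mpr hq2) (orderOf_dvd_of_pow_eq_one hfq)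
      (orderOf_dvd_of_pow_eq_one (by rw [pow_two]; exact hD2 f hf.1)))
    rw [hfdef, inv_mul_eq_one] at hf1
    -- `k` is a power of `k ^ i` modulo `k ^ q`
    obtain ⟨n, hn⟩ := Nat.exists_mul_mod_eq_one_of_coprime
      (Nat.Coprime.symm ((Nat.Prime.coprime_iff_not_dvd hq).mpr fun hd =>
        absurd (Nat.le_of_dvd hi0 hd) (not_le.mpr hiq))) hq.one_lt
    have hc1 : Commute (k ^ i) x := mul_inv_eq_iff_eq_mul.mp hf1.symm
    have hc2 : Commute (k ^ q) x := (mem_centralizer_iff.mp hkq x hxD).symm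
    have hck : Commute k x := by
      have e : k = (k ^ i) ^ n * ((k ^ q) ^ ((i * n) / q))⁻¹ := by
        rw [← pow_mul, ← pow_mul, eq_mul_inv_iff_mul_eq, ← pow_succ']
        congr 1
        have := Nat.mod_add_div (i * n) q
        omega
      rw [e]
      exact (hc1.pow_left n).mul_left (hc2.pow_left _).inv_left
    exact hxk (by rw [hck.eq, mul_inv_cancel_right])
  have hinj : Function.Injective φ := by
    have hone : ∀ i : ℕ, k ^ i * x * (k ^ i)⁻¹ ∉ F := fun i hf => hxk (by
      have h := hkF _ hf 0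
      have hxF : x ∈ F := by
        have e : k ^ i * x * (k ^ i)⁻¹ = x := by
          have h2 := hkF _ hf i
          exact mul_left_cancel (mul_right_cancel h2)
        rwa [e] at hf
      simpa using hkF x hxF 1)
    have hij : ∀ i j : ℕ, i < j → j < q →
        (k ^ i * x * (k ^ i)⁻¹)⁻¹ * (k ^ j * x * (k ^ j)⁻¹) ∉ F := by
      intro i j hij hjq hf
      obtain ⟨l, rfl⟩ : ∃ l, j = i + l := ⟨j - i, by omega⟩
      refine key l (by omega) (by omega) ?_
      have e : (k ^ i * x * (k ^ i)⁻¹)⁻¹ * (k ^ (i + l) * x * (k ^ (i + l))⁻¹) =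
          k ^ i * (x⁻¹ * (k ^ l * x * (k ^ l)⁻¹)) * (k ^ i)⁻¹ := by rw [pow_add]; group
      have h2 := hkF _ hf i
      rw [e] at hf h2
      rw [mul_left_cancel (mul_right_cancel h2)] at hf
      exact hf
    rintro (_ | i) (_ | j) h
    · rfl
    · have h' := QuotientGroup.eq.mp h
      rw [mem_subgroupOf, inv_one, one_mul] at h'
      exact absurd h' (hone j)
    · have h' := QuotientGroup.eq.mp h
      rw [mem_subgroupOf, mul_one] at h'
      exact absurd (F.inv_mem h') (by simpa using hone i)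
    · have h' := QuotientGroup.eq.mp h
      rw [mem_subgroupOf] at h'
      rcases lt_trichotomy (i : ℕ) j with hl | hl | hl
      · exact absurd h' (hij i j hl j.2)
      · rw [Fin.ext hl]
      · exact absurd (by simpa using F.inv_mem h') (hij j i hl i.2)
  have hle := Nat.card_le_card_of_injective φ hinj
  rw [show Nat.card (D ⧸ F.subgroupOf D) = F.relIndex D from (index_eq_card _).symm,
    Nat.card_eq_fintype_card, Fintype.card_option, Fintype.card_fin] at hle
  have := hq.two_le
  omega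

end CfsgLib.Complement
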