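import Cfsg.Agent.Lib.Complement.Thompson
import Mathlib.GroupTheory.FixedPointFree
import Mathlib.GroupTheory.Nilpotent

/-!
# A group with a fixed-point-free automorphism of prime order is nilpotent
-/

set_option autoImplicit false

namespace CfsgLib.Complement

open Subgroup

universe u

variable {G : Type u} [Group G] [Finite G]

/-- `φ ^ i` fixes only the identity for `0 < i < r`. -/
theorem fpf_pow {r : ℕ} (hr : r.Prime) {φ : MulAut G} (hφr : φ ^ r = 1)
    (hφ : ∀ x, φ x = x → x = 1) {i : ℕ} (hi : i % r ≠ 0) {x : G} (hx : (φ ^ i) x = x) : x = 1 := by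
  refine hφ x ?_
  obtain ⟨j, hj⟩ : ∃ j, i * j % r = 1 := by
    obtain ⟨j, hj⟩ := Nat.exists_mul_mod_eq_one_of_coprime
      ((hr.coprime_iff_not_dvd.mpr (fun h => hi (Nat.mod_eq_zero_of_dvd h))).symm) hr.one_lt
    exact ⟨j, hj.2⟩
  have h2 : (φ ^ (i * j)) x = x := by
    rw [pow_mul]
    have : ∀ n : ℕ, ((φ ^ i) ^ n) x = x := by
      intro n
      induction n with
      | zero => rfl
      | succ n ih => rw [pow_succ, MulAut.mul_apply, hx, ih]
    exact this j
  rw [← Nat.div_add_mod (i * j) r, hj, pow_add, pow_mul, hφr, one_pow, one_mul, pow_one] at h2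
  exact h2

/-- In a fixed-point-free situation an invariant `p'`-subgroup centralizes an invariant abelian
normal `p`-subgroup. -/
theorem le_centralizer_of_fpf {r : ℕ} (hr : r.Prime) {φ : MulAut G} (hφr : φ ^ r = 1)
    (hφ : ∀ x, φ x = x → x = 1) {V Q : Subgroup G} [V.Normal] (hVc : IsMulCommutative V)
    (hVi : ∀ v ∈ V, φ v ∈ V) (hQi : ∀ q ∈ Q, φ q ∈ Q)
    (hcop : (Nat.card Q).Coprime (Nat.card V)) : Q ≤ centralizer (V : Set G) := by
  classical
  have := Fintype.ofFinite Q
  let _ : CommGroup V := { (inferInstance : Group V) with mul_comm := hVc.is_comm.comm }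
  have hφi : ∀ (i : ℕ), ∀ q ∈ Q, (φ ^ i) q ∈ Q := by
    intro i
    induction i with
    | zero => exact fun q hq => hq
    | succ i ih => exact fun q hq => by rw [pow_succ, MulAut.mul_apply]; exact ih _ (hQi q hq)
  have hφv : ∀ (i : ℕ), ∀ v ∈ V, (φ ^ i) v ∈ V := by
    intro i
    induction i with
    | zero => exact fun q hq => hq
    | succ i ih => exact fun q hq => by rw [pow_succ, MulAut.mul_apply]; exact ih _ (hVi q hq)
  let c : Q → V →* V := fun q => ((MulAut.conjNormal (H := V)) (q : G)).toMonoidHom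
  have hc : ∀ (q : Q) (v : V), ((c q v : V) : G) = q * v * (q : G)⁻¹ := fun q v => rfl
  let F : ℕ → V → V := fun i v => ⟨(φ ^ i) v, hφv i v v.2⟩
  -- the norm vanishes
  have hnorm : ∀ v : V, ∏ i ∈ Finset.range r, F i v = 1 := by
    intro v
    set N := ∏ i ∈ Finset.range r, F i v with hN
    let φV : V →* V := (φ.toMonoidHom.comp V.subtype).codRestrict V fun x => hVi x x.2
    have h1 : φV N = N := by
      have hF : ∀ i, φV (F i v) = F (i + 1) v := fun i => Subtype.ext (by
        show φ ((φ ^ i) v) = (φ ^ (i + 1)) v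
        rw [pow_succ', MulAut.mul_apply])
      rw [hN, map_prod, Finset.prod_congr rfl fun i _ => hF i]
      have e : F r v = F 0 v := Subtype.ext (by
        show (φ ^ r) v = (φ ^ 0) v
        rw [hφr, pow_zero])
      have h2 := Finset.prod_range_succ' (fun i => F i v) r
      rw [Finset.prod_range_succ, e] at h2
      exact (mul_right_cancel h2).symm
    exact Subtype.ext (hφ _ (congrArg Subtype.val h1))
  -- for each `i`, the elements `x⁻¹ φ^i(x)` run over `Q`
  have hkey : ∀ v : V, v ^ Nat.card Q = ∏ u : Q, c u v := by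
    intro v
    have h1 : ∀ x : Q, (1 : V) = ∏ i ∈ Finset.range r,
        c ⟨(x : G)⁻¹ * (φ ^ i) x, mul_mem (inv_mem x.2) (hφi i x x.2)⟩ (F i v) := by
      intro x
      have h := congrArg (c x⁻¹) (hnorm (c x v))
      rw [map_one, map_prod] at h
      rw [← h]
      refine Finset.prod_congr rfl fun i _ => Subtype.ext ?_
      rw [hc, hc]
      show ((x⁻¹ : Q) : G) * (φ ^ i) ((c x v : V) : G) * ((x⁻¹ : Q) : G)⁻¹ = _
      rw [hc, map_mul, map_mul, map_inv, Subgroup.coe_inv]
      show _ = _ * (φ ^ i) (v : G) * _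
      group
    have h2 := Finset.prod_congr (rfl : (Finset.univ : Finset Q) = Finset.univ) fun x _ => h1 x
    rw [Finset.prod_const_one, Finset.prod_comm] at h2
    obtain ⟨n, rfl⟩ : ∃ n, r = n + 1 := ⟨r - 1, by have := hr.one_lt; omega⟩
    rw [Finset.prod_range_succ'] at h2
    have h3 : ∏ x : Q, c ⟨(x : G)⁻¹ * (φ ^ 0) x, mul_mem (inv_mem x.2) (hφi 0 x x.2)⟩ (F 0 v) =
        v ^ Nat.card Q := by
      have e : ∀ x : Q, c ⟨(x : G)⁻¹ * (φ ^ 0) x, mul_mem (inv_mem x.2) (hφi 0 x x.2)⟩ (F 0 v) = v :=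
        fun x => Subtype.ext (by
          rw [hc]
          show (x : G)⁻¹ * (x : G) * (v : G) * ((x : G)⁻¹ * (x : G))⁻¹ = v
          group)
      rw [Finset.prod_congr rfl fun x _ => e x, Finset.prod_const, Finset.card_univ, Nat.card_eq_fintype_card]
    have h4 : ∀ i ∈ Finset.range n,
        ∏ x : Q, c ⟨(x : G)⁻¹ * (φ ^ (i + 1)) x, mul_mem (inv_mem x.2) (hφi (i + 1) x x.2)⟩
          (F (i + 1) v) = ∏ u : Q, c u (F (i + 1) v) := by
      intro i hi
      refine Fintype.prod_bijective _ ((Finite.injective_iff_bijective).mp fun x y hxy => ?_) _ _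
        (fun x => rfl)
      have e : (x : G)⁻¹ * (φ ^ (i + 1)) x = (y : G)⁻¹ * (φ ^ (i + 1)) y := congrArg Subtype.val hxy
      have hfix : (φ ^ (i + 1)) ((y : G) * (x : G)⁻¹) = (y : G) * (x : G)⁻¹ := by
        rw [map_mul, map_inv, mul_inv_eq_iff_eq_mul]
        calc (φ ^ (i + 1)) (y : G) = (y : G) * ((y : G)⁻¹ * (φ ^ (i + 1)) y) := by group
          _ = _ := by rw [← e]; group
      have := fpf_pow hr hφr hφ (i := i + 1) (by
        rw [Finset.mem_range] at hi
        rw [Nat.mod_eq_of_lt (by omega)]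
        omega) hfix
      exact Subtype.ext (mul_inv_eq_one.mp this).symm
    rw [Finset.prod_congr rfl h4, h3, Finset.prod_comm] at h2
    have h5 : ∀ u : Q, ∏ i ∈ Finset.range n, c u (F (i + 1) v) = (c u v)⁻¹ := by
      intro u
      rw [← map_prod, ← map_inv]
      congr 1
      have := hnorm v
      rw [Finset.prod_range_succ'] at this
      rw [eq_inv_iff_mul_eq_one]
      convert this using 2
      exact Subtype.ext rfl
    rw [Finset.prod_congr rfl fun u _ => h5 u, Finset.prod_inv_distrib] at h2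
    exact (inv_mul_eq_one.mp h2.symm).symm
  intro q hq
  rw [mem_centralizer_iff]
  intro v hv
  set a := v ^ Nat.card Q
  have hfixa : q * (a : G) * q⁻¹ = a := by
    have h1 : c ⟨q, hq⟩ (⟨v, hv⟩ ^ Nat.card Q) = (⟨v, hv⟩ : V) ^ Nat.card Q := by
      rw [hkey, map_prod]
      refine Fintype.prod_bijective (fun u : Q => (⟨q, hq⟩ : Q) * u) (Group.mulLeft_bijective _) _ _
        fun u => Subtype.ext ?_
      rw [hc, hc, hc, Subgroup.coe_mul]
      group
    exact congrArg Subtype.val h1
  obtain ⟨j, hj⟩ := exists_pow_eq_self_of_coprime (n := Nat.card Q) (x := v)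
      (hcop.coprime_dvd_right (V.orderOf_dvd_natCard hv))
  rw [← hj]
  have hca : Commute q a := mul_inv_eq_iff_eq_mul.mp hfixa
  exact ((hca.pow_right j).eq).symm

end CfsgLib.Complement
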