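import Cfsg.Agent.Lib.Complement.Functors

/-!
# Normal `p`-complements from conditions on sections for a `p`-group functor
-/

set_option autoImplicit false

namespace CfsgLib.Complement

open Subgroup

universe u

variable {p : ℕ} [hp : Fact p.Prime] {G : Type u} [Group G] [Finite G]

theorem MinimalFailure.pCore_eq {ι : Type*} {F : ι → LocalFunctor.{u} p} {P : Sylow p G}
    {U M : Subgroup G} {m : ℕ} (h : MinimalFailure F P U M m) : Cfsg.pCore p G = U :=
  le_antisymm (h.U_max _ (Solvable.pCore_normal p G) (Solvable.pCore_isPGroup p))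
    (Solvable.le_pCore h.normal_U h.isPGroup_U)

theorem MinimalFailure.quotient_complement {ι : Type*} {F : ι → LocalFunctor.{u} p} {P : Sylow p G}
    {U M : Subgroup G} {m : ℕ} (h : MinimalFailure F P U M m) [U.Normal] :
    Cfsg.HasNormalPComplement p (G ⧸ U) := by
  have := h.normal_M
  have hMb : (M.map (QuotientGroup.mk' U)).Normal :=
    Subgroup.Normal.map inferInstance _ (QuotientGroup.mk'_surjective U)
  refine Transfer.hasNormalPComplement_iff_exists.2 ⟨_, hMb, ?_, ?_⟩
  · refine Nat.coprime_of_dvd fun q hq hqM hqp => ?_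
    have hqp' : q = p := (Nat.prime_dvd_prime_iff_eq hq hp.out).mp hqp
    subst hqp'
    obtain ⟨x, hx⟩ := exists_prime_orderOf_dvd_card' q hqM
    rw [← Subgroup.orderOf_coe] at hx
    obtain ⟨y, hy, hye⟩ := x.2
    rw [← hye] at hx
    have hdvd : q ∣ m := hx ▸ orderOf_dvd_of_pow_eq_one (by
      rw [← map_pow]
      exact (QuotientGroup.eq_one_iff _).mpr (h.pow_m y hy))
    exact hq.ne_one (Nat.eq_one_of_dvd_coprimes h.coprime_m hdvd dvd_rfl)
  · have htop : ((P : Subgroup G).map (QuotientGroup.mk' U)).map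
        (QuotientGroup.mk' (M.map (QuotientGroup.mk' U))) = ⊤ := by
      have e : (M.map (QuotientGroup.mk' U)).map (QuotientGroup.mk' (M.map (QuotientGroup.mk' U))) = ⊥ :=
        (Subgroup.map_eq_bot_iff _).mpr (QuotientGroup.ker_mk' _).ge
      rw [← Subgroup.map_top_of_surjective _ (QuotientGroup.mk'_surjective (M.map (QuotientGroup.mk' U))),
        ← Subgroup.map_top_of_surjective _ (QuotientGroup.mk'_surjective U), ← h.sup_eq, Subgroup.map_sup,
        Subgroup.map_sup, e, sup_bot_eq]
    have hp' := (P.2.map (QuotientGroup.mk' U)).map (QuotientGroup.mk' (M.map (QuotientGroup.mk' U)))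
    rw [htop] at hp'
    exact hp'.of_equiv topEquiv

theorem MinimalFailure.isCoatom {ι : Type*} {F : ι → LocalFunctor.{u} p} {P : Sylow p G}
    {U M : Subgroup G} {m : ℕ} (h : MinimalFailure F P U M m) (j : ι) :
    IsCoatom (P : Subgroup G) := by
  refine ⟨fun e => h.not_complement ?_, fun Y hY => (h.sylow_maximal Y hY.le).resolve_left hY.ne'⟩
  have h1 := h.local_complement j
  rw [h.loc_eq j, e] at h1
  exact Transfer.hasNormalPComplement_of_injective (topEquiv (G := G)).symm.toMonoidHom
    topEquiv.symm.injective h1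

/-- `W(T)` normal in the small sections gives a normal `p`-complement from one in `N(W(S))`. -/
theorem hasNormalPComplement_of_functor (W : ∀ (Q : Type u) [Group Q], Subgroup Q)
    (hW : Cfsg.IsCharPFunctor.{u} p W) (S : Sylow p G)
    (hN : Cfsg.HasNormalPComplement p
      (normalizer (Cfsg.inducedFunctor W (S : Subgroup G) : Set G)))
    (hsec : ∀ (X : Type u) [Group X] [Finite X], IsSectionOf G X →
      centralizer (Cfsg.pCore p X : Set X) ≤ Cfsg.pCore p X →
      (∀ [(Cfsg.pCore p X).Normal], Cfsg.HasNormalPComplement p (X ⧸ Cfsg.pCore p X)) →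
      ∀ T : Sylow p X, IsCoatom (T : Subgroup X) →
        (Cfsg.inducedFunctor W (T : Subgroup X)).Normal) :
    Cfsg.HasNormalPComplement p G := by
  let F : Unit → LocalFunctor.{u} p := fun _ => inducedLocalFunctor p W hW
  have hloc : ∀ {H : Type u} [Group H] [Finite H] (T : Sylow p H),
      (F ()).loc (T : Subgroup H) = normalizer (Cfsg.inducedFunctor W (T : Subgroup H) : Set H) := by
    intro H _ _ T
    show normalizer (functorCore p W (T : Subgroup H) : Set H) = _
    rw [functorCore_eq T.2]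
  refine hasNormalPComplement_of_local_hered F () (fun _ => rfl) (fun H _ => IsSectionOf G H)
    (fun H h => h.subgroup H) (fun N _ h => h.quotient N) (fun H _ _ P U M m hPr h => ?_) G S
    isSectionOf_self (fun _ => (hloc S).symm ▸ hN)
  have hco := h.isCoatom ()
  have hUn := h.normal_U
  have hn := hsec H hPr (h.pCore_eq.symm ▸ h.centralizer_le) (fun {hc} => by
    obtain ⟨e⟩ : Nonempty (H ⧸ U ≃* H ⧸ Cfsg.pCore p H) :=
      ⟨QuotientGroup.quotientMulEquivOfEq h.pCore_eq.symm⟩
    exact Transfer.hasNormalPComplement_of_surjective e.toMonoidHom e.surjective h.quotient_complement)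
    P hco
  have h1 := h.loc_eq ()
  rw [hloc, normalizer_eq_top_iff.mpr hn] at h1
  exact hco.1 h1.symm

omit hp [Finite G] in
theorem inducedFunctor_map {W : ∀ (Q : Type u) [Group Q], Subgroup Q}
    (hW : Cfsg.IsCharPFunctor.{u} p W) {X Y : Type u} [Group X] [Group Y] (e : X ≃* Y)
    (T : Subgroup X) [Finite T] (hT : IsPGroup p T) :
    (Cfsg.inducedFunctor W T).map e.toMonoidHom = Cfsg.inducedFunctor W (T.map e.toMonoidHom) := by
  unfold Cfsg.inducedFunctor
  rw [← hW.2 T (T.map e.toMonoidHom) hT (e.subgroupMap T), map_map, map_map]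
  rfl

omit hp in
theorem pCore_centralizer_equiv {X Y : Type u} [Group X] [Group Y] (e : X ≃* Y)
    (h : centralizer (Cfsg.pCore p Y : Set Y) ≤ Cfsg.pCore p Y) :
    centralizer (Cfsg.pCore p X : Set X) ≤ Cfsg.pCore p X := by
  intro x hx
  have h2 : e x ∈ Cfsg.pCore p Y := h (mem_centralizer_iff.mpr fun y hy => by
    rw [← Solvable.map_pCore_equiv e p] at hy
    obtain ⟨z, hz, rfl⟩ := hy
    show e z * e x = e x * e z
    rw [← map_mul, ← map_mul, mem_centralizer_iff.mp hx z hz])
  rw [← Solvable.map_pCore_equiv e p] at h2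
  obtain ⟨z, hz, hze⟩ := h2
  exact e.injective hze ▸ hz

/-- The section condition in the form `K ⧸ R`. -/
theorem hasNormalPComplement_of_functor_sections (W : ∀ (Q : Type u) [Group Q], Subgroup Q)
    (hW : Cfsg.IsCharPFunctor.{u} p W) (S : Sylow p G)
    (hN : Cfsg.HasNormalPComplement p
      (normalizer (Cfsg.inducedFunctor W (S : Subgroup G) : Set G)))
    (hsec : ∀ (K R : Subgroup G) [_hR : (R.subgroupOf K).Normal],
      centralizer (Cfsg.pCore p (↥K ⧸ R.subgroupOf K) : Set (↥K ⧸ R.subgroupOf K)) ≤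
        Cfsg.pCore p (↥K ⧸ R.subgroupOf K) →
      (∀ [(Cfsg.pCore p (↥K ⧸ R.subgroupOf K)).Normal], Cfsg.HasNormalPComplement p
        ((↥K ⧸ R.subgroupOf K) ⧸ Cfsg.pCore p (↥K ⧸ R.subgroupOf K))) →
      ∀ T : Sylow p (↥K ⧸ R.subgroupOf K), IsCoatom (T : Subgroup (↥K ⧸ R.subgroupOf K)) →
        (Cfsg.inducedFunctor W (T : Subgroup (↥K ⧸ R.subgroupOf K))).Normal) :
    Cfsg.HasNormalPComplement p G := by
  refine hasNormalPComplement_of_functor W hW S hN fun X _ _ hX hc hq T hT => ?_
  obtain ⟨K, R, hR, ⟨e⟩⟩ := hX.exists_equiv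
  let T' : Sylow p (↥K ⧸ R.subgroupOf K) := T.mapSurjective (f := e.symm.toMonoidHom) e.symm.surjective
  have hT' : IsCoatom (T' : Subgroup (↥K ⧸ R.subgroupOf K)) :=
    (OrderIso.isCoatom_iff e.symm.mapSubgroup (T : Subgroup X)).mpr hT
  have h := hsec K R (pCore_centralizer_equiv e hc) (fun {hn} => by
    have hnX := Solvable.pCore_normal p X
    exact Transfer.hasNormalPComplement_of_injective
      (QuotientGroup.congr _ _ e (Solvable.map_pCore_equiv e p)).toMonoidHom
      (MulEquiv.injective _) hq) T' hT'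
  have h2 := inducedFunctor_map hW e.symm (T : Subgroup X) T.2
  have h3 : (Cfsg.inducedFunctor W (T : Subgroup X)) =
      (Cfsg.inducedFunctor W (T' : Subgroup (↥K ⧸ R.subgroupOf K))).map e.toMonoidHom := by
    show _ = (Cfsg.inducedFunctor W ((T : Subgroup X).map e.symm.toMonoidHom)).map e.toMonoidHom
    rw [← h2, map_map]
    ext x
    simp
  rw [h3]
  exact h.map _ e.surjective

end CfsgLib.Complement
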