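import Cfsg.Agent.Lib.Complement.ChiefFactor
import Cfsg.Agent.Lib.PLocal.KInfinityFour

/-!
# The lower K-infinity normal `p`-complement criterion
-/

set_option autoImplicit false

namespace CfsgLib.Complement

open Subgroup

universe u

variable {p : ℕ} [hp : Fact p.Prime] {G : Type u} [Group G] [Finite G]

/-- A normalizer with trivial `p'`-action on a self-centralizing `p`-subgroup has a normal
`p`-complement. -/
theorem hasNormalPComplement_normalizer_of_fixed {S : Sylow p G} {K : Subgroup G}
    (hKS : K ≤ (S : Subgroup G)) (hself : (S : Subgroup G) ⊓ centralizer (K : Set G) ≤ K)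
    (hnorm : (S : Subgroup G) ≤ normalizer (K : Set G))
    (h : ∀ g ∈ normalizer (K : Set G), (orderOf g).Coprime p → g ∈ centralizer (K : Set G)) :
    Cfsg.HasNormalPComplement p (normalizer (K : Set G)) := by
  set N := normalizer (K : Set G)
  set C := (centralizer (K : Set G)).subgroupOf N with hC
  have hCn : C.Normal := by
    refine ⟨fun c hc n => mem_subgroupOf.mpr ?_⟩
    rw [hC, mem_subgroupOf, mem_centralizer_iff] at hc
    rw [mem_centralizer_iff]
    intro y hy
    have := hc _ ((mem_normalizer_iff''.mp n.2 y).mp hy)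
    simp only [Subgroup.coe_mul, Subgroup.coe_inv]
    calc y * ((n : G) * c * (n : G)⁻¹) = (n : G) * ((n : G)⁻¹ * y * n * c) * (n : G)⁻¹ := by group
      _ = (n : G) * (c * ((n : G)⁻¹ * y * n)) * (n : G)⁻¹ := by rw [this]
      _ = _ := by group
  let SN : Sylow p N := S.subtype hnorm
  obtain ⟨T, hT⟩ := Transfer.exists_sylow_eq_subgroupOf SN C
  have hTc : normalizer ((T : Subgroup C) : Set C) ≤ centralizer ((T : Subgroup C) : Set C) := by
    intro c _
    rw [mem_centralizer_iff]
    intro t ht
    have htS : ((t : N) : G) ∈ (S : Subgroup G) := by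
      rw [hT, SetLike.mem_coe, mem_subgroupOf] at ht
      exact ht
    have htK := hself ⟨htS, t.2⟩
    exact Subtype.ext (Subtype.ext (mem_centralizer_iff.mp c.2 _ htK))
  have hnpc := Transfer.hasNormalPComplement_of_normalizer_le_centralizer T hTc
  refine Transfer.hasNormalPComplement_iff_exists.2
    ⟨(Cfsg.pResidual p C).map C.subtype, ?_, ?_, ?_⟩
  · have := Transfer.pResidual_characteristic (G := C) (p := p)
    infer_instance
  · rw [card_map_of_injective C.subtype_injective]
    exact Transfer.hasNormalPComplement_iff_coprime_pResidual.1 hnpc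
  · have := Transfer.pResidual_characteristic (G := C) (p := p)
    refine Transfer.isPGroup_quotient_of_coprime_mem fun g hg => ?_
    have hgC : g ∈ C := h g g.2 (by rwa [Subgroup.orderOf_coe])
    exact ⟨⟨g, hgC⟩, Transfer.mem_pResidual_of_coprime (by rwa [← Subgroup.orderOf_coe]), rfl⟩

theorem hasNormalPComplement_of_kInfLower (hp2 : p ≠ 2) (S : Sylow p G)
    (h : Cfsg.HasNormalPComplement p
      (normalizer (Cfsg.inducedFunctor Cfsg.kInfLower (S : Subgroup G) : Set G))) :
    Cfsg.HasNormalPComplement p G := by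
  refine hasNormalPComplement_of_functor_unipotent Cfsg.kInfLower PLocal.kInfLower_isCharPFunctor
    S h fun K R hR hc T hT => ?_
  set X := ↥K ⧸ R.subgroupOf K
  set Q := Cfsg.pCore p X with hQ
  have hQn : Q.Normal := Solvable.pCore_normal p X
  have hQp : IsPGroup p Q := Solvable.pCore_isPGroup p
  obtain ⟨H, hHc, hH1, hH2, hH3⟩ := Transfer.exists_critical hQp
  set A := H.map Q.subtype with hA
  have hAQ : A ≤ Q := map_subtype_le H
  have hAn : A.Normal := by have := hHc; infer_instance
  have htop : (⊤ : Subgroup Q).map Q.subtype = Q := by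
    rw [← MonoidHom.range_eq_map, range_subtype]
  have hA3 : ⁅Q, A⁆ ≤ PLocal.centreIn A := by
    rw [PLocal.map_centreIn Q.subtype_injective H, commutator_comm, hA]
    conv_lhs => arg 2; rw [← htop]
    rw [← Subgroup.map_commutator]
    exact map_mono hH2
  have hA2 : ⁅A, A⁆ ≤ centralizer (A : Set X) :=
    ((commutator_mono hAQ le_rfl).trans hA3).trans inf_le_right
  have hA5 : ∀ φ : MulAut Q, (orderOf φ).Coprime p → (∀ a : Q, (a : X) ∈ A → φ a = a) → φ = 1 :=
    fun φ hφ hfix => Cfsg.Agent.S0121.result hQp H hHc hH1 hH2 hH3 φ hφ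
      fun x hx => hfix x (mem_map_of_mem Q.subtype hx)
  obtain ⟨g, hgT, hgQ, -, -, hch⟩ := PLocal.exists_cubic_element T hAQ hA2 hA3 hA5 (Or.inl hT)
  obtain ⟨U, V, hUV, hUA, hq, hne⟩ := hch hc
  refine ⟨g, hgT, hgQ, U, V, hUV, hUA.trans hAQ, ?_, hne⟩
  have hVn := hUV.2.2.1
  have hmono : ∀ i, Cfsg.iterCommutator U (zpowers g) (i + 2) ≤ V := by
    intro i
    induction i with
    | zero => exact hq
    | succ i ih => exact (commutator_mono ih le_rfl).trans (commutator_le_left V _)
  have hp3 : 3 ≤ p := by have := hp.out.two_le; omega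
  obtain ⟨i, hi⟩ : ∃ i, p - 1 = i + 2 := ⟨p - 3, by omega⟩
  rw [hi]
  exact hmono i

end CfsgLib.Complement

namespace CfsgLib.Complement

open Subgroup

universe u

theorem inducedFunctor_kInfLower_facts {p : ℕ} [Fact p.Prime] {G : Type u} [Group G] [Finite G]
    (S : Sylow p G) :
    Cfsg.inducedFunctor Cfsg.kInfLower (S : Subgroup G) ≤ (S : Subgroup G) ∧
      (S : Subgroup G) ⊓ centralizer (Cfsg.inducedFunctor Cfsg.kInfLower (S : Subgroup G) : Set G) ≤
        Cfsg.inducedFunctor Cfsg.kInfLower (S : Subgroup G) ∧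
      (S : Subgroup G) ≤ normalizer (Cfsg.inducedFunctor Cfsg.kInfLower (S : Subgroup G) : Set G) := by
  refine ⟨map_subtype_le _, fun x hx => ?_, fun x hx => ?_⟩
  · refine mem_map_of_mem (S : Subgroup G).subtype (x := (⟨x, hx.1⟩ : (S : Subgroup G)))
      (PLocal.centralizer_kInfLower_le S.2 (mem_centralizer_iff.2 fun y hy => ?_))
    exact Subtype.ext (mem_centralizer_iff.1 hx.2 _ (mem_map_of_mem (S : Subgroup G).subtype hy))
  · have h := (inducedLocalFunctor p Cfsg.kInfLower PLocal.kInfLower_isCharPFunctor).le_loc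
      (S : Subgroup G) hx
    change x ∈ normalizer (functorCore p Cfsg.kInfLower (S : Subgroup G) : Set G) at h
    rwa [functorCore_eq S.2] at h

end CfsgLib.Complement
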