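import Mathlib

/-!
# The linear representation on an elementary abelian normal section `H ⧸ Z`
-/

set_option autoImplicit false

namespace CfsgLib.Complement

open Subgroup
open scoped commutatorElement

universe u

variable {G : Type u} [Group G] (H Z : Subgroup G) [hH : H.Normal] [hZ : Z.Normal]

/-- The section `H ⧸ Z`, written additively. -/
abbrev Layer : Type u := Additive (H ⧸ Z.subgroupOf H)

/-- The class of `h`. -/
def layerMk (h : H) : Layer H Z := Additive.ofMul (QuotientGroup.mk h)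

theorem layerMk_mul (h k : H) : layerMk H Z (h * k) = layerMk H Z h + layerMk H Z k := rfl

theorem layerMk_inv (h : H) : layerMk H Z h⁻¹ = -layerMk H Z h := rfl

theorem layerMk_surjective : Function.Surjective (layerMk H Z) := fun v => by
  obtain ⟨h, hh⟩ := QuotientGroup.mk_surjective (Additive.toMul v)
  exact ⟨h, by rw [layerMk, hh]; rfl⟩

theorem layerMk_eq_iff {h k : H} : layerMk H Z h = layerMk H Z k ↔ (h : G)⁻¹ * k ∈ Z := by
  refine ⟨fun e => ?_, fun e => congrArg Additive.ofMul (QuotientGroup.eq.mpr (mem_subgroupOf.mpr e))⟩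
  have h1 := QuotientGroup.eq.mp (Additive.ofMul.injective e)
  rw [mem_subgroupOf] at h1
  exact h1

theorem layerMk_eq_zero {h : H} : layerMk H Z h = 0 ↔ (h : G) ∈ Z := by
  rw [show (0 : Layer H Z) = layerMk H Z 1 from rfl, layerMk_eq_iff]
  simp

/-- Conjugation on `H ⧸ Z`. -/
def layerRep : G →* AddMonoid.End (Layer H Z) where
  toFun g := MonoidHom.toAdditive (QuotientGroup.map (Z.subgroupOf H) (Z.subgroupOf H)
    (MulAut.conjNormal g).toMonoidHom (by
      intro x hx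
      rw [mem_comap, mem_subgroupOf] at *
      show ((MulAut.conjNormal g x : H) : G) ∈ Z
      rw [MulAut.conjNormal_apply]
      exact hZ.conj_mem _ hx g))
  map_one' := AddMonoidHom.ext fun v => by
    obtain ⟨h, rfl⟩ := layerMk_surjective H Z v
    show layerMk H Z (MulAut.conjNormal 1 h) = layerMk H Z h
    rw [map_one]; rfl
  map_mul' g g' := AddMonoidHom.ext fun v => by
    obtain ⟨h, rfl⟩ := layerMk_surjective H Z v
    show layerMk H Z (MulAut.conjNormal (g * g') h) =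
      layerMk H Z (MulAut.conjNormal g (MulAut.conjNormal g' h))
    rw [map_mul]; rfl

theorem layerRep_mk (g : G) (h : H) :
    layerRep H Z g (layerMk H Z h) = layerMk H Z ⟨g * h * g⁻¹, hH.conj_mem h h.2 g⟩ := by
  show layerMk H Z (MulAut.conjNormal g h) = _
  congr 1

theorem layer_isMulCommutative (hcomm : ∀ x ∈ H, ∀ y ∈ H, ⁅x, y⁆ ∈ Z) :
    IsMulCommutative (H ⧸ Z.subgroupOf H) := by
  rw [isMulCommutative_iff]
  intro a b
  obtain ⟨a, rfl⟩ := QuotientGroup.mk_surjective a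
  obtain ⟨b, rfl⟩ := QuotientGroup.mk_surjective b
  rw [← QuotientGroup.mk_mul, ← QuotientGroup.mk_mul, QuotientGroup.eq, mem_subgroupOf]
  have := hcomm _ (H.inv_mem b.2) _ (H.inv_mem a.2)
  rw [commutatorElement_def] at this
  simpa [mul_assoc] using this

section Adjoint

variable {H Z}

/-- An endomorphism of `H ⧸ Z` is self-adjoint for the commutator pairing. -/
def CommAdjoint (r : AddMonoid.End (Layer H Z)) : Prop :=
  ∀ h k h' k' : H, layerMk H Z h' = r (layerMk H Z h) → layerMk H Z k' = r (layerMk H Z k) →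
    ⁅(h' : G), (k : G)⁆ = ⁅(h : G), (k' : G)⁆

theorem commutator_mul_left_of_central (hc : ∀ x ∈ H, ∀ y ∈ H, ⁅x, y⁆ ∈ Z)
    (hZH : ∀ z ∈ Z, ∀ x ∈ H, x * z = z * x) {a b k : G} (ha : a ∈ H) (hb : b ∈ H) (hk : k ∈ H) :
    ⁅a * b, k⁆ = ⁅a, k⁆ * ⁅b, k⁆ := by
  have e : ⁅a * b, k⁆ = a * ⁅b, k⁆ * a⁻¹ * ⁅a, k⁆ := by simp only [commutatorElement_def]; group
  rw [e, hZH _ (hc b hb k hk) a ha, mul_inv_cancel_right]
  exact (hZH _ (hc b hb k hk) _ (H.mul_mem (H.mul_mem (H.mul_mem ha hk) (H.inv_mem ha))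
    (H.inv_mem hk))).symm

theorem commutator_mul_right_of_central (hc : ∀ x ∈ H, ∀ y ∈ H, ⁅x, y⁆ ∈ Z)
    (hZH : ∀ z ∈ Z, ∀ x ∈ H, x * z = z * x) {a b k : G} (ha : a ∈ H) (hb : b ∈ H) (hk : k ∈ H) :
    ⁅k, a * b⁆ = ⁅k, a⁆ * ⁅k, b⁆ := by
  have e : ⁅k, a * b⁆ = ⁅k, a⁆ * (a * ⁅k, b⁆ * a⁻¹) := by simp only [commutatorElement_def]; group
  rw [e, hZH _ (hc k hk b hb) a ha, mul_inv_cancel_right]

omit hH hZ in
theorem commutator_central_eq_one (hZH : ∀ z ∈ Z, ∀ x ∈ H, x * z = z * x) {z k : G} (hz : z ∈ Z)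
    (hk : k ∈ H) : ⁅z, k⁆ = 1 ∧ ⁅k, z⁆ = 1 :=
  ⟨commutatorElement_eq_one_iff_mul_comm.mpr (hZH z hz k hk).symm,
    commutatorElement_eq_one_iff_mul_comm.mpr (hZH z hz k hk)⟩

/-- The pairing depends only on the classes. -/
theorem commutator_congr (hc : ∀ x ∈ H, ∀ y ∈ H, ⁅x, y⁆ ∈ Z)
    (hZH : ∀ z ∈ Z, ∀ x ∈ H, x * z = z * x) {h h' k k' : H}
    (eh : layerMk H Z h = layerMk H Z h') (ek : layerMk H Z k = layerMk H Z k') :
    ⁅(h : G), (k : G)⁆ = ⁅(h' : G), (k' : G)⁆ := by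
  have hzh := (layerMk_eq_iff H Z).mp eh
  have hzk := (layerMk_eq_iff H Z).mp ek
  rw [show (h' : G) = h * ((h : G)⁻¹ * h') by group, show (k' : G) = k * ((k : G)⁻¹ * k') by group,
    commutator_mul_left_of_central hc hZH h.2 (H.mul_mem (H.inv_mem h.2) h'.2)
      (H.mul_mem k.2 (H.mul_mem (H.inv_mem k.2) k'.2)),
    (commutator_central_eq_one hZH hzh (H.mul_mem k.2 (H.mul_mem (H.inv_mem k.2) k'.2))).1, mul_one,
    commutator_mul_right_of_central hc hZH k.2 (H.mul_mem (H.inv_mem k.2) k'.2) h.2,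
    (commutator_central_eq_one hZH hzk h.2).2, mul_one]

variable (hc : ∀ x ∈ H, ∀ y ∈ H, ⁅x, y⁆ ∈ Z) (hZH : ∀ z ∈ Z, ∀ x ∈ H, x * z = z * x)

include hc hZH

theorem CommAdjoint.one : CommAdjoint (1 : AddMonoid.End (Layer H Z)) :=
  fun _ _ _ _ eh ek => commutator_congr hc hZH eh ek.symm

theorem CommAdjoint.mul {r t : AddMonoid.End (Layer H Z)} (hr : CommAdjoint r) (ht : CommAdjoint t)
    (hrt : r * t = t * r) : CommAdjoint (r * t) := by
  intro h k h' k' eh ek
  obtain ⟨h1, e1⟩ := layerMk_surjective H Z (t (layerMk H Z h))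
  obtain ⟨k1, e2⟩ := layerMk_surjective H Z (r (layerMk H Z k))
  rw [hr h1 k h' k1 (by rw [e1]; exact eh) e2]
  refine ht h k1 h1 k' e1 ?_
  rw [e2, ek, hrt]
  rfl

open scoped IsMulCommutative in
variable [hQ : IsMulCommutative (H ⧸ Z.subgroupOf H)] in
theorem CommAdjoint.zero : CommAdjoint (0 : AddMonoid.End (Layer H Z)) := by
  intro h k h' k' eh ek
  have e1 : (h' : G) ∈ Z := (layerMk_eq_zero H Z).mp eh
  have e2 : (k' : G) ∈ Z := (layerMk_eq_zero H Z).mp ek
  rw [(commutator_central_eq_one hZH e1 k.2).1, (commutator_central_eq_one hZH e2 h.2).2]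

/-- In an odd `p`-group the images of `x` under a commutative family of self-adjoint maps commute. -/
theorem commute_of_commAdjoint {p : ℕ} [Fact p.Prime] (hp2 : p ≠ 2) (hHp : IsPGroup p H)
    {t : AddMonoid.End (Layer H Z)} (ht : CommAdjoint t) {x k : H}
    (hk : layerMk H Z k = t (layerMk H Z x)) : (x : G) * k = k * x := by
  have h := ht x x k k hk hk
  set z := ⁅(x : G), (k : G)⁆ with hz
  have h2 : z ^ 2 = 1 := by
    rw [pow_two, mul_eq_one_iff_eq_inv, hz, commutatorElement_inv]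
    exact h.symm
  obtain ⟨n, hn⟩ := IsPGroup.iff_orderOf.mp hHp ⟨z, by
    rw [hz, commutatorElement_def]
    exact H.mul_mem (H.mul_mem (H.mul_mem x.2 k.2) (H.inv_mem x.2)) (H.inv_mem k.2)⟩
  rw [Subgroup.orderOf_mk] at hn
  exact commutatorElement_eq_one_iff_mul_comm.mp (orderOf_eq_one_iff.mp (Nat.eq_one_of_dvd_coprimes
    ((Nat.coprime_two_left.mpr ((Fact.out : p.Prime).odd_of_ne_two hp2)).symm.pow_left n)
    hn.dvd (orderOf_dvd_of_pow_eq_one h2)))

end Adjoint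

end CfsgLib.Complement
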