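import Cfsg.Agent.Lib.Complement.Functors
import Cfsg.Agent.Lib.Complement.QuadAbelian

/-!
# Thompson's normal `p`-complement theorem
-/

set_option autoImplicit false

namespace CfsgLib.Complement

open Subgroup

universe u

variable {p : ℕ} [hp : Fact p.Prime] {G : Type u} [Group G] [Finite G]

theorem hasNormalPComplement_of_top
    (h : Cfsg.HasNormalPComplement p (⊤ : Subgroup G)) : Cfsg.HasNormalPComplement p G :=
  Transfer.hasNormalPComplement_of_injective (topEquiv (G := G)).symm.toMonoidHom
    topEquiv.symm.injective h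

theorem omegaOne_normal (H : Subgroup G) [hH : H.Normal] : (Cfsg.omegaOne p H).Normal := by
  rw [← normalizer_eq_top_iff, eq_top_iff']
  intro g
  rw [mem_normalizer_iff_map_conj_eq, PLocal.omegaOne_map_injective (MulAut.conj g).injective,
    (mem_normalizer_iff_map_conj_eq).mp (by rw [normalizer_eq_top_iff.mpr hH]; exact mem_top g)]

omit [Finite G] in
theorem not_minimalFailure_thompson [Finite G] (hp2 : p ≠ 2) (P : Sylow p G) (U M : Subgroup G) (m : ℕ)
    (h : MinimalFailure (fun j : Bool => bif j then thompsonFunctor.{u} p else centerFunctor.{u} p)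
      P U M m) : False := by
  classical
  have hUn := h.normal_U
  have hMn := h.normal_M
  have hJloc : normalizer (Cfsg.thompsonSubgroupOf p (P : Subgroup G) : Set G) = P := h.loc_eq true
  have hZloc : centralizer (((P : Subgroup G) ⊓ centralizer ((P : Subgroup G) : Set G) :
      Subgroup G) : Set G) = P := h.loc_eq false
  have hPtop : (P : Subgroup G) ≠ ⊤ := fun e => h.not_complement
    (hasNormalPComplement_of_top (e ▸ hJloc ▸ h.local_complement true))
  set ZU := U ⊓ centralizer (U : Set G) with hZU
  have hZUn : ZU.Normal := inferInstance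
  have hZUc : ZU ≤ centralizer (ZU : Set G) :=
    inf_le_right.trans (centralizer_le inf_le_left)
  have hZP : (P : Subgroup G) ⊓ centralizer ((P : Subgroup G) : Set G) ≤ ZU :=
    have h1 := (inf_le_right : (P : Subgroup G) ⊓ centralizer ((P : Subgroup G) : Set G) ≤ _).trans
      (centralizer_le h.U_le)
    le_inf (h1.trans h.centralizer_le) h1
  set W := Cfsg.omegaOne p ZU with hW
  have hWn : W.Normal := omegaOne_normal ZU
  have hWel := PLocal.omegaOne_elemAb (p := p) hZUc
  have hWU : W ≤ U := (PLocal.omegaOne_le p ZU).trans inf_le_left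
  have hUW : U ≤ centralizer (W : Set G) :=
    le_centralizer_iff.mp ((PLocal.omegaOne_le p ZU).trans inf_le_right)
  -- `C(W) ≤ U`
  have hCW : centralizer (W : Set G) ≤ U := by
    refine h.U_max _ inferInstance fun g => ?_
    obtain ⟨g, hg⟩ := g
    refine ⟨(orderOf g).factorization p, Subtype.ext ?_⟩
    show g ^ _ = (1 : G)
    set x := g ^ p ^ (orderOf g).factorization p with hxdef
    have hx : (orderOf x).Coprime p := by
      rw [hxdef, orderOf_pow' g (pow_ne_zero _ hp.out.ne_zero),
        Nat.gcd_eq_right (Nat.ordProj_dvd (orderOf g) p)]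
      exact (Nat.coprime_ordCompl hp.out (orderOf_pos g).ne').symm
    have hxC : x ∈ centralizer (ZU : Set G) :=
      OddLocal.le_centralizer_of_fixes_order_p hp2 (h.isPGroup_U.to_le inf_le_left)
        (A := zpowers x) (by rw [normalizer_eq_top_iff.mpr hZUn]; exact le_top)
        (by rwa [Nat.card_zpowers])
        (fun y hy hyp c hc => by
          have hcW : c ∈ centralizer (W : Set G) := (zpowers_le.mpr (pow_mem hg _)) hc
          rw [← mem_centralizer_iff.mp hcW y (subset_closure ⟨hy, hyp⟩), mul_inv_cancel_right])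
        (mem_zpowers x)
    have hxP : x ∈ (P : Subgroup G) := hZloc ▸ centralizer_le hZP hxC
    obtain ⟨k, hk⟩ := IsPGroup.iff_orderOf.mp P.2 ⟨x, hxP⟩
    rw [Subgroup.orderOf_mk] at hk
    exact orderOf_eq_one_iff.mp (Nat.eq_one_of_dvd_coprimes (hx.pow_right k) dvd_rfl hk.dvd)
  -- a largest elementary abelian subgroup outside `U`
  have hex : ∃ A ∈ PLocal.maxElemIn p (P : Subgroup G), ¬ A ≤ U := by
    by_contra hall
    have hJU : Cfsg.thompsonSubgroupOf p (P : Subgroup G) ≤ U := by
      rw [PLocal.thompsonOf_eq]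
      exact sSup_le fun A hA => by_contra fun hn => hall ⟨A, hA, hn⟩
    refine hPtop ?_
    rw [← hJloc, ← PLocal.thompsonOf_eq_of_le hJU h.U_le, ← top_le_iff]
    exact le_trans (normalizer_eq_top_iff.mpr hUn).ge (PLocal.normalizer_le_normalizer_thompsonOf U)
  obtain ⟨A, ⟨hAm, hAU⟩, hAmax⟩ := Set.exists_max_image
    {A | A ∈ PLocal.maxElemIn p (P : Subgroup G) ∧ ¬ A ≤ U}
    (fun A => Nat.card ↥(A ⊓ W)) (Set.toFinite _) (by obtain ⟨A, h1, h2⟩ := hex; exact ⟨A, h1, h2⟩)
  obtain ⟨a, haA, haU⟩ := SetLike.not_le_iff_exists.mp hAU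
  have hWP : W ≤ (P : Subgroup G) := hWU.trans h.U_le
  by_cases hWN : W ≤ normalizer (A : Set G)
  · refine haU (h.faithful a (hAm.1 haA) fun k hk => hCW ?_)
    exact commutator_mem_centralizer_of_quadratic hp2 hWel.1 hWel.2
      (by rw [normalizer_eq_top_iff.mpr hWn]; exact le_top)
      (fun x hx y hy => hUW (h.commutator_M x hx y hy)) h.coprime_m
      (fun x hx => hUW (h.pow_m x hx))
      (by rw [normalizer_eq_top_iff.mpr hWn]; exact mem_top a)
      (by rw [normalizer_eq_top_iff.mpr hMn]; exact mem_top a)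
      (fun w hw => OddLocal.quad_of_normalizes hAm.2.1.1 haA (hWN hw)) k hk
  · have hcomm : ∀ x ∈ W, ∀ y ∈ W, x * y * x⁻¹ * y⁻¹ = 1 := fun x hx y hy => by
      have := congrArg Subtype.val (hWel.1.is_comm.comm (⟨x, hx⟩ : W) ⟨y, hy⟩)
      rw [show x * y = y * x from this]
      group
    obtain ⟨A', hA', hA'N, hlt⟩ := OddLocal.elementary_replacement (hp.out.odd_of_ne_two hp2) P.2
      hAm hWP (by rw [normalizer_eq_top_iff.mpr hWn]; exact le_top) (fun x hx => hWel.2 x hx)
      (fun x hx y hy z _ => by rw [hcomm x hx y hy]; exact Commute.one_right z)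
      (fun x hx y hy b _ => by rw [hcomm x hx y hy]; exact Commute.one_right b) hWN
    have hA'U : A' ≤ U := by
      by_contra hn
      exact absurd (hAmax A' ⟨hA', hn⟩) (not_le.mpr hlt)
    exact hWN fun w hw => hA'N (PLocal.mem_maxElemIn_of_centralizes hA' (hWP hw) (hWel.2 w hw)
      (mem_centralizer_iff.mpr fun b hb => (mem_centralizer_iff.mp (hUW (hA'U hb)) w hw).symm))

/-- **Thompson's normal `p`-complement theorem**: for odd `p`, normal `p`-complements in `N(J(P))`
and `C(Z(P))` give one in `G`. -/
theorem hasNormalPComplement_of_thompson (hp2 : p ≠ 2) (P : Sylow p G)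
    (hJ : Cfsg.HasNormalPComplement p
      (normalizer (Cfsg.thompsonSubgroupOf p (P : Subgroup G) : Set G)))
    (hZ : Cfsg.HasNormalPComplement p (centralizer (((P : Subgroup G) ⊓
      centralizer ((P : Subgroup G) : Set G) : Subgroup G) : Set G))) :
    Cfsg.HasNormalPComplement p G :=
  hasNormalPComplement_of_local (fun j : Bool => bif j then thompsonFunctor.{u} p else centerFunctor.{u} p)
    true (fun _ => rfl) (fun _ _ _ P U M m h => not_minimalFailure_thompson hp2 P U M m h) G P
    (fun j => match j with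
      | true => hJ
      | false => hZ)

end CfsgLib.Complement
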