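import Cfsg.Agent.Lib.Complement.Functorial
import Cfsg.Agent.Lib.Complement.Stability
import Cfsg.Agent.Lib.Complement.Thompson
import Cfsg.Prelude.Def_LocalEven

/-!
# `p`-stability of `p`-groups extended by abelian `p'`-groups extended by `p`-groups
-/

set_option autoImplicit false

namespace CfsgLib.Complement

open Subgroup
open scoped commutatorElement

universe u

/-- `H` has normal subgroups `U ≤ K` with `U` a `p`-group, `K ⧸ U` abelian of exponent prime to `p`
and `H ⧸ K` a `p`-group. -/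
def IsLayered (p : ℕ) (H : Type u) [Group H] : Prop :=
  ∃ (K U : Subgroup H) (m : ℕ), K.Normal ∧ U.Normal ∧ IsPGroup p U ∧ m.Coprime p ∧
    (∀ x ∈ K, ∀ y ∈ K, x * y * x⁻¹ * y⁻¹ ∈ U) ∧ (∀ x ∈ K, x ^ m ∈ U) ∧
    ∀ x : H, ∃ n : ℕ, x ^ p ^ n ∈ K

variable {p : ℕ} [hp : Fact p.Prime]

omit hp in
theorem IsLayered.subgroup {H : Type u} [Group H] (h : IsLayered p H) (L : Subgroup H) :
    IsLayered p L := by
  obtain ⟨K, U, m, hK, hU, hUp, hm, hc, hpow, hq⟩ := h
  refine ⟨K.subgroupOf L, U.subgroupOf L, m, hK.subgroupOf L, hU.subgroupOf L, hUp.comap_subtype, hm,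
    fun x hx y hy => ?_, fun x hx => ?_, fun x => ?_⟩
  · rw [mem_subgroupOf] at hx hy ⊢
    simpa using hc _ hx _ hy
  · rw [mem_subgroupOf] at hx ⊢
    simpa using hpow _ hx
  · obtain ⟨n, hn⟩ := hq x
    exact ⟨n, by rw [mem_subgroupOf]; simpa using hn⟩

omit hp in
theorem IsLayered.of_surjective {H H' : Type u} [Group H] [Group H'] (f : H →* H')
    (hf : Function.Surjective f) (h : IsLayered p H) : IsLayered p H' := by
  obtain ⟨K, U, m, hK, hU, hUp, hm, hc, hpow, hq⟩ := h
  refine ⟨K.map f, U.map f, m, hK.map f hf, hU.map f hf, hUp.map f, hm, ?_, ?_, fun y => ?_⟩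
  · rintro _ ⟨x, hx, rfl⟩ _ ⟨y, hy, rfl⟩
    rw [← map_inv, ← map_inv, ← map_mul, ← map_mul, ← map_mul]
    exact mem_map_of_mem f (hc x hx y hy)
  · rintro _ ⟨x, hx, rfl⟩
    rw [← map_pow]
    exact mem_map_of_mem f (hpow x hx)
  · obtain ⟨x, rfl⟩ := hf y
    obtain ⟨n, hn⟩ := hq x
    exact ⟨n, by rw [← map_pow]; exact mem_map_of_mem f hn⟩

/-- A quadratic element on a normal `p`-subgroup of a layered group lies in `O_p` modulo its
centralizer. -/
theorem IsLayered.quadratic_mem_pCore {N : Type u} [Group N] [Finite N] (hp2 : p ≠ 2)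
    (hN : IsLayered p N) (B : Subgroup N) [B.Normal] (hB : IsPGroup p B) {g : N}
    (hquad : ∀ x ∈ B, g * (g * x * g⁻¹ * x⁻¹) * g⁻¹ = g * x * g⁻¹ * x⁻¹) :
    QuotientGroup.mk' (centralizer (B : Set N)) g ∈
      Cfsg.pCore p (N ⧸ centralizer (B : Set N)) := by
  obtain ⟨K, U, m, hKn, hUn, hUp, hm, hc, hpow, hq⟩ := hN
  obtain ⟨D, hDn, hDc, hD⟩ :=
    exists_normal_of_quadratic_layer hp2 N K U hUp hm hc hpow B hB hquad
  set C := centralizer (B : Set N) with hC
  have hDO := OddLocal.map_le_pCore_of_p'_le C D hD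
  have hOn := Solvable.pCore_normal p (N ⧸ C)
  set O := Cfsg.pCore p (N ⧸ C) with hO
  have hOp : IsPGroup p O := Solvable.pCore_isPGroup p
  let f : N →* (N ⧸ C) ⧸ O := (QuotientGroup.mk' O).comp (QuotientGroup.mk' C)
  have hf : Function.Surjective f :=
    (QuotientGroup.mk'_surjective O).comp (QuotientGroup.mk'_surjective C)
  have hcore : ∀ V : Subgroup ((N ⧸ C) ⧸ O), V.Normal → IsPGroup p V → V = ⊥ := fun V hV hVp =>
    le_bot_iff.mp ((Solvable.le_pCore hV hVp).trans (Solvable.pCore_quotient_eq_bot p).le)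
  have hUf : U.map f = ⊥ := hcore _ (hUn.map f hf) (hUp.map f)
  set Kb := K.map f with hKb
  have hKbn : Kb.Normal := hKn.map f hf
  have hgK : f g ∈ centralizer (Kb : Set ((N ⧸ C) ⧸ O)) := by
    rw [mem_centralizer_iff]
    rintro _ ⟨k, hk, rfl⟩
    have h1 : f (g * k * g⁻¹ * k⁻¹) = 1 :=
      (QuotientGroup.eq_one_iff _).mpr (hDO (mem_map_of_mem _ (hDc k hk)))
    rw [map_mul, map_mul, map_mul, map_inv, map_inv, mul_inv_eq_one, mul_inv_eq_iff_eq_mul] at h1
    exact h1.symm
  -- `g` is a `p`-element modulo `C`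
  obtain ⟨e, he⟩ := IsPGroup.iff_card.mp hB
  have hgp : g ^ p ^ e ∈ C := by
    rw [hC, mem_centralizer_iff]
    intro x hx
    set z := g * x * g⁻¹ * x⁻¹ with hz
    have hzB : z ∈ B := B.mul_mem (‹B.Normal›.conj_mem x hx g) (B.inv_mem hx)
    have hcz : Commute g z := mul_inv_eq_iff_eq_mul.mp (hquad x hx)
    have hi : ∀ i : ℕ, g ^ i * x * (g ^ i)⁻¹ = z ^ i * x := by
      intro i
      induction i with
      | zero => simp
      | succ i ih =>
        calc g ^ (i + 1) * x * (g ^ (i + 1))⁻¹ = g * (g ^ i * x * (g ^ i)⁻¹) * g⁻¹ := by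
              rw [pow_succ']; group
          _ = (g * z ^ i) * x * g⁻¹ := by rw [ih]; group
          _ = (z ^ i * g) * x * g⁻¹ := by rw [(hcz.pow_right i).eq]
          _ = z ^ i * (g * x * g⁻¹ * x⁻¹) * x := by group
          _ = _ := by rw [← hz, pow_succ]
    have h1 := hi (p ^ e)
    rw [show z ^ p ^ e = 1 from by rw [← he]; exact congrArg Subtype.val (pow_card_eq_one' (x := (⟨z, hzB⟩ : B))),
      one_mul] at h1
    exact (mul_inv_eq_iff_eq_mul.mp h1).symm
  -- the centraliser of `Kb` is a `p'`-group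
  obtain ⟨S⟩ := (inferInstance : Nonempty (Sylow p ((N ⧸ C) ⧸ O)))
  have hSK : (S : Subgroup ((N ⧸ C) ⧸ O)) ⊔ Kb = ⊤ := by
    refine eq_top_iff.mpr fun y _ => ?_
    have hqp : IsPGroup p (((N ⧸ C) ⧸ O) ⧸ Kb) := by
      intro z
      obtain ⟨y, rfl⟩ := QuotientGroup.mk'_surjective Kb z
      obtain ⟨x, rfl⟩ := hf y
      obtain ⟨n, hn⟩ := hq x
      refine ⟨n, ?_⟩
      rw [← map_pow, ← map_pow]
      exact (QuotientGroup.eq_one_iff _).mpr (mem_map_of_mem f hn)
    obtain ⟨n, hn⟩ := IsPGroup.iff_card.mp hqp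
    rw [← index_eq_card] at hn
    rw [sup_comm, Transfer.sup_sylow_eq_top S hn]
    exact mem_top y
  set V := (S : Subgroup ((N ⧸ C) ⧸ O)) ⊓ centralizer (Kb : Set ((N ⧸ C) ⧸ O)) with hV
  have hcn : (centralizer (Kb : Set ((N ⧸ C) ⧸ O))).Normal := inferInstance
  have hVn : V.Normal := by
    rw [← normalizer_eq_top_iff, ← top_le_iff, ← hSK]
    refine sup_le (fun z hz => ?_) (le_trans ?_ (centralizer_le_normalizer _))
    · have hzP := le_normalizer hz
      rw [mem_normalizer_iff] at hzP ⊢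
      intro w
      exact and_congr (hzP w) ⟨fun hw => hcn.conj_mem w hw z, fun hw => by
        simpa [mul_assoc] using hcn.conj_mem' _ hw z⟩
    · exact le_centralizer_iff.mpr inf_le_right
  have hVbot : V = ⊥ := hcore V hVn (S.2.to_le inf_le_left)
  have hord : f g = 1 := by
    set Z := centralizer (Kb : Set ((N ⧸ C) ⧸ O))
    have hZp : (Nat.card Z).Coprime p :=
      Transfer.coprime_card_of_inf_sylow_eq_bot S (by rw [inf_comm]; exact hVbot)
    have h1 : orderOf (f g) ∣ p ^ e := orderOf_dvd_of_pow_eq_one (by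
      rw [← map_pow]
      show QuotientGroup.mk' O (QuotientGroup.mk' C (g ^ p ^ e)) = 1
      rw [show QuotientGroup.mk' C (g ^ p ^ e) = 1 from (QuotientGroup.eq_one_iff _).mpr hgp, map_one])
    exact orderOf_eq_one_iff.mp
      (Nat.eq_one_of_dvd_coprimes (hZp.pow_right e) (Z.orderOf_dvd_natCard hgK) h1)
  exact (QuotientGroup.eq_one_iff _).mp hord

/-- Layered groups are `p`-stable in the normalizer form, `p` odd. -/
theorem IsLayered.isNormalizerPStable {X : Type u} [Group X] [Finite X] (hp2 : p ≠ 2)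
    (hX : IsLayered p X) : Cfsg.IsNormalizerPStable p X := by
  intro P hP g hg hquad
  set N := normalizer (P : Set X)
  set B := P.subgroupOf N with hB
  have hBn : B.Normal := normal_in_normalizer
  have hC : centralizer (B : Set N) = (centralizer (P : Set X)).subgroupOf N := by
    ext x
    rw [mem_subgroupOf, mem_centralizer_iff, mem_centralizer_iff]
    constructor
    · intro h y hy
      exact congrArg Subtype.val (h ⟨y, le_normalizer hy⟩ hy)
    · intro h y hy
      exact Subtype.ext (h y hy)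
  have hq : ∀ x ∈ B, (⟨g, hg⟩ : N) * (⟨g, hg⟩ * x * (⟨g, hg⟩ : N)⁻¹ * x⁻¹) * (⟨g, hg⟩ : N)⁻¹ =
      ⟨g, hg⟩ * x * (⟨g, hg⟩ : N)⁻¹ * x⁻¹ := by
    intro x hx
    refine Subtype.ext ?_
    show g * (g * (x : X) * g⁻¹ * (x : X)⁻¹) * g⁻¹ = g * (x : X) * g⁻¹ * (x : X)⁻¹
    have h1 : ⁅g, (x : X)⁆ ∈ ⁅P, zpowers g⁆ := by
      rw [← commutatorElement_inv]
      exact inv_mem (commutator_mem_commutator hx (mem_zpowers g))
    have h2 : ⁅⁅g, (x : X)⁆, g⁆ = 1 := by
      rw [← mem_bot, ← hquad]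
      exact commutator_mem_commutator h1 (mem_zpowers g)
    rw [commutatorElement_eq_one_iff_commute, commutatorElement_def] at h2
    rw [← h2.eq, mul_inv_cancel_right]
  have key := (hX.subgroup N).quadratic_mem_pCore hp2 B hP.comap_subtype hq
  have hconv : ∀ (C₁ C₂ : Subgroup N) [C₁.Normal] [C₂.Normal], C₁ = C₂ →
      QuotientGroup.mk' C₁ ⟨g, hg⟩ ∈ Cfsg.pCore p (N ⧸ C₁) →
      QuotientGroup.mk' C₂ ⟨g, hg⟩ ∈ Cfsg.pCore p (N ⧸ C₂) := by
    intro C₁ C₂ _ _ e hk
    subst e
    exact hk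
  have : ((centralizer (P : Set X)).subgroupOf N).Normal := hC ▸ (inferInstance : (centralizer (B : Set N)).Normal)
  exact hconv _ _ hC key

theorem MinimalFailure.isLayered {ι : Type*} {F : ι → LocalFunctor.{u} p} {G : Type u} [Group G]
    [Finite G] {P : Sylow p G} {U M : Subgroup G} {m : ℕ} (h : MinimalFailure F P U M m) :
    IsLayered p G := by
  have := h.normal_M
  refine ⟨M, U, m, h.normal_M, h.normal_U, h.isPGroup_U, h.coprime_m, h.commutator_M, h.pow_m,
    fun x => ?_⟩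
  have htop : (P : Subgroup G).map (QuotientGroup.mk' M) = ⊤ := by
    rw [← Subgroup.map_top_of_surjective _ (QuotientGroup.mk'_surjective M), ← h.sup_eq,
      Subgroup.map_sup, (Subgroup.map_eq_bot_iff M).mpr (QuotientGroup.ker_mk' M).ge, sup_bot_eq]
  have hq : IsPGroup p (G ⧸ M) :=
    ((htop ▸ P.2.map (QuotientGroup.mk' M) : IsPGroup p (⊤ : Subgroup (G ⧸ M)))).of_equiv topEquiv
  obtain ⟨n, hn⟩ := hq (QuotientGroup.mk' M x)
  exact ⟨n, (QuotientGroup.eq_one_iff _).mp (by rw [← map_pow] at hn; exact hn)⟩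

/-- Strong fusion controlled by `W(T)` in `p`-stable sections gives a normal `p`-complement. -/
theorem hasNormalPComplement_of_controlsStrongFusion {G : Type u} [Group G] [Finite G] (hp2 : p ≠ 2)
    (W : ∀ (Q : Type u) [Group Q], Subgroup Q) (hW : Cfsg.IsCharPFunctor.{u} p W) (S : Sylow p G)
    (hN : Cfsg.HasNormalPComplement p
      (normalizer (Cfsg.inducedFunctor W (S : Subgroup G) : Set G)))
    (hctl : ∀ (K R : Subgroup G) [_hR : (R.subgroupOf K).Normal],
      (∀ (K' R' : Subgroup (↥K ⧸ R.subgroupOf K)) [_hR' : (R'.subgroupOf K').Normal],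
        Cfsg.IsNormalizerPStable p (↥K' ⧸ R'.subgroupOf K')) →
      ∀ T : Sylow p (↥K ⧸ R.subgroupOf K),
        Cfsg.ControlsStrongFusion p (Cfsg.inducedFunctor W (T : Subgroup (↥K ⧸ R.subgroupOf K)))) :
    Cfsg.HasNormalPComplement p G := by
  let F : Unit → LocalFunctor.{u} p := fun _ => inducedLocalFunctor p W hW
  refine hasNormalPComplement_of_local_hered F () (fun _ => rfl) (fun H _ => IsSectionOf G H)
    (fun H h => h.subgroup H) (fun N _ h => h.quotient N) (fun H _ _ P U M m hPr h => ?_) G S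
    isSectionOf_self (fun _ => ?_)
  swap
  · show Cfsg.HasNormalPComplement p (normalizer (functorCore p W (S : Subgroup G) : Set G))
    rw [functorCore_eq S.2]
    exact hN
  have h1 : normalizer (functorCore p W (P : Subgroup H) : Set H) = P := h.loc_eq ()
  rw [functorCore_eq P.2] at h1
  obtain ⟨K, R, hR, ⟨e⟩⟩ := hPr.exists_equiv
  let T : Sylow p (↥K ⧸ R.subgroupOf K) := P.mapSurjective (f := e.symm.toMonoidHom) e.symm.surjective
  have hlay : IsLayered p (↥K ⧸ R.subgroupOf K) := h.isLayered.of_surjective e.symm.toMonoidHom e.symm.surjective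
  obtain ⟨T', hWT, hctl'⟩ := hctl K R (fun K' R' _ =>
    ((hlay.subgroup K').of_surjective _ (QuotientGroup.mk'_surjective _)).isNormalizerPStable hp2) T
  -- transported to `H`
  have hWeq : (Cfsg.inducedFunctor W (T : Subgroup (↥K ⧸ R.subgroupOf K))).map e.toMonoidHom =
      Cfsg.inducedFunctor W (P : Subgroup H) := by
    show (Cfsg.inducedFunctor W ((P : Subgroup H).map e.symm.toMonoidHom)).map e.toMonoidHom = _
    rw [← inducedFunctor_map hW e.symm (P : Subgroup H) P.2, map_map]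
    ext x
    simp
  set U' := U.map e.symm.toMonoidHom with hU'
  have hU'n : U'.Normal := h.normal_U.map _ e.symm.surjective
  have hU'T : U' ≤ (T' : Subgroup (↥K ⧸ R.subgroupOf K)) :=
    Solvable.normal_pgroup_le_sylow (h.isPGroup_U.map _) T'
  have hMP : M ≤ (P : Subgroup H) := by
    intro g hg
    have hs := (hctl' (U' : Set (↥K ⧸ R.subgroupOf K)) hU'T).2 (e.symm g) (by
      rintro _ ⟨a, ha, rfl⟩
      exact hU'T (hU'n.conj_mem a ha _))
    obtain ⟨x, hx, hxa⟩ := hs
    have hxP : e x ∈ (P : Subgroup H) := by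
      rw [← h1]
      have h2 : e x ∈ (normalizer (Cfsg.inducedFunctor W (T : Subgroup (↥K ⧸ R.subgroupOf K)) :
          Set (↥K ⧸ R.subgroupOf K))).map e.toMonoidHom := mem_map_of_mem _ hx
      rw [map_equiv_normalizer_eq, hWeq] at h2
      exact h2
    have hc : (e x)⁻¹ * g ∈ centralizer (U : Set H) := by
      rw [mem_centralizer_iff]
      intro u hu
      have h2 := congrArg e (hxa (e.symm u) (mem_map_of_mem _ hu))
      simp only [map_mul, map_inv, e.apply_symm_apply] at h2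
      calc u * ((e x)⁻¹ * g) = (e x)⁻¹ * (e x * u * (e x)⁻¹) * g := by group
        _ = (e x)⁻¹ * (g * u * g⁻¹) * g := by rw [h2]
        _ = _ := by group
    simpa using (P : Subgroup H).mul_mem hxP (h.U_le (h.centralizer_le hc))
  refine h.not_complement (hasNormalPComplement_of_top ?_)
  have hPtop : (P : Subgroup H) = ⊤ := by
    rw [← top_le_iff, ← h.sup_eq]
    exact sup_le le_rfl hMP
  have h3 := h.local_complement ()
  rw [h.loc_eq (), hPtop] at h3
  exact h3

end CfsgLib.Complement
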