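import Cfsg.Agent.Lib.OddLocal.SLTwoOdd
import Mathlib

/-!
# Two quadratic unipotent elements generating a solvable group
-/

set_option autoImplicit false

namespace CfsgLib.Complement

universe u v w

open Matrix
open scoped commutatorElement

variable {k : Type v} [Field k] {Γ : Type u} [Group Γ]

/-- Quotients inherit abelian 2-subgroups. -/
theorem twoSubgroups_abelian_quotient [Finite Γ] (N : Subgroup Γ) [N.Normal]
    (h : ∀ Q : Subgroup Γ, IsPGroup 2 Q → IsMulCommutative Q) (Q : Subgroup (Γ ⧸ N))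
    (hQ : IsPGroup 2 Q) : IsMulCommutative Q := by
  have : Fact (Nat.Prime 2) := ⟨Nat.prime_two⟩
  obtain ⟨S, hS⟩ := hQ.exists_le_sylow
  obtain ⟨T⟩ : Nonempty (Sylow 2 Γ) := inferInstance
  obtain ⟨g, hg⟩ := MulAction.exists_smul_eq (Γ ⧸ N) (T.mapSurjective (QuotientGroup.mk'_surjective N)) S
  obtain ⟨g, rfl⟩ := QuotientGroup.mk'_surjective N g
  rw [isMulCommutative_iff]
  intro u v
  have hmem : ∀ w : Q, ∃ t ∈ (T : Subgroup Γ),
      QuotientGroup.mk' N (g * t * g⁻¹) = (w : Γ ⧸ N) := by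
    intro w
    have hw := hS w.2
    rw [← hg, Sylow.coe_subgroup_smul, Subgroup.mem_pointwise_smul_iff_inv_smul_mem] at hw
    obtain ⟨t, ht, e⟩ := hw
    refine ⟨t, ht, ?_⟩
    rw [map_mul, map_mul, map_inv, e]
    simp [mul_assoc]
  obtain ⟨s, hs, es⟩ := hmem u
  obtain ⟨t, ht, et⟩ := hmem v
  refine Subtype.ext ?_
  show (u : Γ ⧸ N) * v = v * u
  rw [← es, ← et, ← map_mul, ← map_mul]
  congr 1
  have hst : s * t = t * s := congrArg Subtype.val
    ((h T T.2).is_comm.comm (⟨s, hs⟩ : (T : Subgroup Γ)) ⟨t, ht⟩)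
  calc g * s * g⁻¹ * (g * t * g⁻¹) = g * (s * t) * g⁻¹ := by group
    _ = g * (t * s) * g⁻¹ := by rw [hst]
    _ = g * t * g⁻¹ * (g * s * g⁻¹) := by group

/-- A finite solvable group of determinant-one 2 × 2 matrices with all 2-subgroups abelian if `p = 3`
cannot contain two transvections in general position. -/
theorem no_transvection_pair_solvable [IsAlgClosed k] [Finite Γ] [Group.IsSolvable Γ] {p : ℕ}
    [hp : Fact p.Prime] [CharP k p] (hp2 : p ≠ 2)
    (h2 : p = 3 → ∀ Q : Subgroup Γ, IsPGroup 2 Q → IsMulCommutative Q)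
    (ρ : Γ →* Matrix (Fin 2) (Fin 2) k) (hinj : Function.Injective ρ)
    (hdet : ∀ g, (ρ g).det = 1) {a b : Γ} {c : k} (hc : c ≠ 0)
    (ha : ρ a = !![1, c; 0, 1]) (hb : ρ b = !![1, 0; 1, 1]) : False := by
  have : Nontrivial Γ := by
    refine ⟨a, 1, fun h => hc ?_⟩
    rw [h, map_one] at ha
    simpa using (congrFun (congrFun ha 0) 1).symm
  have h2k : (2 : k) ≠ 0 := fun h => hp2 ((Nat.prime_dvd_prime_iff_eq hp.out Nat.prime_two).mp
    ((CharP.cast_eq_zero_iff k p 2).mp (by exact_mod_cast h)))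
  have hpow : ∀ (g : Γ) (u v : k), ρ g = !![1, u; v, 1] → u * v = 0 → ∀ i : ℕ,
      ρ (g ^ i) = !![1, (i : k) * u; (i : k) * v, 1] := by
    intro g u v hg huv i
    induction i with
    | zero => rw [pow_zero, map_one]; ext r s; fin_cases r <;> fin_cases s <;> simp
    | succ i ih =>
      have e1 : (i : k) * u * v = 0 := by rw [mul_assoc, huv, mul_zero]
      have e2 : (i : k) * v * u = 0 := by rw [mul_assoc, mul_comm v u, huv, mul_zero]
      rw [pow_succ, map_mul, ih, hg]
      ext r s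
      fin_cases r <;> fin_cases s <;> simp [Matrix.mul_apply, Fin.sum_univ_two]
      · simpa using e1
      · ring
      · ring
      · simpa using e2
  have hao : a ^ p = 1 := hinj (by
    rw [hpow a c 0 ha (mul_zero c), CharP.cast_eq_zero, zero_mul, zero_mul, map_one]
    ext r s; fin_cases r <;> fin_cases s <;> simp)
  have hbo : b ^ p = 1 := hinj (by
    rw [hpow b 0 1 hb (zero_mul 1), CharP.cast_eq_zero, zero_mul, zero_mul, map_one]
    ext r s; fin_cases r <;> fin_cases s <;> simp)
  have hsolv : ∀ D : Subgroup Γ, D.Normal → IsMulCommutative D →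
      ∀ d ∈ D, ∃ μ : k, ρ d = μ • (1 : Matrix (Fin 2) (Fin 2) k) := by
    intro D hDn hDc
    by_contra hscal
    simp only [not_forall, not_exists] at hscal
    obtain ⟨n, hn, hns⟩ := hscal
    obtain ⟨μ, hμ⟩ := Module.End.exists_eigenvalue (Matrix.mulVecLin (ρ n))
    obtain ⟨x, hx⟩ := hμ.exists_hasEigenvector
    have hxn : (ρ n) *ᵥ x = μ • x := hx.apply_eq_smul
    have hx0 : x ≠ 0 := hx.2
    -- `n` has at most two eigenlines
    have hlines : ∀ y z : Fin 2 → k, ∀ ν : k, y ≠ 0 → z ≠ 0 → (ρ n) *ᵥ y = ν • y → (ρ n) *ᵥ z = ν • z →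
        ∃ t : k, z = t • y := by
      intro y z ν hy hz hny hnz
      by_cases hind : y 0 * z 1 - y 1 * z 0 = 0
      · by_cases h0 : y 0 = 0
        · have h1 : y 1 ≠ 0 := fun h1 => hy (funext fun i => by fin_cases i <;> simp [h0, h1])
          refine ⟨z 1 / y 1, funext fun i => ?_⟩
          fin_cases i
          · have : z 0 = 0 := by
              rw [h0, zero_mul, zero_sub, neg_eq_zero] at hind
              exact (mul_eq_zero.mp hind).resolve_left h1
            simp [h0, this]
          · simp [div_mul_cancel₀ _ h1]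
        · refine ⟨z 0 / y 0, funext fun i => ?_⟩
          fin_cases i
          · simp [div_mul_cancel₀ _ h0]
          · simp only [Fin.mk_one, Pi.smul_apply, smul_eq_mul]
            field_simp
            linear_combination hind
      · exfalso
        apply hns ν
        have e1 := congrFun hny 0
        have e2 := congrFun hny 1
        have e3 := congrFun hnz 0
        have e4 := congrFun hnz 1
        simp only [Matrix.mulVec, dotProduct, Fin.sum_univ_two, Pi.smul_apply, smul_eq_mul] at e1 e2 e3 e4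
        ext i j
        fin_cases i <;> fin_cases j <;> simp <;> apply mul_right_cancel₀ hind
        · linear_combination (z 1) * e1 - (y 1) * e3
        · linear_combination (y 0) * e3 - (z 0) * e1
        · linear_combination (z 1) * e2 - (y 1) * e4
        · linear_combination (y 0) * e4 - (z 0) * e2
    -- all elements fix the eigenlines
    have hline_perm : ∀ g : Γ, ∀ y : Fin 2 → k, ∀ ν : k, y ≠ 0 → (ρ n) *ᵥ y = ν • y →
        ∃ ν' : k, (ρ n) *ᵥ ((ρ g) *ᵥ y) = ν' • ((ρ g) *ᵥ y) := by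
      intro g y ν hy hny
      have hmem : g⁻¹ * n * g ∈ D := hDn.conj_mem' n hn g
      set m := g⁻¹ * n * g
      have hcomm : n * m = m * n :=
        congrArg Subtype.val (hDc.is_comm.comm (⟨n, hn⟩ : D) ⟨m, hmem⟩)
      have h1 : (ρ n) *ᵥ ((ρ m) *ᵥ y) = ν • ((ρ m) *ᵥ y) := by
        rw [Matrix.mulVec_mulVec, ← map_mul, hcomm, map_mul, ← Matrix.mulVec_mulVec, hny, Matrix.mulVec_smul]
      have hm0 : (ρ m) *ᵥ y ≠ 0 := fun h => hy (by
        have := congrArg (fun v => (ρ m⁻¹) *ᵥ v) h
        simp only [Matrix.mulVec_mulVec, ← map_mul, inv_mul_cancel, map_one, Matrix.one_mulVec,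
          Matrix.mulVec_zero] at this
        exact this)
      obtain ⟨t, ht⟩ := hlines y _ ν hy hm0 hny h1
      refine ⟨t, ?_⟩
      have e : n * g = g * m := by show n * g = g * (g⁻¹ * n * g); group
      rw [Matrix.mulVec_mulVec, ← map_mul, e, map_mul, ← Matrix.mulVec_mulVec, ht, Matrix.mulVec_smul]
    have hfix : ∀ g : Γ, g ^ p = 1 → ∃ t : k, (ρ g) *ᵥ x = t • x := by
      intro g hgp
      have hne : ∀ g : Γ, ∀ y : Fin 2 → k, y ≠ 0 → (ρ g) *ᵥ y ≠ 0 := fun g y hy h => hy (by
        have := congrArg (fun v => (ρ g⁻¹) *ᵥ v) h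
        simp only [Matrix.mulVec_mulVec, ← map_mul, inv_mul_cancel, map_one, Matrix.one_mulVec,
          Matrix.mulVec_zero] at this
        exact this)
      -- `g²` fixes the line
      have hsq : ∀ g : Γ, ∃ t : k, (ρ (g ^ 2)) *ᵥ x = t • x := by
        intro g
        obtain ⟨ν₁, h1⟩ := hline_perm g x μ hx0 hxn
        obtain ⟨ν₂, h2⟩ := hline_perm g _ ν₁ (hne g x hx0) h1
        rw [show (ρ g) *ᵥ ((ρ g) *ᵥ x) = (ρ (g ^ 2)) *ᵥ x from by
          rw [pow_two, map_mul, Matrix.mulVec_mulVec]] at h2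
        by_cases e1 : ν₁ = μ
        · subst e1
          obtain ⟨t, ht⟩ := hlines x _ ν₁ hx0 (hne g x hx0) hxn h1
          exact ⟨t * t, by rw [pow_two, map_mul, ← Matrix.mulVec_mulVec, ht, Matrix.mulVec_smul, ht, smul_smul]⟩
        by_cases e2 : ν₂ = μ
        · subst e2
          exact hlines x _ ν₂ hx0 (hne _ x hx0) hxn h2
        by_cases e3 : ν₂ = ν₁
        · subst e3
          obtain ⟨t, ht⟩ := hlines _ _ ν₂ (hne g x hx0) (hne (g ^ 2) x hx0) h1 h2
          exact (e1 (by
            have hgx : (ρ g) *ᵥ x = t • x := by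
              have h3 := congrArg (fun v => (ρ g⁻¹) *ᵥ v) ht
              simp only [Matrix.mulVec_smul, Matrix.mulVec_mulVec, ← map_mul, pow_two,
                inv_mul_cancel_left, inv_mul_cancel, map_one, Matrix.one_mulVec] at h3
              exact h3
            rw [hgx, Matrix.mulVec_smul, hxn, smul_smul, smul_smul] at h1
            have h4 : t * μ = ν₂ * t := by
              obtain ⟨i, hi⟩ := Function.ne_iff.mp hx0
              have := congrFun h1 i
              simp only [Pi.smul_apply, smul_eq_mul] at this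
              exact mul_right_cancel₀ hi this
            have ht0 : t ≠ 0 := fun h => hne g x hx0 (by rw [hgx, h, zero_smul])
            rw [mul_comm] at h4
            exact (mul_right_cancel₀ ht0 h4).symm)).elim
        · exfalso
          -- three distinct eigenvalues of a 2 × 2 matrix
          have key : ∀ ν : k, ∀ y : Fin 2 → k, y ≠ 0 → (ρ n) *ᵥ y = ν • y →
              ν * ν - ((ρ n) 0 0 + (ρ n) 1 1) * ν + ((ρ n) 0 0 * (ρ n) 1 1 - (ρ n) 0 1 * (ρ n) 1 0) = 0 := by
            intro ν y hy hny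
            have f1 := congrFun hny 0
            have f2 := congrFun hny 1
            simp only [Matrix.mulVec, dotProduct, Fin.sum_univ_two, Pi.smul_apply, smul_eq_mul] at f1 f2
            obtain ⟨i, hi⟩ := Function.ne_iff.mp hy
            apply mul_right_cancel₀ hi
            rw [zero_mul]
            fin_cases i
            · show _ * y 0 = 0
              linear_combination ((ρ n) 1 1 - ν) * f1 - (ρ n) 0 1 * f2
            · show _ * y 1 = 0
              linear_combination ((ρ n) 0 0 - ν) * f2 - (ρ n) 1 0 * f1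
          have k1 := key μ x hx0 hxn
          have k2 := key ν₁ _ (hne g x hx0) h1
          have k3 := key ν₂ _ (hne (g ^ 2) x hx0) h2
          have s1 : ν₁ + μ - ((ρ n) 0 0 + (ρ n) 1 1) = 0 :=
            mul_left_cancel₀ (sub_ne_zero.mpr e1) (by linear_combination k2 - k1)
          have s2 : ν₂ + μ - ((ρ n) 0 0 + (ρ n) 1 1) = 0 :=
            mul_left_cancel₀ (sub_ne_zero.mpr e2) (by linear_combination k3 - k1)
          exact e3 (by linear_combination s2 - s1)
      obtain ⟨j, hj⟩ := hp.out.odd_of_ne_two hp2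
      obtain ⟨t, ht⟩ := hsq (g ^ (j + 1))
      refine ⟨t, ?_⟩
      have e : (g ^ (j + 1)) ^ 2 = g := by
        rw [← pow_mul, show (j + 1) * 2 = (2 * j + 1) + 1 by ring, pow_succ, ← hj, hgp, one_mul]
      rwa [e] at ht
    obtain ⟨s, hs⟩ := hfix a hao
    obtain ⟨t, ht⟩ := hfix b hbo
    have f1 := congrFun hs 0
    have f2 := congrFun hs 1
    have g2 := congrFun ht 1
    have g1 := congrFun ht 0
    rw [ha] at f1 f2
    rw [hb] at g1 g2
    simp [Matrix.mulVec, dotProduct, Fin.sum_univ_two] at f1 f2 g1 g2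
    have hy : x 1 = 0 := by
      by_contra h
      have : s = 1 := mul_right_cancel₀ h (by rw [one_mul]; exact f2.symm)
      rw [this, one_mul] at f1
      exact h ((mul_eq_zero.mp (add_eq_left.mp f1)).resolve_left hc)
    apply hx0
    funext i
    fin_cases i
    · simp [hy] at g2
      exact g2
    · exact hy

  -- scalars are `±1`
  have hsc : ∀ (g : Γ) (μ : k), ρ g = μ • (1 : Matrix (Fin 2) (Fin 2) k) → g * g = 1 := by
    intro g μ hμ
    have h := hdet g
    rw [hμ, Matrix.det_smul, Fintype.card_fin, Matrix.det_one, mul_one, pow_two] at h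
    exact hinj (by rw [map_mul, hμ, smul_mul_smul_comm, h, one_mul, one_smul, map_one])
  have hex : ∃ n, ∀ d ∈ derivedSeries Γ n, ∃ μ : k, ρ d = μ • (1 : Matrix (Fin 2) (Fin 2) k) := by
    obtain ⟨n, hn⟩ := (Group.IsSolvable.solvable : ∃ n, derivedSeries Γ n = ⊥)
    exact ⟨n, fun d hd => ⟨1, by rw [hn, Subgroup.mem_bot] at hd; rw [hd, map_one, one_smul]⟩⟩
  classical
  have hspec := Nat.find_spec hex
  have hn0 : Nat.find hex ≠ 0 := fun h => by
    obtain ⟨μ, hμ⟩ := hspec a (by rw [h, derivedSeries_zero]; exact Subgroup.mem_top a)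
    rw [ha] at hμ
    have := congrFun (congrFun hμ 0) 1
    simp at this
    exact hc this
  obtain ⟨m, hm⟩ := Nat.exists_eq_succ_of_ne_zero hn0
  have hmin := Nat.find_min hex (show m < Nat.find hex by omega)
  rw [hm, derivedSeries_succ] at hspec
  set D := derivedSeries Γ m with hD
  have hDn : D.Normal := derivedSeries_normal Γ m
  -- anticommuting or commuting
  have hsign : ∀ x ∈ D, ∀ y ∈ D, x * y = y * x ∨ ρ x * ρ y = -(ρ y * ρ x) := by
    intro x hx y hy
    obtain ⟨μ, hμ⟩ := hspec _ (Subgroup.commutator_mem_commutator hx hy)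
    have hsq := hdet ⁅x, y⁆
    rw [hμ, Matrix.det_smul, Fintype.card_fin, Matrix.det_one, mul_one, pow_two,
      mul_self_eq_one_iff] at hsq
    have e : x * y = ⁅x, y⁆ * (y * x) := by rw [commutatorElement_def]; group
    rcases hsq with h | h
    · left
      refine hinj ?_
      rw [e, map_mul, hμ, h, one_smul, one_mul]
    · right
      rw [← map_mul, e, map_mul, hμ, h, neg_smul, one_smul, neg_mul, one_mul, map_mul]
  obtain ⟨x, hx, y, hy, hxy⟩ : ∃ x ∈ D, ∃ y ∈ D, x * y ≠ y * x := by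
    by_contra hcon
    push Not at hcon
    exact hmin (hsolv D hDn (isMulCommutative_iff.mpr fun u v => Subtype.ext (hcon u u.2 v v.2)))
  have hanti := (hsign x hx y hy).resolve_left hxy
  -- anticommuting elements square to `-1`
  have hsq4 : ∀ u v : Γ, ρ u * ρ v = -(ρ v * ρ u) → ρ u * ρ u = -1 := by
    intro u v h
    have e : ρ u = -(ρ v * ρ u * ρ v⁻¹) := by
      rw [← neg_mul, ← h, mul_assoc, ← map_mul, mul_inv_cancel, map_one, mul_one]
    have htr : (ρ u).trace = 0 := by
      have e2 : (ρ u).trace = -(ρ u).trace := by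
        conv_lhs => rw [e, Matrix.trace_neg, Matrix.trace_mul_cycle, ← map_mul, inv_mul_cancel,
          map_one, one_mul]
      exact (mul_eq_zero.mp (show (2 : k) * (ρ u).trace = 0 by linear_combination e2)).resolve_left h2k
    have hd := hdet u
    rw [Matrix.trace_fin_two] at htr
    rw [Matrix.det_fin_two] at hd
    ext i j
    fin_cases i <;> fin_cases j <;> simp [Matrix.mul_apply, Fin.sum_univ_two]
    · linear_combination -hd + ρ u 0 0 * htr
    · linear_combination ρ u 0 1 * htr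
    · linear_combination ρ u 1 0 * htr
    · linear_combination -hd + ρ u 1 1 * htr
  -- the centralizer of `x, y` is scalar
  have hscalar : ∀ M : Matrix (Fin 2) (Fin 2) k, M * ρ x = ρ x * M → M * ρ y = ρ y * M →
      ∃ μ : k, M = μ • (1 : Matrix (Fin 2) (Fin 2) k) := by
    intro M h1 h2
    by_contra hM
    simp only [not_exists] at hM
    obtain ⟨p1, q1, e1⟩ := CfsgLib.OddLocal.exists_of_commute hM h1.symm
    obtain ⟨p2, q2, e2⟩ := CfsgLib.OddLocal.exists_of_commute hM h2.symm
    apply hxy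
    refine hinj ?_
    rw [map_mul, map_mul, e1, e2]
    exact CfsgLib.OddLocal.smul_one_add_smul_commute M p1 q1 p2 q2
  have hcls : ∀ d ∈ D, ∃ e ∈ ({1, x, y, x * y} : Set Γ), ∃ μ : k,
      ρ (d * e) = μ • (1 : Matrix (Fin 2) (Fin 2) k) := by
    intro d hd
    have hx' := hsign d hd x hx
    have hy' := hsign d hd y hy
    have key : ∀ e ∈ ({1, x, y, x * y} : Set Γ), ρ d * ρ e * ρ x = ρ x * (ρ d * ρ e) →
        ρ d * ρ e * ρ y = ρ y * (ρ d * ρ e) → ∃ e ∈ ({1, x, y, x * y} : Set Γ), ∃ μ : k,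
          ρ (d * e) = μ • (1 : Matrix (Fin 2) (Fin 2) k) := fun e he h1 h2 =>
      ⟨e, he, by rw [map_mul]; exact hscalar _ h1 h2⟩
    have hyx : ρ y * ρ x = -(ρ x * ρ y) := by rw [hanti, neg_neg]
    rcases hx' with hx' | hx' <;> rcases hy' with hy' | hy'
    · have c1 : ρ d * ρ x = ρ x * ρ d := by rw [← map_mul, hx', map_mul]
      have c2 : ρ d * ρ y = ρ y * ρ d := by rw [← map_mul, hy', map_mul]
      exact key 1 (by simp) (by simp [c1]) (by simp [c2])
    · have c1 : ρ d * ρ x = ρ x * ρ d := by rw [← map_mul, hx', map_mul]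
      refine key x (by simp) ?_ ?_
      · calc ρ d * ρ x * ρ x = ρ x * ρ d * ρ x := by rw [c1]
          _ = _ := mul_assoc _ _ _
      · rw [mul_assoc, hanti, mul_neg, ← mul_assoc, hy', neg_mul, neg_neg, mul_assoc]
    · have c2 : ρ d * ρ y = ρ y * ρ d := by rw [← map_mul, hy', map_mul]
      refine key y (by simp) ?_ ?_
      · rw [mul_assoc, hyx, mul_neg, ← mul_assoc, hx', neg_mul, neg_neg, mul_assoc]
      · calc ρ d * ρ y * ρ y = ρ y * ρ d * ρ y := by rw [c2]
          _ = _ := mul_assoc _ _ _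
    · refine key (x * y) (by simp) ?_ ?_
      · rw [map_mul, mul_assoc (ρ d), mul_assoc (ρ x), hyx, mul_neg, mul_neg, ← mul_assoc (ρ d), hx',
          neg_mul, neg_neg, mul_assoc]
      · rw [map_mul, ← mul_assoc (ρ y), show ρ y * ρ d = -(ρ d * ρ y) by rw [hy', neg_neg],
          neg_mul, mul_assoc (ρ d) (ρ y), ← mul_assoc (ρ y) (ρ x), hyx, neg_mul, mul_neg, neg_neg,
          mul_assoc (ρ d)]
  have hxx := hsq4 x y hanti
  have hyy := hsq4 y x (by rw [hanti, neg_neg])
  have hfour : ∀ d ∈ D, ρ d ^ 4 = 1 := by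
    intro d hd
    by_cases hs : ∃ μ : k, ρ d = μ • (1 : Matrix (Fin 2) (Fin 2) k)
    · obtain ⟨μ, hμ⟩ := hs
      rw [← map_pow, show d ^ 4 = (d * d) * (d * d) by simp only [pow_succ, pow_zero, one_mul, mul_assoc], hsc d μ hμ, one_mul, map_one]
    · obtain ⟨v, hv⟩ : ∃ v, ρ d * ρ v = -(ρ v * ρ d) := by
        by_contra hcon
        push Not at hcon
        refine hs (hscalar (ρ d) ?_ ?_)
        · rw [← map_mul, (hsign d hd x hx).resolve_right (hcon x), map_mul]
        · rw [← map_mul, (hsign d hd y hy).resolve_right (hcon y), map_mul]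
      rw [show (4 : ℕ) = 2 * 2 from rfl, pow_mul, pow_two (ρ d), hsq4 d v hv, neg_one_sq]
  rcases eq_or_ne p 3 with h3 | h3
  · have hD2 : IsPGroup 2 D := fun d => ⟨2, Subtype.ext (hinj (by
      show ρ ((d : Γ) ^ 2 ^ 2) = ρ 1
      rw [map_pow, map_one]; exact hfour d d.2))⟩
    exact hxy (congrArg Subtype.val ((h2 h3 D hD2).is_comm.comm (⟨x, hx⟩ : D) ⟨y, hy⟩))
  -- `p ≥ 5`: `a` fixes the classes
  have hp5 : 4 < p := by
    have := hp.out.two_le
    rcases hp.out.eq_two_or_odd with h | h <;> omega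
  let cls : Γ → Set Γ := fun d => {d' | ∃ μ : k, ρ (d * d'⁻¹) = μ • (1 : Matrix (Fin 2) (Fin 2) k)}
  have hfixcls : ∀ d ∈ D, ∃ μ : k, ρ (a * d * a⁻¹ * d⁻¹) = μ • (1 : Matrix (Fin 2) (Fin 2) k) := by
    intro d hd
    have hconj : ∀ i : ℕ, a ^ i * d * (a ^ i)⁻¹ ∈ D := fun i => hDn.conj_mem d hd _
    choose e he μ hμ using fun i : Fin p => hcls _ (hconj i)
    have hcardS : Nat.card ({1, x, y, x * y} : Set Γ) ≤ 4 := by
      rw [Nat.card_coe_set_eq]
      have h1 := Set.ncard_insert_le (1 : Γ) ({x, y, x * y} : Set Γ)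
      have h2' := Set.ncard_insert_le x ({y, x * y} : Set Γ)
      have h3' := Set.ncard_insert_le y ({x * y} : Set Γ)
      rw [Set.ncard_singleton] at h3'
      omega
    obtain ⟨i, j, hij, heq⟩ : ∃ i j : Fin p, i ≠ j ∧ e i = e j := by
      by_contra hcon
      push Not at hcon
      have := Nat.card_le_card_of_injective (fun i => (⟨e i, he i⟩ : ({1, x, y, x * y} : Set Γ)))
        fun i j h => by_contra fun hne => hcon i j hne (congrArg Subtype.val h)
      rw [Nat.card_eq_fintype_card, Fintype.card_fin] at this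
      exact absurd (this.trans hcardS) (by omega)
    wlog hlt : (i : ℕ) < j generalizing i j
    · exact this j i hij.symm heq.symm (lt_of_le_of_ne (not_lt.mp hlt) fun h => hij (Fin.ext h).symm)
    -- the period `j - i` is prime to `p`
    set l := (j : ℕ) - i with hl
    have hscal : ∀ g g' : Γ, (∃ μ : k, ρ g = μ • (1 : Matrix (Fin 2) (Fin 2) k)) → g' * g = g * g' := by
      rintro g g' ⟨μ, hμ⟩
      exact hinj (by rw [map_mul, map_mul, hμ, smul_one_mul, mul_smul_one])
    have hs1 : ∃ μ : k, ρ (a ^ l * d * (a ^ l)⁻¹ * d⁻¹) = μ • (1 : Matrix (Fin 2) (Fin 2) k) := by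
      set u := a ^ (i : ℕ) * d * (a ^ (i : ℕ))⁻¹ with hu
      set v := a ^ (j : ℕ) * d * (a ^ (j : ℕ))⁻¹ with hv
      have huv : ∃ μ' : k, ρ (v * u⁻¹) = μ' • (1 : Matrix (Fin 2) (Fin 2) k) := by
        have h' : v * u⁻¹ = (v * e j) * (u * e i)⁻¹ := by rw [heq]; group
        have hinv : (u * e i)⁻¹ = u * e i :=
          inv_eq_of_mul_eq_one_left (hsc _ _ (hμ i))
        rw [h', hinv, map_mul]
        exact ⟨μ j * μ i, by rw [hμ j, hμ i, smul_mul_smul_comm, one_mul]⟩
      obtain ⟨μ', hμ'⟩ := huv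
      refine ⟨μ', ?_⟩
      have e' : v * u⁻¹ = a ^ (i : ℕ) * (a ^ l * d * (a ^ l)⁻¹ * d⁻¹) * (a ^ (i : ℕ))⁻¹ := by
        rw [hv, hu, show (j : ℕ) = i + l by omega, pow_add]; group
      have e'' : a ^ l * d * (a ^ l)⁻¹ * d⁻¹ = (a ^ (i : ℕ))⁻¹ * (v * u⁻¹) * a ^ (i : ℕ) := by
        rw [e']; group
      rw [e'', mul_assoc, ← hscal _ (a ^ (i : ℕ)) ⟨μ', hμ'⟩, inv_mul_cancel_left, hμ']
    obtain ⟨n, hn⟩ := Nat.exists_mul_mod_eq_one_of_coprime
      ((hp.out.coprime_iff_not_dvd.mpr fun hd => absurd (Nat.le_of_dvd (by omega) hd) (by omega)).symm :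
        l.Coprime p) hp.out.one_lt
    obtain ⟨μ₁, hμ₁⟩ := hs1
    set z := a ^ l * d * (a ^ l)⁻¹ * d⁻¹ with hz
    have hit : ∀ r : ℕ, (a ^ l) ^ r * d * ((a ^ l) ^ r)⁻¹ = z ^ r * d := by
      intro r
      induction r with
      | zero => simp
      | succ r ihr =>
        calc (a ^ l) ^ (r + 1) * d * ((a ^ l) ^ (r + 1))⁻¹
            = a ^ l * ((a ^ l) ^ r * d * ((a ^ l) ^ r)⁻¹) * (a ^ l)⁻¹ := by rw [pow_succ']; group
          _ = (a ^ l * z ^ r) * d * (a ^ l)⁻¹ := by rw [ihr]; group
          _ = (z ^ r * a ^ l) * d * (a ^ l)⁻¹ := by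
              rw [(show Commute (a ^ l) z from hscal z (a ^ l) ⟨μ₁, hμ₁⟩).pow_right r |>.eq]
          _ = z ^ r * (a ^ l * d * (a ^ l)⁻¹ * d⁻¹ * d) := by group
          _ = z ^ r * (z * d) := rfl
          _ = z ^ (r + 1) * d := by rw [pow_succ, mul_assoc (z ^ r) z d]
    refine ⟨μ₁ ^ n, ?_⟩
    have hal : (a ^ l) ^ n = a := by
      rw [← pow_mul, pow_eq_pow_mod _ hao, hn.2, pow_one]
    have h := hit n
    rw [hal] at h
    rw [h, mul_inv_cancel_right, map_pow, hμ₁, smul_pow, one_pow]
  have hcomm : ∀ d ∈ D, ρ a * ρ d = ρ d * ρ a := by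
    intro d hd
    obtain ⟨μ, hμ⟩ := hfixcls d hd
    set z := a * d * a⁻¹ * d⁻¹ with hz
    have hza : a * z = z * a := hinj (by rw [map_mul ρ a z, map_mul ρ z a, hμ, smul_one_mul, mul_smul_one])
    have hit : ∀ r : ℕ, a ^ r * d * (a ^ r)⁻¹ = z ^ r * d := by
      intro r
      induction r with
      | zero => simp
      | succ r ihr =>
        calc a ^ (r + 1) * d * (a ^ (r + 1))⁻¹
            = a * (a ^ r * d * (a ^ r)⁻¹) * a⁻¹ := by rw [pow_succ']; group
          _ = (a * z ^ r) * d * a⁻¹ := by rw [ihr]; group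
          _ = (z ^ r * a) * d * a⁻¹ := by rw [((show Commute a z from hza).pow_right r).eq]
          _ = z ^ r * (a * d * a⁻¹ * d⁻¹ * d) := by group
          _ = z ^ r * (z * d) := rfl
          _ = z ^ (r + 1) * d := by rw [pow_succ, mul_assoc (z ^ r) z d]
    have h := hit p
    rw [hao, inv_one, one_mul, mul_one, eq_comm, mul_eq_right] at h
    obtain ⟨j, hj⟩ := hp.out.odd_of_ne_two hp2
    have hz1 : z = 1 := by
      rw [hj, pow_succ, pow_mul, pow_two, hsc z μ hμ, one_pow, one_mul] at h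
      exact h
    rw [hz, mul_inv_eq_one, mul_inv_eq_iff_eq_mul] at hz1
    rw [← map_mul, hz1, map_mul]
  obtain ⟨μ, hμ⟩ := hscalar (ρ a) (hcomm x hx) (hcomm y hy)
  rw [ha] at hμ
  have := congrFun (congrFun hμ 0) 1
  simp at this
  exact hc this

/-- Two quadratic elements generating a solvable group: `a b⁻¹` acts as a unipotent. -/
theorem quadratic_pair_unipotent_solvable {p : ℕ} [Fact p.Prime] [IsAlgClosed k] [CharP k p]
    {V : Type w} [AddCommGroup V] [Module k V] [FiniteDimensional k V]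
    [Finite Γ] [Group.IsSolvable Γ] (hp2 : p ≠ 2)
    (h2 : p = 3 → ∀ Q : Subgroup Γ, IsPGroup 2 Q → IsMulCommutative Q) (ρ : Γ →* Module.End k V) {a b : Γ}
    (hgen : Subgroup.closure ({a, b} : Set Γ) = ⊤)
    (ha : (ρ a - 1) * (ρ a - 1) = 0) (hb : (ρ b - 1) * (ρ b - 1) = 0) :
    ∃ N : ℕ, ρ (a * b⁻¹) ^ p ^ N = 1 := by
  set α := ρ a - 1 with hα
  set β := ρ b - 1 with hβ
  set C := α * β + β * α with hC
  have hbinv : ρ b⁻¹ = 1 - β := by
    have h1 : ρ b * (1 - β) = 1 := by
      rw [show ρ b = 1 + β by rw [hβ]; abel]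
      calc (1 + β) * (1 - β) = 1 - β * β := by noncomm_ring
        _ = 1 := by rw [hb, sub_zero]
    calc ρ b⁻¹ = ρ b⁻¹ * (ρ b * (1 - β)) := by rw [h1, mul_one]
      _ = 1 - β := by rw [← mul_assoc, ← map_mul, inv_mul_cancel, map_one, one_mul]
  set T := α - β - α * β with hT
  have hT1 : ρ (a * b⁻¹) = 1 + T := by
    rw [map_mul, hbinv, show ρ a = 1 + α by rw [hα]; abel, hT]
    noncomm_ring
  have hcα : C * α = α * C := by
    rw [hC, add_mul, mul_add, mul_assoc β α α, ha, mul_zero, add_zero, ← mul_assoc α α β, ha,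
      zero_mul, zero_add, mul_assoc]
  have hcβ : C * β = β * C := by
    rw [hC, add_mul, mul_add, mul_assoc α β β, hb, mul_zero, zero_add, ← mul_assoc β β α, hb,
      zero_mul, add_zero, mul_assoc]
  have hTT : T * T = -(C * (1 + T)) := by
    have e : T * T + C * (1 + T)
        = α * α * (1 - β) + β * β + β * (α * α) - β * (α * α) * β := by
      rw [hT, hC]; noncomm_ring
    rw [ha, hb] at e
    rw [← add_eq_zero_iff_eq_neg, e]
    noncomm_ring
  by_cases hnil : IsNilpotent C
  · have hTn : IsNilpotent T := by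
      obtain ⟨m, hm⟩ := hnil
      have hcT : Commute C (1 + T) := by
        exact (Commute.one_right C).add_right
          (((show Commute C α from hcα).sub_right hcβ).sub_right ((show Commute C α from hcα).mul_right hcβ))
      refine ⟨2 * m, ?_⟩
      rw [pow_mul, pow_two, hTT, neg_pow, hcT.mul_pow, hm, zero_mul, mul_zero]
    obtain ⟨m, hm⟩ := hTn
    refine ⟨m, ?_⟩
    rcases subsingleton_or_nontrivial (Module.End k V) with hs | hs
    · exact Subsingleton.elim _ _
    have : CharP (Module.End k V) p := charP_of_injective_algebraMap (algebraMap k (Module.End k V)).injective p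
    rw [hT1, add_pow_char_pow_of_commute (p := p) (n := m) (h := Commute.one_left T), one_pow]
    have hle : m ≤ p ^ m := (Nat.lt_pow_self (Fact.out : p.Prime).one_lt).le
    rw [pow_eq_zero_of_le hle hm, add_zero]
  exfalso
  -- a nonzero eigenvalue of `C`
  obtain ⟨c, hc, hcv⟩ : ∃ c : k, c ≠ 0 ∧ Module.End.HasEigenvalue C c := by
    by_contra hno
    simp only [not_exists, not_and] at hno
    apply hnil
    have hmonic := minpoly.monic (Algebra.IsIntegral.isIntegral (R := k) C)
    have hs : (minpoly k C).Splits := IsAlgClosed.splits _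
    have hroots : ∀ r ∈ (minpoly k C).roots, r = 0 := by
      intro r hr
      by_contra h
      exact hno r h (Module.End.hasEigenvalue_iff_isRoot.mpr (Polynomial.isRoot_of_mem_roots hr))
    have heq := hs.eq_prod_roots
    rw [hmonic.leadingCoeff, map_one, one_mul,
      Multiset.eq_replicate.mpr ⟨rfl, hroots⟩, Multiset.map_replicate, Multiset.prod_replicate,
      map_zero, sub_zero] at heq
    refine ⟨Multiset.card (minpoly k C).roots, ?_⟩
    have := minpoly.aeval k C
    rwa [heq, map_pow, Polynomial.aeval_X] at this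
  obtain ⟨v, hv⟩ := hcv.exists_hasEigenvector
  obtain ⟨w, hw0, hαw, hCw⟩ : ∃ w : V, w ≠ 0 ∧ α w = 0 ∧ C w = c • w := by
    by_cases h : α v = 0
    · exact ⟨v, hv.2, h, hv.apply_eq_smul⟩
    · refine ⟨α v, h, ?_, ?_⟩
      · rw [← Module.End.mul_apply, ha]; rfl
      · rw [← Module.End.mul_apply, hcα, Module.End.mul_apply, hv.apply_eq_smul, map_smul]
  set z := β w with hz
  have hαz : α z = c • w := by
    have : C w = α (β w) + β (α w) := rfl
    rw [hαw, map_zero, add_zero, hCw] at this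
    exact this.symm
  have hβz : β z = 0 := by rw [hz, ← Module.End.mul_apply, hb]; rfl
  have hind : ∀ x y : k, x • w + y • z = 0 → x = 0 ∧ y = 0 := by
    intro x y h
    have h1 := congrArg α h
    rw [map_add, map_smul, map_smul, hαw, hαz, smul_zero, zero_add, map_zero, smul_smul] at h1
    have hy : y = 0 := (mul_eq_zero.mp ((smul_eq_zero.mp h1).resolve_right hw0)).resolve_right hc
    rw [hy, zero_smul, add_zero] at h
    exact ⟨(smul_eq_zero.mp h).resolve_right hw0, hy⟩
  -- the action on the invariant plane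
  let R : Γ → Matrix (Fin 2) (Fin 2) k → Prop := fun g M =>
    ρ g w = M 0 0 • w + M 1 0 • z ∧ ρ g z = M 0 1 • w + M 1 1 • z
  have huniq : ∀ g M M', R g M → R g M' → M = M' := by
    intro g M M' h h'
    have e1 := hind (M 0 0 - M' 0 0) (M 1 0 - M' 1 0) (by
      rw [sub_smul, sub_smul]
      have := h.1.symm.trans h'.1
      rw [← sub_eq_zero] at this
      rw [← this]; abel)
    have e2 := hind (M 0 1 - M' 0 1) (M 1 1 - M' 1 1) (by
      rw [sub_smul, sub_smul]
      have := h.2.symm.trans h'.2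
      rw [← sub_eq_zero] at this
      rw [← this]; abel)
    ext i j
    fin_cases i <;> fin_cases j
    · exact sub_eq_zero.mp e1.1
    · exact sub_eq_zero.mp e2.1
    · exact sub_eq_zero.mp e1.2
    · exact sub_eq_zero.mp e2.2
  have hmul : ∀ g h M N, R g M → R h N → R (g * h) (M * N) := by
    intro g h M N hg hh
    constructor
    · rw [map_mul, Module.End.mul_apply, hh.1, map_add, map_smul, map_smul, hg.1, hg.2]
      simp only [Matrix.mul_apply, Fin.sum_univ_two]
      module
    · rw [map_mul, Module.End.mul_apply, hh.2, map_add, map_smul, map_smul, hg.1, hg.2]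
      simp only [Matrix.mul_apply, Fin.sum_univ_two]
      module
  have hRa : R a !![1, c; 0, 1] := by
    have e : ρ a = 1 + α := by rw [hα]; abel
    constructor <;> simp [e, hαw, hαz, add_comm]
  have hRb : R b !![1, 0; 1, 1] := by
    have e : ρ b = 1 + β := by rw [hβ]; abel
    constructor <;> simp [e, hβz, ← hz]
  have hex : ∀ g : Γ, ∃ M, R g M ∧ M.det = 1 := by
    intro g
    have hg : g ∈ Submonoid.closure ({a, b} : Set Γ) := by
      rw [← Subgroup.closure_toSubmonoid_of_finite, hgen]; exact Submonoid.mem_top g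
    induction hg using Submonoid.closure_induction with
    | mem y hy =>
      rcases hy with rfl | rfl
      · exact ⟨_, hRa, by simp [Matrix.det_fin_two]⟩
      · exact ⟨_, hRb, by simp [Matrix.det_fin_two]⟩
    | one => exact ⟨1, ⟨by simp, by simp⟩, Matrix.det_one⟩
    | mul y y' _ _ hy hy' =>
      obtain ⟨M, hM, hMd⟩ := hy
      obtain ⟨N, hN, hNd⟩ := hy'
      exact ⟨M * N, hmul _ _ _ _ hM hN, by rw [Matrix.det_mul, hMd, hNd, one_mul]⟩
  choose θ hθ hθdet using hex
  let θh : Γ →* Matrix (Fin 2) (Fin 2) k :=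
    { toFun := θ
      map_one' := huniq 1 _ _ (hθ 1) ⟨by simp, by simp⟩
      map_mul' := fun g h => huniq _ _ _ (hθ _) (hmul g h _ _ (hθ g) (hθ h)) }
  have ha' : θh a = !![1, c; 0, 1] := huniq a _ _ (hθ a) hRa
  have hb' : θh b = !![1, 0; 1, 1] := huniq b _ _ (hθ b) hRb
  let K := θh.toHomUnits.ker
  let θq : Γ ⧸ K →* Matrix (Fin 2) (Fin 2) k :=
    (Units.coeHom (Matrix (Fin 2) (Fin 2) k)).comp (QuotientGroup.kerLift θh.toHomUnits)
  refine no_transvection_pair_solvable (Γ := Γ ⧸ K) (p := p) hp2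
    (fun h3 => twoSubgroups_abelian_quotient K (h2 h3)) θq
    (Units.val_injective.comp (QuotientGroup.kerLift_injective θh.toHomUnits)) ?_
    (a := (a : Γ ⧸ K)) (b := (b : Γ ⧸ K)) hc ha' hb'
  intro g
  induction g using QuotientGroup.induction_on with
  | _ g => exact hθdet g

end CfsgLib.Complement
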