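import Cfsg.Prelude.Def_Solvable
import Cfsg.Agent.Lib.Complement.QuadPairSolvable
import Cfsg.Agent.Lib.OddLocal.Stab
import Cfsg.Agent.Lib.Solvable.HallHigman
import Cfsg.Agent.Lib.Solvable.MinNormal
import Cfsg.Agent.Lib.Coprime.Basic
import Mathlib.FieldTheory.IsAlgClosed.AlgebraicClosure
import Mathlib.LinearAlgebra.Matrix.ToLin
import Mathlib.Data.ZMod.Basic
import Mathlib.Algebra.Module.ZMod
import Mathlib.Algebra.Field.ZMod
import Mathlib.Tactic.Group
import Mathlib.LinearAlgebra.Dimension.Finite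
import Mathlib.LinearAlgebra.Basis.VectorSpace
import Mathlib.LinearAlgebra.Dimension.Free
import Mathlib.LinearAlgebra.FiniteDimensional.Basic

/-!
# Quadratic elements modulo a centralizer with trivial `O_p`
-/

set_option autoImplicit false

namespace CfsgLib.Complement

universe u
variable {H : Type u} [Group H]

/-- A quadratically acting element centralizes `M`, if `O_p(H/C(M)) = 1`, `H` solvable, `p` odd. -/
theorem quadratic_mem_centralizer_of_pCore_eq_bot [Finite H] [Group.IsSolvable H] {p : ℕ}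
    [hp : Fact p.Prime] (hp2 : p ≠ 2)
    (h2 : p = 3 → ∀ Q : Subgroup H, IsPGroup 2 Q → IsMulCommutative Q) (M : Subgroup H) [M.Normal]
    [hMc : IsMulCommutative M] (hMp : ∀ m ∈ M, m ^ p = 1)
    (hOp : Cfsg.pCore p (H ⧸ Subgroup.centralizer (M : Set H)) = ⊥) {a : H}
    (hquad : ∀ m ∈ M, a * (a * m * a⁻¹ * m⁻¹) * a⁻¹ = a * m * a⁻¹ * m⁻¹) :
    a ∈ Subgroup.centralizer (M : Set H) := by
  classical
  set C := Subgroup.centralizer (M : Set H)
  -- `a ^ p` centralizes `M`
  have hap : a ^ p ∈ C := by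
    rw [Subgroup.mem_centralizer_iff]
    intro m hm
    have hzM : a * m * a⁻¹ * m⁻¹ ∈ M := M.mul_mem (Subgroup.Normal.conj_mem inferInstance m hm a) (M.inv_mem hm)
    have hza : Commute a (a * m * a⁻¹ * m⁻¹) := mul_inv_eq_iff_eq_mul.mp (hquad m hm)
    have hi : ∀ i : ℕ, a ^ i * m * (a ^ i)⁻¹ = (a * m * a⁻¹ * m⁻¹) ^ i * m := by
      intro i
      induction i with
      | zero => simp
      | succ i ih =>
        calc a ^ (i + 1) * m * (a ^ (i + 1))⁻¹ = a * (a ^ i * m * (a ^ i)⁻¹) * a⁻¹ := by
              rw [pow_succ']; group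
          _ = (a * (a * m * a⁻¹ * m⁻¹) ^ i) * m * a⁻¹ := by rw [ih]; group
          _ = ((a * m * a⁻¹ * m⁻¹) ^ i * a) * m * a⁻¹ := by rw [(hza.pow_right i).eq]
          _ = (a * m * a⁻¹ * m⁻¹) ^ i * ((a * m * a⁻¹ * m⁻¹) * m) := by group
          _ = _ := by rw [pow_succ]; simp only [mul_assoc]
    have := hi p
    rw [hMp _ hzM, one_mul] at this
    exact (mul_inv_eq_iff_eq_mul.mp this).symm
  -- the faithful action of `H ⧸ C`
  let φ : H ⧸ C →* MulAut M := QuotientGroup.lift C (MulAut.conjNormal (H := M)) fun c hc => by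
    refine MonoidHom.mem_ker.mpr (MulEquiv.ext fun m => Subtype.ext ?_)
    rw [MulAut.conjNormal_apply, MulAut.one_apply, ← Subgroup.mem_centralizer_iff.mp hc m m.2,
      mul_inv_cancel_right]
  have hφ : ∀ g : H, ∀ m : M, (φ (g : H ⧸ C) m : H) = g * m * g⁻¹ := fun g m => by
    show ((MulAut.conjNormal (H := M) g) m : H) = _
    rw [MulAut.conjNormal_apply]
  -- the Fitting subgroup is a `p'`-group
  set F := Cfsg.fittingSubgroup (H ⧸ C)
  have hF : ¬ p ∣ Nat.card F := by
    have hnil := CfsgLib.Solvable.fittingSubgroup_isNilpotent (G := H ⧸ C)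
    have := CfsgLib.Solvable.fittingSubgroup_normal (H ⧸ C)
    have h := CfsgLib.Solvable.map_pCore_le p F
    rw [hOp, le_bot_iff, Subgroup.map_eq_bot_iff_of_injective _ F.subtype_injective] at h
    have h2 := CfsgLib.Solvable.isNilpotent_iff_pCore_index.mp hnil p hp.out
    rwa [h, Subgroup.index_bot] at h2
  have hFn := CfsgLib.Solvable.fittingSubgroup_normal (H ⧸ C)
  have hcop : ∀ g ∈ F, ∀ N : ℕ, g ^ p ^ N = 1 → g = 1 := fun g hg N h => by
    rw [← orderOf_eq_one_iff]
    exact Nat.eq_one_of_dvd_coprimes (Nat.Coprime.pow_left N (hp.out.coprime_iff_not_dvd.mpr hF))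
      (orderOf_dvd_of_pow_eq_one h) (Subgroup.orderOf_dvd_natCard F hg)
  rw [← QuotientGroup.eq_one_iff]
  by_contra hne
  obtain ⟨x, hxF, hxa⟩ : ∃ x : H, (x : H ⧸ C) ∈ F ∧ (x : H ⧸ C) * a ≠ a * (x : H ⧸ C) := by
    by_contra h
    simp only [not_exists, not_and, not_not] at h
    apply hne
    refine hcop _ (CfsgLib.Solvable.centralizer_fittingSubgroup_le (Subgroup.mem_centralizer_iff.mpr ?_)) 1 ?_
    · intro y hy
      induction y using QuotientGroup.induction_on with
      | _ y => exact h y hy
    · rw [pow_one, ← QuotientGroup.mk_pow, QuotientGroup.eq_one_iff]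
      exact hap
  -- linearize
  let _ : AddCommGroup (Additive M) :=
    { (inferInstance : AddGroup (Additive M)) with add_comm := fun a b => hMc.is_comm.comm (Additive.toMul a) (Additive.toMul b) }
  have : Module (ZMod p) (Additive M) := AddCommGroup.zmodModule fun v => by
    apply Additive.toMul.injective
    rw [toMul_nsmul, toMul_zero]
    exact Subtype.ext (by simpa using hMp _ (Additive.toMul v).2)
  let cj : H → (Additive M →+ Additive M) := fun g =>
    { toFun := fun v => Additive.ofMul (MulAut.conjNormal (H := M) g (Additive.toMul v))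
      map_zero' := by rw [toMul_zero, map_one, ofMul_one]
      map_add' := fun v w => by rw [toMul_add, map_mul, ofMul_mul] }
  let ρ₀ : H →* Module.End (ZMod p) (Additive M) :=
    { toFun := fun g => { cj g with map_smul' := ZMod.map_smul (cj g) }
      map_one' := by
        refine LinearMap.ext fun v => ?_
        show (cj 1) v = _
        rw [Module.End.one_apply]
        apply Additive.toMul.injective
        refine Subtype.ext ?_
        show ((MulAut.conjNormal (H := M) 1 (Additive.toMul v) : M) : H) = ((Additive.toMul v : M) : H)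
        rw [MulAut.conjNormal_apply, one_mul, inv_one, mul_one]
      map_mul' := fun g h => by
        refine LinearMap.ext fun v => ?_
        apply Additive.toMul.injective
        refine Subtype.ext ?_
        show ((MulAut.conjNormal (H := M) (g * h) (Additive.toMul v) : M) : H)
          = ((MulAut.conjNormal (H := M) g (MulAut.conjNormal (H := M) h (Additive.toMul v)) : M) : H)
        rw [MulAut.conjNormal_apply, MulAut.conjNormal_apply, MulAut.conjNormal_apply]
        group }
  let k := AlgebraicClosure (ZMod p)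
  have : Module.Finite (ZMod p) (Additive M) := Module.Finite.of_finite
  let bas := Module.finBasis (ZMod p) (Additive M)
  let e₁ : Module.End (ZMod p) (Additive M) →+*
      Matrix (Fin (Module.finrank (ZMod p) (Additive M))) (Fin (Module.finrank (ZMod p) (Additive M))) (ZMod p) :=
    (LinearMap.toMatrixAlgEquiv bas).toAlgHom.toRingHom
  let e₃ : Matrix (Fin (Module.finrank (ZMod p) (Additive M))) (Fin (Module.finrank (ZMod p) (Additive M))) k →+*
      Module.End k (Fin (Module.finrank (ZMod p) (Additive M)) → k) :=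
    (Matrix.toLinAlgEquiv' (R := k)).toAlgHom.toRingHom
  let E := e₃.comp (((algebraMap (ZMod p) k).mapMatrix).comp e₁)
  have hE : Function.Injective E := by
    intro A B h
    exact (LinearMap.toMatrixAlgEquiv bas).injective
      (Matrix.map_injective (algebraMap (ZMod p) k).injective
        ((Matrix.toLinAlgEquiv' (R := k)).injective h))
  let ρ : H →* Module.End k (Fin (Module.finrank (ZMod p) (Additive M)) → k) := E.toMonoidHom.comp ρ₀
  have hρker : ∀ g : H, ρ g = 1 → g ∈ C := fun g hg => by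
    have h1 : ρ₀ g = 1 := hE (by rw [map_one]; exact hg)
    rw [Subgroup.mem_centralizer_iff]
    intro m hm
    have := congrArg (fun f : Module.End (ZMod p) (Additive M) => ((Additive.toMul (f (Additive.ofMul ⟨m, hm⟩)) : M) : H)) h1
    change ((MulAut.conjNormal (H := M) g ⟨m, hm⟩ : M) : H) = m at this
    rw [MulAut.conjNormal_apply] at this
    exact (mul_inv_eq_iff_eq_mul.mp this).symm
  have hq : (ρ a - 1) * (ρ a - 1) = 0 := by
    have h1 : (ρ₀ a - (1 : Module.End (ZMod p) (Additive M))) * (ρ₀ a - (1 : Module.End (ZMod p) (Additive M))) = 0 := by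
      refine LinearMap.ext fun v => ?_
      show ρ₀ a (ρ₀ a v - v) - (ρ₀ a v - v) = 0
      rw [sub_eq_zero]
      apply Additive.toMul.injective
      refine Subtype.ext ?_
      show ((MulAut.conjNormal (H := M) a
          ((MulAut.conjNormal (H := M) a (Additive.toMul v)) / Additive.toMul v) : M) : H)
        = (((MulAut.conjNormal (H := M) a (Additive.toMul v)) / Additive.toMul v : M) : H)
      rw [MulAut.conjNormal_apply, Subgroup.coe_div, MulAut.conjNormal_apply, div_eq_mul_inv]
      exact hquad _ (Additive.toMul v).2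
    show (E (ρ₀ a) - 1) * (E (ρ₀ a) - 1) = 0
    rw [← map_one E, ← map_sub, ← map_mul, h1, map_zero]
  set b := x * a * x⁻¹
  have hqb : (ρ b - 1) * (ρ b - 1) = 0 := by
    have e : ρ b - 1 = ρ x * (ρ a - 1) * ρ x⁻¹ := by
      rw [mul_sub, sub_mul, mul_one, ← map_mul, ← map_mul, ← map_mul, mul_inv_cancel, map_one]
    rw [e]
    calc ρ x * (ρ a - 1) * ρ x⁻¹ * (ρ x * (ρ a - 1) * ρ x⁻¹)
        = ρ x * (ρ a - 1) * (ρ x⁻¹ * ρ x) * (ρ a - 1) * ρ x⁻¹ := by simp only [mul_assoc]
      _ = ρ x * ((ρ a - 1) * (ρ a - 1)) * ρ x⁻¹ := by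
        rw [← map_mul, inv_mul_cancel, map_one, mul_one, mul_assoc (ρ x)]
      _ = 0 := by rw [hq, mul_zero, zero_mul]
  let J : Subgroup H := Subgroup.closure {a, b}
  let aJ : J := ⟨a, Subgroup.subset_closure (Set.mem_insert _ _)⟩
  let bJ : J := ⟨b, Subgroup.subset_closure (Set.mem_insert_of_mem _ rfl)⟩
  have hgen : Subgroup.closure ({aJ, bJ} : Set J) = ⊤ := by
    apply Subgroup.map_injective J.subtype_injective
    rw [MonoidHom.map_closure, Set.image_pair, ← MonoidHom.range_eq_map, Subgroup.range_subtype]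
    rfl
  have hJ2 : p = 3 → ∀ Q : Subgroup J, IsPGroup 2 Q → IsMulCommutative Q := by
    intro h3 Q hQ
    rw [isMulCommutative_iff]
    intro u v
    have h := (h2 h3 (Q.map J.subtype) (hQ.map J.subtype)).is_comm.comm
      ⟨_, Subgroup.mem_map_of_mem J.subtype u.2⟩ ⟨_, Subgroup.mem_map_of_mem J.subtype v.2⟩
    exact Subtype.ext (Subtype.ext (congrArg Subtype.val h :))
  obtain ⟨N, hN⟩ := quadratic_pair_unipotent_solvable (p := p) hp2 hJ2
    (ρ.comp J.subtype) hgen hq hqb
  have h1 : ((a * b⁻¹ : H) : H ⧸ C) ^ p ^ N = 1 := by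
    rw [← QuotientGroup.mk_pow, QuotientGroup.eq_one_iff]
    refine hρker _ ?_
    rw [map_pow]
    exact hN
  have hz : ((a * b⁻¹ : H) : H ⧸ C) ∈ F := by
    have e : a * b⁻¹ = (a * x * a⁻¹) * x⁻¹ := by simp only [b]; group
    rw [e, QuotientGroup.mk_mul, QuotientGroup.mk_inv]
    exact F.mul_mem (by rw [QuotientGroup.mk_mul, QuotientGroup.mk_mul, QuotientGroup.mk_inv]
                        exact hFn.conj_mem _ hxF _) (F.inv_mem hxF)
  have h2 := hcop _ hz N h1
  apply hxa
  have e : a * b⁻¹ = (a * x) * (a⁻¹ * x⁻¹) := by simp only [b]; group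
  rw [e, QuotientGroup.mk_mul, QuotientGroup.mk_mul, QuotientGroup.mk_mul, QuotientGroup.mk_inv,
    QuotientGroup.mk_inv] at h2
  calc (x : H ⧸ C) * a = 1 * ((x : H ⧸ C) * a) := (one_mul _).symm
    _ = a * x := by rw [← h2]; group

end CfsgLib.Complement
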