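import Cfsg.Agent.Lib.Transfer.Frobenius
import Cfsg.Agent.Lib.Coprime.Sylow
import Cfsg.Agent.Lib.Solvable.PCore
import Cfsg.Agent.Lib.Solvable.MinNormal
import Cfsg.Agent.Lib.PLocal.QuotientCoprime

/-!
# The minimal counterexample to a local normal `p`-complement criterion
-/

set_option autoImplicit false

namespace CfsgLib.Complement

open Subgroup

universe u

/-- A rule attaching to a subgroup `S` a nontrivial subgroup `core S` and a local subgroup
`loc S ≤ N(core S)`, naturally in injective maps and in quotients by `p'`-groups. -/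
structure LocalFunctor (p : ℕ) where
  core : ∀ {G : Type u} [Group G], Subgroup G → Subgroup G
  loc : ∀ {G : Type u} [Group G], Subgroup G → Subgroup G
  core_le : ∀ {G : Type u} [Group G] (S : Subgroup G), core S ≤ S
  core_ne_bot : ∀ {G : Type u} [Group G] [Finite G] (S : Subgroup G), IsPGroup p S → S ≠ ⊥ →
    core S ≠ ⊥
  normalizer_le : ∀ {G : Type u} [Group G] (S : Subgroup G),
    normalizer (S : Set G) ≤ normalizer (core S : Set G)
  loc_le : ∀ {G : Type u} [Group G] (S : Subgroup G), loc S ≤ normalizer (core S : Set G)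
  le_loc : ∀ {G : Type u} [Group G] (S : Subgroup G), S ≤ loc S
  loc_comap : ∀ {G H : Type u} [Group G] [Group H] (f : H →* G), Function.Injective f →
    ∀ S : Subgroup H, loc S = (loc (S.map f)).comap f
  loc_map : ∀ {G : Type u} [Group G] [Finite G] (O : Subgroup G) [O.Normal],
    (Nat.card O).Coprime p → ∀ S : Subgroup G, IsPGroup p S →
      loc (S.map (QuotientGroup.mk' O)) ≤ (loc S).map (QuotientGroup.mk' O)

variable {p : ℕ} [hp : Fact p.Prime]

/-- The structure of a minimal counterexample. -/
structure MinimalFailure {ι : Type*} (F : ι → LocalFunctor.{u} p) {G : Type u} [Group G]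
    (P : Sylow p G) (U M : Subgroup G) (m : ℕ) : Prop where
  not_complement : ¬ Cfsg.HasNormalPComplement p G
  local_complement : ∀ j, Cfsg.HasNormalPComplement p ((F j).loc (P : Subgroup G))
  normal_U : U.Normal
  isPGroup_U : IsPGroup p U
  U_le : U ≤ (P : Subgroup G)
  U_max : ∀ V : Subgroup G, V.Normal → IsPGroup p V → V ≤ U
  centralizer_le : centralizer (U : Set G) ≤ U
  sylow_maximal : ∀ Y : Subgroup G, (P : Subgroup G) ≤ Y → Y = (P : Subgroup G) ∨ Y = ⊤
  loc_eq : ∀ j, (F j).loc (P : Subgroup G) = (P : Subgroup G)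
  normal_M : M.Normal
  U_le_M : U ≤ M
  sup_eq : (P : Subgroup G) ⊔ M = ⊤
  commutator_M : ∀ x ∈ M, ∀ y ∈ M, x * y * x⁻¹ * y⁻¹ ∈ U
  coprime_m : m.Coprime p
  pow_m : ∀ x ∈ M, x ^ m ∈ U
  faithful : ∀ a ∈ (P : Subgroup G), (∀ k ∈ M, a * k * a⁻¹ * k⁻¹ ∈ U) → a ∈ U

variable {G : Type u} [Group G] [Finite G]

theorem loc_complement_of_sylow {ι : Type*} {F : ι → LocalFunctor.{u} p}
    {P : Sylow p G} (h : ∀ j, Cfsg.HasNormalPComplement p ((F j).loc (P : Subgroup G)))
    (Q : Sylow p G) (j : ι) : Cfsg.HasNormalPComplement p ((F j).loc (Q : Subgroup G)) := by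
  obtain ⟨g, rfl⟩ := MulAction.exists_smul_eq G P Q
  have he := (F j).loc_comap (G := G) (MulAut.conj g⁻¹).toMonoidHom (MulAut.conj g⁻¹).injective
    ((g • P : Sylow p G) : Subgroup G)
  have hmap : ((g • P : Sylow p G) : Subgroup G).map (MulAut.conj g⁻¹).toMonoidHom =
      (P : Subgroup G) := by
    ext x
    rw [mem_map]
    constructor
    · rintro ⟨y, hy, rfl⟩
      rw [Sylow.coe_subgroup_smul, mem_pointwise_smul_iff_inv_smul_mem] at hy
      simpa using hy
    · intro hx
      refine ⟨g * x * g⁻¹, ?_, by simp [mul_assoc]⟩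
      rw [Sylow.coe_subgroup_smul, mem_pointwise_smul_iff_inv_smul_mem]
      simpa [mul_assoc] using hx
  rw [hmap] at he
  rw [he]
  exact Transfer.hasNormalPComplement_of_injective
    ((MulAut.conj g⁻¹).toMonoidHom.subgroupComap ((F j).loc (P : Subgroup G)))
    (fun a b h => Subtype.ext ((MulAut.conj g⁻¹).injective (congrArg Subtype.val h)))
    (h j)

omit [Finite G] in
theorem loc_complement_of_map {H : Type u} [Group H] [Finite H] [Finite G] (F : LocalFunctor.{u} p)
    (f : H →* G) (hf : Function.Injective f) {S : Subgroup H}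
    (h : Cfsg.HasNormalPComplement p (F.loc (S.map f))) :
    Cfsg.HasNormalPComplement p (F.loc S) := by
  rw [F.loc_comap f hf S]
  exact Transfer.hasNormalPComplement_of_injective (f.subgroupComap _)
    (fun a b he => Subtype.ext (hf (congrArg Subtype.val he))) h

theorem hasNormalPComplement_of_quotient (O : Subgroup G) [O.Normal]
    (hO : (Nat.card O).Coprime p) (h : Cfsg.HasNormalPComplement p (G ⧸ O)) :
    Cfsg.HasNormalPComplement p G := by
  obtain ⟨N, hN, hc, hq⟩ := Transfer.hasNormalPComplement_iff_exists.1 h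
  refine Transfer.hasNormalPComplement_iff_exists.2 ⟨N.comap (QuotientGroup.mk' O), inferInstance, ?_, ?_⟩
  · rw [Solvable.card_comap_mk']
    first | exact Nat.Coprime.mul_left hc hO | exact Nat.Coprime.mul_left hO hc
  · refine IsPGroup.iff_card.mpr ?_
    rw [← index_eq_card, index_comap_of_surjective _ (QuotientGroup.mk'_surjective O), index_eq_card]
    exact IsPGroup.iff_card.mp hq

theorem card_le_ordProj {V N : Subgroup G} (hV : IsPGroup p V) (hle : V ≤ N) :
    Nat.card V ≤ p ^ (Nat.card N).factorization p := by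
  obtain ⟨n, hn⟩ := IsPGroup.iff_card.mp hV
  rw [hn]
  refine Nat.pow_le_pow_right hp.out.pos ?_
  exact (hp.out.pow_dvd_iff_le_factorization Nat.card_pos.ne').mp (hn ▸ card_dvd_of_le hle)

/-- A local normal `p`-complement criterion holds once it holds in minimal counterexamples, relative
to a property of groups inherited by subgroups and quotients. -/
theorem hasNormalPComplement_of_local_hered {ι : Type*} (F : ι → LocalFunctor.{u} p) (j₀ : ι)
    (hj₀ : ∀ {G : Type u} [Group G] (S : Subgroup G),
      (F j₀).loc S = normalizer ((F j₀).core S : Set G))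
    (Pr : ∀ (G : Type u) [Group G], Prop)
    (hsub : ∀ {G : Type u} [Group G] (H : Subgroup G), Pr G → Pr H)
    (hquo : ∀ {G : Type u} [Group G] (N : Subgroup G) [N.Normal], Pr G → Pr (G ⧸ N))
    (hcore : ∀ (G : Type u) [Group G] [Finite G] (P : Sylow p G) (U M : Subgroup G) (m : ℕ),
      Pr G → MinimalFailure F P U M m → False) :
    ∀ (G : Type u) [Group G] [Finite G] (P : Sylow p G), Pr G →
      (∀ j, Cfsg.HasNormalPComplement p ((F j).loc (P : Subgroup G))) →
      Cfsg.HasNormalPComplement p G := by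
  suffices key : ∀ (n : ℕ) (G : Type u) [Group G] [Finite G], Nat.card G = n → Pr G →
      ∀ P : Sylow p G, (∀ j, Cfsg.HasNormalPComplement p ((F j).loc (P : Subgroup G))) →
      Cfsg.HasNormalPComplement p G from fun G _ _ P hPr h => key _ G rfl hPr P h
  intro n
  induction n using Nat.strong_induction_on with
  | _ n ih =>
  intro G _ _ hn hPr P hP
  subst hn
  by_contra hnc
  classical
  have hall := loc_complement_of_sylow hP
  -- no normal `p'`-subgroup
  have hO : ∀ O : Subgroup G, O.Normal → (Nat.card O).Coprime p → O = ⊥ := by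
    intro O hOn hOp
    by_contra hne
    let Q : Sylow p (G ⧸ O) := P.mapSurjective (QuotientGroup.mk'_surjective O)
    refine hnc (hasNormalPComplement_of_quotient O hOp
      (ih _ (Solvable.card_quotient_lt hne) (G ⧸ O) rfl (hquo O hPr) Q fun j => ?_))
    have hle : (F j).loc (Q : Subgroup (G ⧸ O)) ≤
        ((F j).loc (P : Subgroup G)).map (QuotientGroup.mk' O) := (F j).loc_map O hOp _ P.2
    exact Transfer.hasNormalPComplement_of_injective (Subgroup.inclusion hle)
      (Subgroup.inclusion_injective hle)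
      (Transfer.hasNormalPComplement_of_surjective ((QuotientGroup.mk' O).subgroupMap _)
        ((QuotientGroup.mk' O).subgroupMap_surjective _) (hP j))
  -- the bad `p`-subgroup
  let a : Subgroup G → ℕ := fun D => p ^ (Nat.card (normalizer (D : Set G))).factorization p
  let key : Subgroup G → ℕ := fun D => a D * (Nat.card G + 1) + Nat.card D
  let Bad : Set (Subgroup G) :=
    {D | IsPGroup p D ∧ D ≠ ⊥ ∧ ¬ Cfsg.HasNormalPComplement p (normalizer (D : Set G))}
  have hBad : Bad.Nonempty := by
    by_contra hne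
    refine hnc (Transfer.hasNormalPComplement_iff_frobenius.2 fun D hD g hg hgp => ?_)
    rcases eq_or_ne D ⊥ with rfl | hD1
    · rw [mem_centralizer_iff]
      intro d hd
      rw [show d = 1 from hd]; simp
    · by_contra hgc
      exact hne ⟨D, hD, hD1, fun h =>
        hgc (Transfer.mem_centralizer_of_hasNormalPComplement hD h hg hgp)⟩
  obtain ⟨U, ⟨hUp, hU1, hUnc⟩, hUmax⟩ := Set.exists_max_image Bad key (Set.toFinite _) hBad
  have hgood : ∀ D : Subgroup G, IsPGroup p D → D ≠ ⊥ → key U < key D →
      Cfsg.HasNormalPComplement p (normalizer (D : Set G)) := fun D hD hD1 hlt => by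
    by_contra h
    exact absurd (hUmax D ⟨hD, hD1, h⟩) (not_le.mpr hlt)
  have hkey : ∀ D : Subgroup G, (a U < a D ∨ a U = a D ∧ Nat.card U < Nat.card D) → key U < key D := by
    intro D h
    have hU := Nat.card_le_card_of_injective _ (U.subtype_injective)
    rcases h with h | ⟨h1, h2⟩
    · have : (a U + 1) * (Nat.card G + 1) ≤ a D * (Nat.card G + 1) := Nat.mul_le_mul_right _ h
      simp only [key]
      rw [add_mul, one_mul] at this
      omega
    · simp only [key, h1]
      omega
  -- its normalizer is everything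
  have hUn : normalizer (U : Set G) = ⊤ := by
    set N := normalizer (U : Set G) with hN
    by_contra hNtop
    obtain ⟨S⟩ := (inferInstance : Nonempty (Sylow p N))
    have hS' : IsPGroup p ((S : Subgroup N).map N.subtype) := S.2.map N.subtype
    set S' := (S : Subgroup N).map N.subtype with hS'def
    obtain ⟨Q, hQ⟩ := hS'.exists_le_sylow
    have hlt : Nat.card N < Nat.card G := by
      refine lt_of_le_of_ne (Nat.card_le_card_of_injective _ N.subtype_injective) fun h => hNtop ?_
      exact eq_top_of_card_eq _ h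
    refine hUnc (ih _ hlt N rfl (hsub N hPr) S fun j => loc_complement_of_map (F j) N.subtype N.subtype_injective ?_)
    rw [← hS'def]
    rcases hQ.eq_or_lt with h | h
    · rw [h]; exact hall Q j
    · have hS1 : S' ≠ ⊥ := by
        intro hbot
        have hle : U.subgroupOf N ≤ (S : Subgroup N) := by
          have hn' : (U.subgroupOf N).Normal := normal_in_normalizer
          exact Solvable.normal_pgroup_le_sylow (N := U.subgroupOf N) hUp.comap_subtype S
        have := Subgroup.map_mono (f := N.subtype) hle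
        rw [subgroupOf_map_subtype, inf_eq_left.mpr le_normalizer, ← hS'def, hbot] at this
        exact hU1 (le_bot_iff.mp this)
      set D := (F j).core S'
      obtain ⟨g, hgQ, hgn, hgS⟩ : ∃ g, g ∈ (Q : Subgroup G) ∧ g ∈ normalizer (S' : Set G) ∧ g ∉ S' := by
        obtain ⟨g, h1, h2, h3⟩ := Transfer.exists_mem_normalizer_not_mem Q.2 h
        exact ⟨g, h1, h2, h3⟩
      have hV : S' < (Q : Subgroup G) ⊓ normalizer (S' : Set G) :=
        lt_of_le_of_ne (le_inf hQ le_normalizer) fun he => hgS (he ▸ ⟨hgQ, hgn⟩)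
      have haD : a U < a D := by
        calc a U = Nat.card (S : Subgroup N) := (S.card_eq_multiplicity).symm
          _ = Nat.card S' := (card_map_of_injective N.subtype_injective).symm
          _ < Nat.card ((Q : Subgroup G) ⊓ normalizer (S' : Set G) : Subgroup G) :=
              lt_of_le_of_ne (card_le_of_le hV.le) fun he => hV.ne (eq_of_le_of_card_ge hV.le he.ge)
          _ ≤ a D := card_le_ordProj (Q.2.to_le inf_le_left)
              (inf_le_right.trans ((F j).normalizer_le S'))
      have hD := hgood D (hS'.to_le ((F j).core_le S')) ((F j).core_ne_bot S' hS' hS1)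
        (hkey D (Or.inl haD))
      exact Transfer.hasNormalPComplement_of_injective (Subgroup.inclusion ((F j).loc_le S'))
        (Subgroup.inclusion_injective _) hD
  have hUnorm : U.Normal := normalizer_eq_top_iff.mp hUn
  have haU : a U = Nat.card (P : Subgroup G) := by
    simp only [a]
    rw [hUn, card_top, P.card_eq_multiplicity]
  have hbig : ∀ V : Subgroup G, IsPGroup p V → U < V → (P : Subgroup G) ≤ normalizer (V : Set G) →
      Cfsg.HasNormalPComplement p (normalizer (V : Set G)) := by
    intro V hV hUV hPV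
    have hcard : Nat.card U < Nat.card V :=
      lt_of_le_of_ne (card_le_of_le hUV.le) fun e => hUV.ne (eq_of_le_of_card_ge hUV.le e.ge)
    refine hgood V hV (fun e => not_lt_bot (e ▸ hUV)) (hkey V ?_)
    rcases (haU ▸ card_le_ordProj P.2 hPV : a U ≤ a V).lt_or_eq with h | h
    · exact Or.inl h
    · exact Or.inr ⟨h, hcard⟩
  have hUmax' : ∀ V : Subgroup G, V.Normal → IsPGroup p V → V ≤ U := by
    intro V hVn hV
    by_contra hle
    have hlt : U < U ⊔ V := lt_of_le_of_ne le_sup_left fun e => hle (e ▸ le_sup_right)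
    have hn : normalizer ((U ⊔ V : Subgroup G) : Set G) = ⊤ :=
      normalizer_eq_top_iff.mpr inferInstance
    have h := hbig (U ⊔ V) (hUp.to_sup_of_normal_right hV) hlt (hn ▸ le_top)
    rw [hn] at h
    exact hnc (Transfer.hasNormalPComplement_of_injective (topEquiv (G := G)).symm.toMonoidHom
      topEquiv.symm.injective h)
  have hUP : U ≤ (P : Subgroup G) := Solvable.normal_pgroup_le_sylow hUp P
  have hPU : (P : Subgroup G) ≠ U := by
    intro h
    have hD : normalizer ((F j₀).core (P : Subgroup G) : Set G) = ⊤ :=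
      top_le_iff.mp (le_trans (normalizer_eq_top_iff.mpr (h ▸ hUnorm)).ge ((F j₀).normalizer_le _))
    have h1 := hP j₀
    rw [hj₀, hD] at h1
    exact hnc (Transfer.hasNormalPComplement_of_injective (topEquiv (G := G)).symm.toMonoidHom
      topEquiv.symm.injective h1)
  -- the quotient by `U`
  let f := QuotientGroup.mk' U
  have hf : Function.Surjective f := QuotientGroup.mk'_surjective U
  let Pb : Sylow p (G ⧸ U) := P.mapSurjective hf
  have hPbc : (Pb : Subgroup (G ⧸ U)).comap f = (P : Subgroup G) := by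
    show ((P : Subgroup G).map f).comap f = _
    rw [comap_map_eq, QuotientGroup.ker_mk', sup_eq_left.mpr hUP]
  have hPb1 : (Pb : Subgroup (G ⧸ U)) ≠ ⊥ := fun h => hPU (by
    rw [← hPbc, h, MonoidHom.comap_bot, QuotientGroup.ker_mk'])
  have hquot : Cfsg.HasNormalPComplement p (G ⧸ U) := by
    refine ih _ (Solvable.card_quotient_lt hU1) (G ⧸ U) rfl (hquo U hPr) Pb fun j => ?_
    set Kb := (F j).core (Pb : Subgroup (G ⧸ U)) with hKb
    have hKbp : IsPGroup p Kb := Pb.2.to_le ((F j).core_le _)
    set K := Kb.comap f with hKdef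
    have hKp : IsPGroup p K := hKbp.comap_of_ker_isPGroup f (by rwa [QuotientGroup.ker_mk'])
    have hUK : U < K := by
      have hle : U ≤ K := fun x hx => by
        rw [hKdef, mem_comap, show f x = 1 from (QuotientGroup.eq_one_iff x).mpr hx]
        exact one_mem _
      refine lt_of_le_of_ne hle fun e => (F j).core_ne_bot _ Pb.2 hPb1 ?_
      have h' := congrArg (Subgroup.map f) e
      rw [hKdef, map_comap_eq_self_of_surjective hf] at h'
      rw [← hKb, ← h', Subgroup.map_eq_bot_iff, QuotientGroup.ker_mk']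
    have hloc : ((F j).loc (Pb : Subgroup (G ⧸ U))).comap f ≤ normalizer (K : Set G) := by
      intro x hx
      have h1 := (F j).loc_le _ hx
      rw [mem_normalizer_iff]
      intro y
      rw [hKdef, mem_comap, mem_comap, map_mul, map_mul, map_inv]
      exact mem_normalizer_iff.mp h1 (f y)
    have hPK : (P : Subgroup G) ≤ normalizer (K : Set G) := by
      refine le_trans ?_ hloc
      rw [← hPbc]
      exact comap_mono ((F j).le_loc _)
    have h := Transfer.hasNormalPComplement_of_injective (Subgroup.inclusion hloc)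
      (Subgroup.inclusion_injective _) (hbig K hKp hUK hPK)
    exact Transfer.hasNormalPComplement_of_surjective (f.subgroupComap _)
      (fun y => by
        obtain ⟨x, hx⟩ := hf y.1
        exact ⟨⟨x, show f x ∈ _ from hx ▸ y.2⟩, Subtype.ext hx⟩) h
  obtain ⟨Kb, hKbn, hKbc, hKbq⟩ := Transfer.hasNormalPComplement_iff_exists.1 hquot
  have hPKb : (Pb : Subgroup (G ⧸ U)) ⊔ Kb = ⊤ := by
    obtain ⟨e, he⟩ := IsPGroup.iff_card.mp hKbq
    rw [← index_eq_card] at he
    rw [sup_comm]
    exact Transfer.sup_sylow_eq_top Pb he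
  set M := Kb.comap f with hM
  have hUM : U ≤ M := fun x hx => by
    rw [hM, mem_comap, show f x = 1 from (QuotientGroup.eq_one_iff x).mpr hx]
    exact one_mem _
  have hMsup : (P : Subgroup G) ⊔ M = ⊤ := by
    rw [← hPbc, hM, comap_sup_eq f _ _ hf, hPKb, comap_top]
  -- `C(U) ≤ U`
  have hC : centralizer (U : Set G) ≤ U := by
    set C := centralizer (U : Set G) with hCdef
    have hCn : C.Normal := inferInstance
    set CM := C ⊓ M with hCM
    have hCMn : CM.Normal := inferInstance
    obtain ⟨S⟩ := (inferInstance : Nonempty (Sylow p CM))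
    have hSU : (S : Subgroup CM).map CM.subtype ≤ U := by
      rintro x ⟨y, hy, rfl⟩
      obtain ⟨k, hk⟩ := IsPGroup.iff_orderOf.mp S.2 ⟨y, hy⟩
      rw [Subgroup.orderOf_mk] at hk
      have h1 : f (y : G) ∈ Kb := y.2.2
      have h2 : orderOf (f (y : G)) ∣ p ^ k := hk ▸
        (orderOf_map_dvd f (y : G)).trans (Subgroup.orderOf_coe y).dvd
      have h3 : orderOf (f (y : G)) = 1 := Nat.eq_one_of_dvd_coprimes
        (hKbc.pow_right k) (Kb.orderOf_dvd_natCard h1) h2
      exact (QuotientGroup.eq_one_iff _).mp (orderOf_eq_one_iff.mp h3)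
    have hScen : (normalizer ((S : Subgroup CM) : Set CM)) ≤
        centralizer ((S : Subgroup CM) : Set CM) := by
      intro g _
      rw [mem_centralizer_iff]
      intro s hs
      exact Subtype.ext (mem_centralizer_iff.mp g.2.1 s (hSU ⟨s, hs, rfl⟩))
    have hCMnpc := Transfer.hasNormalPComplement_of_normalizer_le_centralizer S hScen
    have hres : Cfsg.pResidual p CM = ⊥ := by
      have := Transfer.pResidual_characteristic (G := CM) (p := p)
      have hmn : ((Cfsg.pResidual p CM).map CM.subtype).Normal := inferInstance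
      have hc := Transfer.hasNormalPComplement_iff_coprime_pResidual.1 hCMnpc
      rw [← card_map_of_injective CM.subtype_injective] at hc
      rw [← map_eq_bot_iff_of_injective _ CM.subtype_injective]
      exact hO _ hmn hc
    -- every `p'`-element of `C` is trivial
    refine hUmax' C hCn fun g => ?_
    obtain ⟨g, hg⟩ := g
    refine ⟨(orderOf g).factorization p, Subtype.ext ?_⟩
    show g ^ _ = (1 : G)
    set x := g ^ p ^ (orderOf g).factorization p
    have hx : (orderOf x).Coprime p := by
      rw [orderOf_pow' g (pow_ne_zero _ hp.out.ne_zero),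
        Nat.gcd_eq_right (Nat.ordProj_dvd (orderOf g) p)]
      exact (Nat.coprime_ordCompl hp.out (orderOf_pos g).ne').symm
    have hxM : x ∈ M := by
      rw [hM, mem_comap, ← QuotientGroup.eq_one_iff (N := Kb)]
      obtain ⟨k, hk⟩ := IsPGroup.iff_orderOf.mp hKbq (QuotientGroup.mk' Kb (f x))
      have h2 : orderOf (QuotientGroup.mk' Kb (f x)) ∣ orderOf x :=
        (orderOf_map_dvd _ _).trans (orderOf_map_dvd f x)
      exact orderOf_eq_one_iff.mp (Nat.eq_one_of_dvd_coprimes (hx.pow_right k) h2 hk.dvd)
    have h1 := Transfer.mem_pResidual_of_coprime (p := p)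
      (g := (⟨x, mem_inf.mpr ⟨C.pow_mem hg _, hxM⟩⟩ : CM)) (by rwa [← Subgroup.orderOf_coe])
    rw [hres, mem_bot] at h1
    exact congrArg Subtype.val h1
  -- subgroups above `P`
  have hmaxP : ∀ Y : Subgroup G, (P : Subgroup G) ≤ Y → Y = (P : Subgroup G) ∨ Y = ⊤ := by
    intro Y hPY
    by_contra hcon
    push Not at hcon
    have hlt : Nat.card Y < Nat.card G :=
      lt_of_le_of_ne (Nat.card_le_card_of_injective _ Y.subtype_injective)
        fun h => hcon.2 (eq_top_of_card_eq _ h)
    let PY : Sylow p Y := P.subtype hPY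
    have hY := ih _ hlt Y rfl (hsub Y hPr) PY fun j => loc_complement_of_map (F j) Y.subtype Y.subtype_injective (by
      rw [show (PY : Subgroup Y).map Y.subtype = (P : Subgroup G) by
        show ((P : Subgroup G).subgroupOf Y).map Y.subtype = _
        rw [subgroupOf_map_subtype, inf_eq_left.mpr hPY]]
      exact hP j)
    refine hcon.1 (le_antisymm ?_ hPY)
    have hYp : IsPGroup p Y := by
      intro g
      refine ⟨(orderOf g).factorization p, ?_⟩
      set x := g ^ p ^ (orderOf g).factorization p
      have hx : (orderOf x).Coprime p := by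
        rw [orderOf_pow' g (pow_ne_zero _ hp.out.ne_zero),
          Nat.gcd_eq_right (Nat.ordProj_dvd (orderOf g) p)]
        exact (Nat.coprime_ordCompl hp.out (orderOf_pos g).ne').symm
      have hUY : U ≤ Y := hUP.trans hPY
      have hnn : (U.subgroupOf Y).Normal := hUnorm.subgroupOf Y
      have hcen := Transfer.mem_centralizer_of_hasNormalPComplement (hUp.comap_subtype (K := Y))
        (Transfer.hasNormalPComplement_subgroup _ hY)
        (g := x) (by rw [show normalizer ((comap Y.subtype U : Subgroup Y) : Set Y) = ⊤ from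
          normalizer_eq_top_iff.mpr hnn]; exact mem_top _) hx
      have hxU : (x : G) ∈ U := hC (mem_centralizer_iff.mpr fun u hu =>
        congrArg Subtype.val (mem_centralizer_iff.mp hcen ⟨u, hUY hu⟩ hu))
      obtain ⟨k, hk⟩ := IsPGroup.iff_orderOf.mp hUp ⟨x, hxU⟩
      rw [Subgroup.orderOf_mk, Subgroup.orderOf_coe] at hk
      exact orderOf_eq_one_iff.mp (Nat.eq_one_of_dvd_coprimes (hx.pow_right k) dvd_rfl hk.dvd)
    exact (P.3 hYp hPY).le
  have hloc : ∀ j, (F j).loc (P : Subgroup G) = (P : Subgroup G) := fun j =>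
    (hmaxP _ ((F j).le_loc _)).resolve_right fun h => hnc (by
      have h1 := hP j
      rw [h] at h1
      exact Transfer.hasNormalPComplement_of_injective (topEquiv (G := G)).symm.toMonoidHom
        topEquiv.symm.injective h1)
  -- `Kb` is abelian
  have hdisj : (Pb : Subgroup (G ⧸ U)) ⊓ Kb = ⊥ := by
    obtain ⟨k, hk⟩ := IsPGroup.iff_card.mp Pb.2
    rw [← card_eq_one]
    exact Nat.eq_one_of_dvd_coprimes (hKbc.pow_right k) (card_dvd_of_le inf_le_right)
      (hk ▸ card_dvd_of_le inf_le_left)
  have hinv : ∀ R : Subgroup (G ⧸ U), R ≤ Kb →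
      (Pb : Subgroup (G ⧸ U)) ≤ normalizer (R : Set (G ⧸ U)) → R = ⊥ ∨ R = Kb := by
    intro R hR hPR
    have hsup : Nat.card (R ⊔ (Pb : Subgroup (G ⧸ U)) : Subgroup (G ⧸ U)) =
        Nat.card R * Nat.card (Pb : Subgroup (G ⧸ U)) := by
      refine Coprime.card_sup_of_inf_eq_bot hPR ?_
      exact le_bot_iff.mp ((inf_le_inf_left _ hR).trans hdisj.le)
    rcases hmaxP (((Pb : Subgroup (G ⧸ U)) ⊔ R).comap f) (hPbc.ge.trans (comap_mono le_sup_left))
      with h | h
    · left
      have h' : (Pb : Subgroup (G ⧸ U)) ⊔ R = Pb := by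
        rw [← map_comap_eq_self_of_surjective hf ((Pb : Subgroup (G ⧸ U)) ⊔ R), h]
        rfl
      exact le_bot_iff.mp (hdisj ▸ le_inf (h' ▸ le_sup_right) hR)
    · right
      have h' : (Pb : Subgroup (G ⧸ U)) ⊔ R = ⊤ := comap_injective hf (h.trans (comap_top f).symm)
      have h2 : Nat.card (Kb ⊔ (Pb : Subgroup (G ⧸ U)) : Subgroup (G ⧸ U)) =
          Nat.card Kb * Nat.card (Pb : Subgroup (G ⧸ U)) := Coprime.card_sup_of_inf_eq_bot
        ((normalizer_eq_top_iff.mpr hKbn).ge.trans' le_top) hdisj
      rw [sup_comm, hPKb, ← h', sup_comm, hsup] at h2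
      exact eq_of_le_of_card_ge hR (Nat.eq_of_mul_eq_mul_right Nat.card_pos h2).ge
  have hPbn : ∀ R : Subgroup (G ⧸ U), R.Normal → R ≤ Kb → R = ⊥ ∨ R = Kb := fun R hR hle =>
    hinv R hle (by rw [normalizer_eq_top_iff.mpr hR]; exact le_top)
  have habel : ∀ x ∈ Kb, ∀ y ∈ Kb, x * y * x⁻¹ * y⁻¹ = 1 := by
    rcases eq_or_ne Kb ⊥ with hK | hK
    · intro x hx y hy
      rw [hK, mem_bot] at hx hy
      simp [hx, hy]
    obtain ⟨q, hq, hqd⟩ := Nat.exists_prime_and_dvd (fun h => hK (card_eq_one.mp h))
    have : Fact q.Prime := ⟨hq⟩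
    obtain ⟨k, hk⟩ := IsPGroup.iff_card.mp Pb.2
    have := Pb.2.isNilpotent
    obtain ⟨R, hR⟩ := Coprime.exists_invariant_sylow
      ((normalizer_eq_top_iff.mpr hKbn).ge.trans' (le_top (a := (Pb : Subgroup (G ⧸ U)))))
      (by rw [hk]; exact (hKbc.pow_right k).symm) (Or.inl inferInstance) q
    have hRtop : (R : Subgroup Kb).map Kb.subtype = Kb := by
      refine (hinv _ (map_subtype_le _) hR).resolve_left fun h => ?_
      rw [map_eq_bot_iff_of_injective _ Kb.subtype_injective] at h
      exact R.ne_bot_of_dvd_card hqd h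
    have hRt : (R : Subgroup Kb) = ⊤ := map_injective Kb.subtype_injective
      (by rw [hRtop, ← MonoidHom.range_eq_map, range_subtype])
    have hnil : Group.IsNilpotent Kb := ((hRt ▸ R.2 : IsPGroup q (⊤ : Subgroup Kb)).of_equiv
      topEquiv).isNilpotent
    have : Nontrivial Kb := (nontrivial_iff_ne_bot Kb).mpr hK
    rcases hPbn ⁅Kb, Kb⁆ (commutator_normal Kb Kb) (commutator_le_left Kb Kb) with h | h
    · intro x hx y hy
      have := commutator_mem_commutator hx hy
      rw [h, mem_bot] at this
      exact this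
    · refine absurd ?_ (Group.IsSolvable.commutator_lt_top_of_nontrivial Kb).ne
      apply map_injective Kb.subtype_injective
      rw [_root_.commutator_def, map_commutator, ← MonoidHom.range_eq_map, range_subtype, h]
  refine hcore G P U M (Nat.card Kb) hPr ⟨hnc, hP, hUnorm, hUp, hUP, hUmax', hC, hmaxP, hloc,
    inferInstance, hUM, hMsup, fun x hx y hy => ?_, hKbc, fun x hx => ?_, fun g hg hgk => ?_⟩
  · rw [← QuotientGroup.eq_one_iff (N := U)]
    show f (x * y * x⁻¹ * y⁻¹) = 1
    rw [map_mul, map_mul, map_mul, map_inv, map_inv]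
    exact habel _ hx _ hy
  · rw [← QuotientGroup.eq_one_iff (N := U)]
    show f (x ^ Nat.card Kb) = 1
    rw [map_pow]
    exact congrArg Subtype.val (pow_card_eq_one' (x := (⟨f x, hx⟩ : Kb)))
  · set Db := (Pb : Subgroup (G ⧸ U)) ⊓ centralizer (Kb : Set (G ⧸ U)) with hDb
    have hDn : Db.Normal := by
      rw [← normalizer_eq_top_iff, ← top_le_iff, ← hPKb]
      refine sup_le ?_ (le_trans ?_ (centralizer_le_normalizer _))
      · intro z hz
        have hcn : (centralizer (Kb : Set (G ⧸ U))).Normal := inferInstance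
        have hzP := le_normalizer hz
        rw [mem_normalizer_iff] at hzP ⊢
        intro w
        exact and_congr (hzP w) ⟨fun hw => hcn.conj_mem w hw z, fun hw => by
          simpa [mul_assoc] using hcn.conj_mem' _ hw z⟩
      · exact le_centralizer_iff.mpr inf_le_right
    have hDp : IsPGroup p Db := Pb.2.to_le inf_le_left
    refine hUmax' (Db.comap f) inferInstance
      (hDp.comap_of_ker_isPGroup f (by rwa [QuotientGroup.ker_mk'])) (mem_comap.mpr (mem_inf.mpr ⟨⟨g, hg, rfl⟩, ?_⟩))
    rw [mem_centralizer_iff]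
    intro w hw
    obtain ⟨k, rfl⟩ := hf w
    rw [← map_mul, ← map_mul]
    refine (QuotientGroup.eq.mpr ?_).symm
    have h := hgk k hw
    rw [show (g * k)⁻¹ * (k * g) = (k⁻¹ * g⁻¹) * (g * k * g⁻¹ * k⁻¹)⁻¹ * (k⁻¹ * g⁻¹)⁻¹ by group]
    exact hUnorm.conj_mem _ (U.inv_mem h) _

/-- A local normal `p`-complement criterion holds once it holds in minimal counterexamples. -/
theorem hasNormalPComplement_of_local {ι : Type*} (F : ι → LocalFunctor.{u} p) (j₀ : ι)
    (hj₀ : ∀ {G : Type u} [Group G] (S : Subgroup G),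
      (F j₀).loc S = normalizer ((F j₀).core S : Set G))
    (hcore : ∀ (G : Type u) [Group G] [Finite G] (P : Sylow p G) (U M : Subgroup G) (m : ℕ),
      MinimalFailure F P U M m → False)
    (G : Type u) [Group G] [Finite G] (P : Sylow p G)
    (h : ∀ j, Cfsg.HasNormalPComplement p ((F j).loc (P : Subgroup G))) :
    Cfsg.HasNormalPComplement p G :=
  hasNormalPComplement_of_local_hered F j₀ hj₀ (fun _ _ => True) (fun _ _ => trivial)
    (fun _ _ _ => trivial) (fun G _ _ P U M m _ => hcore G P U M m) G P trivial h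

/-- `H` is isomorphic to a section of `X`. -/
def IsSectionOf (X : Type u) [Group X] (H : Type u) [Group H] : Prop :=
  ∃ (K : Subgroup X) (f : K →* H), Function.Surjective f

omit hp [Finite G] in
theorem isSectionOf_self : IsSectionOf G G := ⟨⊤, (⊤ : Subgroup G).subtype, fun y => ⟨⟨y, mem_top y⟩, rfl⟩⟩

omit hp [Finite G] in
theorem IsSectionOf.subgroup {H : Type u} [Group H] (h : IsSectionOf G H) (L : Subgroup H) :
    IsSectionOf G L := by
  obtain ⟨K, f, hf⟩ := h
  let e := equivMapOfInjective (L.comap f) K.subtype K.subtype_injective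
  refine ⟨(L.comap f).map K.subtype, (f.subgroupComap L).comp e.symm.toMonoidHom, fun y => ?_⟩
  obtain ⟨x, hx⟩ := hf y.1
  have hxL : f x ∈ L := hx ▸ y.2
  refine ⟨e ⟨x, hxL⟩, ?_⟩
  show f.subgroupComap L (e.symm (e ⟨x, hxL⟩)) = y
  rw [e.symm_apply_apply]
  exact Subtype.ext hx

omit hp [Finite G] in
theorem IsSectionOf.quotient {H : Type u} [Group H] (h : IsSectionOf G H) (N : Subgroup H)
    [N.Normal] : IsSectionOf G (H ⧸ N) := by
  obtain ⟨K, f, hf⟩ := h
  exact ⟨K, (QuotientGroup.mk' N).comp f, (QuotientGroup.mk'_surjective N).comp hf⟩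

omit hp [Finite G] in
/-- A section is `K ⧸ R` for some `R` normal in `K`. -/
theorem IsSectionOf.exists_equiv {H : Type u} [Group H] (h : IsSectionOf G H) :
    ∃ (K R : Subgroup G) (_ : (R.subgroupOf K).Normal), Nonempty (K ⧸ R.subgroupOf K ≃* H) := by
  obtain ⟨K, f, hf⟩ := h
  have e : (f.ker.map K.subtype).subgroupOf K = f.ker :=
    comap_map_eq_self_of_injective K.subtype_injective f.ker
  have hn : ((f.ker.map K.subtype).subgroupOf K).Normal := by rw [e]; infer_instance
  exact ⟨K, f.ker.map K.subtype, hn, ⟨(QuotientGroup.quotientMulEquivOfEq e).trans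
    (QuotientGroup.quotientKerEquivOfSurjective f hf)⟩⟩

end CfsgLib.Complement
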