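import Mathlib

/-!
# A finite `p`-group of automorphisms of a reduced commutative ring of characteristic `p`
-/

set_option autoImplicit false

namespace CfsgLib.Complement

open Polynomial

variable {p : ℕ} [hp : Fact p.Prime] {R : Type*} [CommRing R]

/-- A nontrivial `p`-group of automorphisms shifts some element by the multiples of a nonzero fixed
element. -/
theorem exists_ring_shift [Finite R] [IsReduced R] (hchar : (p : R) = 0) {A : Type*} [Group A]
    (hA : IsPGroup p A) (σ : A →* RingAut R) (hne : ∃ b r, σ b r ≠ r) :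
    ∃ s c : R, c ≠ 0 ∧ (∀ b, σ b c = c) ∧ (∀ b, ∃ i : ℕ, σ b s = s + i * c) ∧
      ∃ a, σ a s = s + c := by
  classical
  obtain ⟨b₀, r₀, hr₀⟩ := hne
  have : Nontrivial R := ⟨⟨_, _, hr₀⟩⟩
  let F : AddSubgroup R :=
    { carrier := {r | ∀ b, σ b r = r}
      zero_mem' := fun b => map_zero _
      add_mem' := fun hx hy b => by rw [map_add, hx b, hy b]
      neg_mem' := fun hx b => by rw [map_neg, hx b] }
  -- an element moved only by fixed amounts
  obtain ⟨s₀, hs₀, hs₀d⟩ : ∃ s, (∃ b, σ b s ≠ s) ∧ ∀ b c, σ c (σ b s - s) = σ b s - s := by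
    letI : SMul A (R ⧸ F) := ⟨fun b => QuotientAddGroup.map F F (σ b).toAddMonoidHom fun r hr c => by
      show σ c (σ b r) = σ b r
      rw [hr b, hr c]⟩
    letI : MulAction A (R ⧸ F) :=
      { one_smul := fun q => by
          induction q using QuotientAddGroup.induction_on with
          | _ r =>
            show ((σ 1 r : R) : R ⧸ F) = r
            rw [map_one]; rfl
        mul_smul := fun b c q => by
          induction q using QuotientAddGroup.induction_on with
          | _ r =>
            show ((σ (b * c) r : R) : R ⧸ F) = (σ b (σ c r) : R)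
            rw [map_mul]; rfl }
    have hnt : Nontrivial (R ⧸ F) := ⟨⟨(r₀ : R ⧸ F), 0, fun h =>
      hr₀ ((QuotientAddGroup.eq_zero_iff r₀).mp h b₀)⟩⟩
    have hdvd : p ∣ Nat.card (R ⧸ F) := by
      obtain ⟨q, hq⟩ := exists_ne (0 : R ⧸ F)
      have hpq : p • q = 0 := by
        induction q using QuotientAddGroup.induction_on with
        | _ r =>
          rw [← QuotientAddGroup.mk_nsmul, nsmul_eq_mul, hchar, zero_mul]
          rfl
      have h1 : addOrderOf q = p := addOrderOf_eq_prime hpq hq
      exact h1 ▸ addOrderOf_dvd_natCard q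
    have hzero : (0 : R ⧸ F) ∈ MulAction.fixedPoints A (R ⧸ F) := fun b => map_zero _
    obtain ⟨q, hq, hq0⟩ :=
      hA.exists_fixed_point_of_prime_dvd_card_of_fixed_point (R ⧸ F) hdvd hzero
    obtain ⟨r, rfl⟩ := QuotientAddGroup.mk_surjective q
    refine ⟨r, not_forall.mp fun h => hq0 ((QuotientAddGroup.eq_zero_iff (N := F) r).mpr h).symm, fun b c => ?_⟩
    have h : ((σ b r : R) : R ⧸ F) = r := hq b
    exact (QuotientAddGroup.eq_iff_sub_mem.mp h) c
  -- choose it with as few shifts as possible
  let T : Set R := {s | (∃ b, σ b s ≠ s) ∧ ∀ b c, σ c (σ b s - s) = σ b s - s}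
  obtain ⟨s, ⟨⟨a, ha⟩, hfix⟩, hmin⟩ := Set.exists_min_image T
    (fun s => Nat.card (Set.range fun b => σ b s - s)) (Set.toFinite _) ⟨s₀, hs₀, hs₀d⟩
  let φ : A → R := fun b => σ b s - s
  set E := Set.range φ with hE
  have hφ : ∀ b b', φ (b * b') = φ b + φ b' := by
    intro b b'
    have h : σ (b * b') s = σ b (φ b' + s) := by rw [map_mul]; simp [φ]
    show σ (b * b') s - s = _
    rw [h, map_add, hfix b' b]
    simp only [φ]
    ring
  have hEadd : ∀ x ∈ E, ∀ y ∈ E, x + y ∈ E := by
    rintro _ ⟨b, rfl⟩ _ ⟨b', rfl⟩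
    exact ⟨b * b', hφ b b'⟩
  have h1 : φ 1 = 0 := by simp [φ]
  have hEnat : ∀ x ∈ E, ∀ i : ℕ, (i : R) * x ∈ E := by
    intro x hx i
    induction i with
    | zero => exact ⟨1, by rw [h1]; simp⟩
    | succ i ih => rw [Nat.cast_succ, add_mul, one_mul]; exact hEadd _ ih _ hx
  have : CharP R p := by
    refine ringChar.of_eq ((hp.out.eq_one_or_self_of_dvd _ (ringChar.dvd hchar)).resolve_left ?_)
    exact CharP.ringChar_ne_one
  -- all shifts are equivalent
  have hrel : ∀ c ∈ E, c ≠ 0 → ∀ d ∈ E, d ^ p = c ^ (p - 1) * d := by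
    rintro _ ⟨b, rfl⟩ hc _ ⟨b', rfl⟩
    by_contra hne
    set s' := s ^ p - φ b ^ (p - 1) * s with hs'
    have hshift : ∀ e, σ e s' - s' = φ e ^ p - φ b ^ (p - 1) * φ e := by
      intro e
      have he : σ e s = s + φ e := by simp [φ]
      have hb : σ e (φ b) = φ b := hfix b e
      rw [hs', map_sub, map_pow, map_mul, map_pow, hb, he, add_pow_char]
      ring
    have hmem : s' ∈ T := by
      refine ⟨⟨b', fun h => hne ?_⟩, fun e f => ?_⟩
      · have := hshift b'
        rw [h, sub_self] at this
        exact sub_eq_zero.mp this.symm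
      · rw [hshift e, map_sub, map_pow, map_mul, map_pow, hfix e f, hfix b f]
    refine absurd (hmin s' hmem) (not_le.mpr ?_)
    let g : R → R := fun t => t ^ p - φ b ^ (p - 1) * t
    have hrange : (Set.range fun e => σ e s' - s') = g '' E := by
      rw [hE, ← Set.range_comp]
      exact congrArg Set.range (funext hshift)
    rw [hrange, Nat.card_coe_set_eq, Nat.card_coe_set_eq]
    refine lt_of_le_of_ne (Set.ncard_image_le (Set.toFinite _)) fun h => hc ?_
    refine Set.injOn_of_ncard_image_eq h (Set.toFinite _) ⟨b, rfl⟩ ⟨1, h1⟩ ?_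
    show φ b ^ p - φ b ^ (p - 1) * φ b = 0 ^ p - φ b ^ (p - 1) * 0
    rw [← pow_succ, Nat.sub_add_cancel hp.out.one_le, sub_self, mul_zero, sub_zero,
      zero_pow hp.out.ne_zero]
  set c := φ a with hc
  have hc0 : c ≠ 0 := sub_ne_zero.mpr ha
  refine ⟨s, c, hc0, fun b => hfix a b, fun b => ?_, a, by simp [hc, φ]⟩
  obtain ⟨P, hP, hcP⟩ : ∃ P : Ideal R, P.IsPrime ∧ c ∉ P := by
    by_contra h
    push Not at h
    refine hc0 (IsReduced.eq_zero c ?_)
    rw [← mem_nilradical, nilradical_eq_sInf, Submodule.mem_sInf]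
    exact fun J hJ => h J hJ
  let π := Ideal.Quotient.mk P
  have hπc : π c ≠ 0 := fun h => hcP (Ideal.Quotient.eq_zero_iff_mem.mp h)
  have : CharP (R ⧸ P) p := by
    refine ringChar.of_eq ((hp.out.eq_one_or_self_of_dvd _ (ringChar.dvd ?_)).resolve_left ?_)
    · rw [← map_natCast π, hchar, map_zero]
    · exact CharP.ringChar_ne_one
  let f : (R ⧸ P)[X] := X ^ p - Polynomial.C (π c ^ (p - 1)) * X
  have hdeg : f.natDegree = p := by
    simp only [f]
    rw [natDegree_sub_eq_left_of_natDegree_lt]
    · exact natDegree_X_pow p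
    · rw [natDegree_X_pow]
      exact lt_of_le_of_lt (natDegree_C_mul_X_pow_le _ 1 |>.trans' (by rw [pow_one])) hp.out.one_lt
  have hf0 : f ≠ 0 := fun h => hp.out.ne_zero (by rw [← hdeg, h, natDegree_zero])
  have hroot : ∀ d ∈ E, π d ∈ f.roots.toFinset := by
    intro d hd
    rw [Multiset.mem_toFinset, mem_roots hf0, IsRoot, eval_sub, eval_pow, eval_mul, eval_C, eval_X,
      ← map_pow, ← map_pow, ← map_mul, ← map_sub, hrel c ⟨a, rfl⟩ hc0 d hd, sub_self, map_zero]
  let S := (Finset.range p).image fun i : ℕ => (i : R ⧸ P) * π c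
  have hS : S = f.roots.toFinset := by
    refine Finset.eq_of_subset_of_card_le ?_ ?_
    · intro t ht
      obtain ⟨i, _, rfl⟩ := Finset.mem_image.mp ht
      rw [← map_natCast π, ← map_mul]
      exact hroot _ (hEnat c ⟨a, rfl⟩ i)
    · rw [Finset.card_image_of_injOn, Finset.card_range]
      · exact (Multiset.toFinset_card_le _).trans ((card_roots' f).trans hdeg.le)
      · intro i hi j hj hij
        exact CharP.natCast_injOn_Iio (R ⧸ P) p (Finset.mem_range.mp hi) (Finset.mem_range.mp hj)
          (mul_right_cancel₀ hπc hij)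
  have hmem := hroot (φ b) ⟨b, rfl⟩
  rw [← hS] at hmem
  obtain ⟨i, _, hi⟩ := Finset.mem_image.mp hmem
  refine ⟨i, ?_⟩
  have hd : φ b - i * c ∈ E := by
    have h := hEadd (φ b) ⟨b, rfl⟩ _ (hEnat c ⟨a, rfl⟩ (i * (p - 1)))
    rwa [Nat.cast_mul, Nat.cast_sub hp.out.one_le, hchar, zero_sub, Nat.cast_one, mul_neg_one,
      neg_mul, ← sub_eq_add_neg] at h
  have hd0 : φ b - i * c = 0 := by
    by_contra hne
    have h := hrel _ hd hne c ⟨a, rfl⟩
    refine hcP (hP.mem_of_pow_mem p ?_)
    rw [h]
    refine P.mul_mem_right c (Ideal.pow_mem_of_mem P ?_ _ (by have := hp.out.two_le; omega))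
    rw [← Ideal.Quotient.eq_zero_iff_mem, map_sub, map_mul, map_natCast]
    exact sub_eq_zero.mpr hi.symm
  rw [sub_eq_zero] at hd0
  rw [← hd0]
  simp [φ]

/-- `δ^n (s^n) = n! c^n` for `δ = σ - 1` when `σ s = s + c` and `σ c = c`. -/
theorem iterate_shift_pow (σ : R ≃+* R) {s c : R} (hs : σ s = s + c) (hc : σ c = c) (n : ℕ) :
    (fun r => σ r - r)^[n] (s ^ n) = n.factorial * c ^ n := by
  let δ : R → R := fun r => σ r - r
  have hlin : ∀ k r, δ^[k] (σ r) = σ (δ^[k] r) := by
    intro k
    induction k with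
    | zero => simp
    | succ k ih => intro r; simp only [Function.iterate_succ', Function.comp_apply, ih]; simp [δ]
  have hmul : ∀ (k : ℕ) (r : R),
      δ^[k + 1] (s * r) = s * δ^[k + 1] r + (k + 1 : ℕ) * (c * σ (δ^[k] r)) := by
    intro k
    induction k with
    | zero => intro r; simp [δ, hs]; ring
    | succ k ih =>
      intro r
      rw [Function.iterate_succ' δ (k + 1), Function.comp_apply, ih, Function.comp_apply,
        Function.iterate_succ' δ k, Function.comp_apply]
      simp only [δ, map_add, map_mul, map_natCast, hs, hc, map_sub]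
      push_cast
      ring
  have hzero : ∀ k, δ^[k + 1] (s ^ k) = 0 ∧ δ^[k] (s ^ k) = k.factorial * c ^ k := by
    intro k
    induction k with
    | zero => simp [δ]
    | succ k ih =>
      have h2 : δ^[k + 1] (s ^ (k + 1)) = (k + 1).factorial * c ^ (k + 1) := by
        rw [pow_succ', hmul, ih.1, ih.2, map_mul, map_natCast, map_pow, hc, mul_zero, zero_add,
          Nat.factorial_succ, Nat.cast_mul]
        ring
      refine ⟨?_, h2⟩
      rw [Function.iterate_succ', Function.comp_apply, h2]
      simp [δ, map_mul, hc]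
  exact (hzero n).2

/-- Two homomorphisms to a domain with the same trace `f + f⁻¹`, one the twist of the other by an
automorphism of odd order, are equal. -/
theorem eq_of_add_inv_eq {M D : Type*} [Group M] [CommRing D] [IsDomain D] (f : M →* D) (tw : M →* M)
    (hsum : ∀ y, f (tw y) + f (tw y)⁻¹ = f y + f y⁻¹) {x : M} {n : ℕ} (hodd : Odd n)
    (hn : tw^[n] x = x) : f (tw x) = f x := by
  have hfi : ∀ y, f y * f y⁻¹ = 1 := fun y => by rw [← map_mul, mul_inv_cancel, map_one]
  have hor : ∀ y, f (tw y) = f y ∨ f (tw y) * f y = 1 := by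
    intro y
    have hz : (f (tw y) - f y) * (f (tw y) * f y - 1) = 0 := by
      linear_combination (f (tw y) * f y) * hsum y - f y * hfi (tw y) + f (tw y) * hfi y
    rcases mul_eq_zero.mp hz with h | h
    · exact Or.inl (sub_eq_zero.mp h)
    · exact Or.inr (sub_eq_zero.mp h)
  by_contra hx
  have h2 : f (tw x) * f x = 1 := (hor _).resolve_left hx
  have hall : ∀ y, f (tw y) * f y = 1 := by
    intro y
    rcases hor y with hy | hy
    swap
    · exact hy
    have hne0 : f y ≠ 0 := fun e => one_ne_zero (α := D) (by rw [← hfi y, e, zero_mul])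
    rcases hor (x * y) with h3 | h3
    · rw [map_mul, map_mul, map_mul, hy] at h3
      exact absurd (mul_right_cancel₀ hne0 h3) hx
    · rw [map_mul, map_mul, map_mul, hy] at h3
      rw [hy]
      linear_combination h3 - f y * f y * h2
  have htwo : ∀ (j : ℕ) (y : M), f (tw^[2 * j] y) = f y := by
    intro j
    induction j with
    | zero => simp
    | succ j ih =>
      intro y
      rw [Nat.mul_succ, Function.iterate_succ_apply, Function.iterate_succ_apply, ih]
      linear_combination f y * hall (tw y) - f (tw (tw y)) * hall y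
  obtain ⟨j, rfl⟩ := hodd
  refine hx ?_
  rw [← htwo j (tw x), ← Function.iterate_succ_apply]
  exact congrArg f hn

end CfsgLib.Complement
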