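import Cfsg.Agent.Lib.Complement.Layered
import Cfsg.Agent.Lib.PLocal.Stable
import Cfsg.Agent.Lib.PLocal.Section
import Cfsg.Agent.S0624

/-!
# Layered groups are action `p`-stable; the criterion with `W(S)`
-/

set_option autoImplicit false

namespace CfsgLib.Complement

open Subgroup
open scoped commutatorElement

universe u

variable {p : ℕ} [hp : Fact p.Prime]

/-- Layered groups are action `p`-stable, `p` odd. -/
theorem IsLayered.isActionPStable {X : Type u} [Group X] [Finite X] (hp2 : p ≠ 2)
    (hX : IsLayered p X) : Cfsg.IsActionPStable p X := by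
  have hquad : ∀ {Y : Type u} [Group Y] {V : Subgroup Y} {a : Y},
      ⁅⁅V, zpowers a⁆, zpowers a⁆ = ⊥ →
      ∀ x ∈ V, a * (a * x * a⁻¹ * x⁻¹) * a⁻¹ = a * x * a⁻¹ * x⁻¹ := by
    intro Y _ V a hq x hx
    have h := PLocal.quad_elem hq hx
    rw [commutatorElement_def] at h
    rw [h.eq, mul_inv_cancel_right]
  refine ⟨fun V _ hV a ha => hX.quadratic_mem_pCore hp2 V (PLocal.elemAb_isPGroup hV) (hquad ha),
    fun a ha => ?_, fun S V _ hV a ha => ?_⟩
  · set T := Cfsg.pCore p X with hT
    have := Solvable.pCore_normal p X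
    have hTp : IsPGroup p T := Solvable.pCore_isPGroup p
    set N := (frattini T).map T.subtype with hN
    have : N.Normal := by
      have : (frattini T).Characteristic := frattini_characteristic
      infer_instance
    set f := QuotientGroup.mk' N
    have hf := QuotientGroup.mk'_surjective N
    set Kb := T.map f with hKb
    have hKn : Kb.Normal := Subgroup.Normal.map inferInstance f hf
    have hq : ⁅⁅Kb, zpowers (f a)⁆, zpowers (f a)⁆ = ⊥ := by
      rw [← MonoidHom.map_zpowers f a, hKb, ← map_commutator, ← map_commutator,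
        Subgroup.map_eq_bot_iff, QuotientGroup.ker_mk']
      exact ha
    have hmem := (hX.of_surjective f hf).quadratic_mem_pCore hp2 Kb (hTp.map f) (hquad hq)
    set C := centralizer (Kb : Set (X ⧸ N)) with hC
    have hOn := Solvable.pCore_normal p ((X ⧸ N) ⧸ C)
    set D := (Cfsg.pCore p ((X ⧸ N) ⧸ C)).comap (QuotientGroup.mk' C) with hD
    have hCD : C ≤ D := fun z hz => by
      rw [hD, mem_comap, show QuotientGroup.mk' C z = 1 from (QuotientGroup.eq_one_iff z).mpr hz]
      exact one_mem _
    refine ⟨D.comap f, (hOn.comap _).comap f, comap_mono hCD, ?_, hmem⟩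
    obtain ⟨k, hk⟩ := PLocal.pCore_comap_relIndex (p := p) C
    exact ⟨k, by rw [Cfsg.sectionKernel, relIndex_comap, map_comap_eq_self_of_surjective hf]; exact hk⟩
  · refine (hX.subgroup _).quadratic_mem_pCore hp2 V ?_ (hquad ha)
    exact (S.2.to_le (hV.trans (map_subtype_le _))).of_equiv
      (equivMapOfInjective V _ (subtype_injective _)).symm

/-- A functor whose value is normal in layered groups gives a normal `p`-complement criterion. -/
theorem hasNormalPComplement_of_functor_layered {G : Type u} [Group G] [Finite G]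
    (W : ∀ (Q : Type u) [Group Q], Subgroup Q) (hW : Cfsg.IsCharPFunctor.{u} p W) (S : Sylow p G)
    (hN : Cfsg.HasNormalPComplement p
      (normalizer (Cfsg.inducedFunctor W (S : Subgroup G) : Set G)))
    (hsec : ∀ (X : Type u) [Group X] [Finite X], IsLayered p X →
      centralizer (Cfsg.pCore p X : Set X) ≤ Cfsg.pCore p X → ∀ T : Sylow p X,
        (Cfsg.inducedFunctor W (T : Subgroup X)).Normal) :
    Cfsg.HasNormalPComplement p G := by
  refine hasNormalPComplement_of_local (fun _ : Unit => inducedLocalFunctor p W hW) () (fun _ => rfl)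
    (fun H _ _ P U M m h => ?_) G S (fun _ => ?_)
  · have h1 : normalizer (functorCore p W (P : Subgroup H) : Set H) = P := h.loc_eq ()
    rw [functorCore_eq P.2, normalizer_eq_top_iff.mpr
      (hsec H h.isLayered (h.pCore_eq.symm ▸ h.centralizer_le) P)] at h1
    exact (h.isCoatom ()).1 h1.symm
  · show Cfsg.HasNormalPComplement p (normalizer (functorCore p W (S : Subgroup G) : Set G))
    rw [functorCore_eq S.2]
    exact hN

/-- For odd `p` a normal `p`-complement in `N(W(S))` gives one in `G`. -/
theorem hasNormalPComplement_of_stable {G : Type u} [Group G] [Finite G] (hp2 : p ≠ 2) (S : Sylow p G)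
    (hN : Cfsg.HasNormalPComplement p (normalizer
      (((Cfsg.stableNormalClosure p ↥(S : Subgroup G)).map (S : Subgroup G).subtype) : Set G))) :
    Cfsg.HasNormalPComplement p G :=
  hasNormalPComplement_of_functor_layered (fun Q _ => Cfsg.stableNormalClosure p Q)
    ⟨fun _ _ _ hQ _ => PLocal.stable_ne_bot hQ, fun _ _ _ _ _ _ φ => PLocal.stable_map_equiv φ⟩ S hN
    fun _ _ _ hX hc T => Cfsg.Agent.S0624.result (hX.isActionPStable hp2) hc T

end CfsgLib.Complement
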