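import Cfsg.Agent.Lib.Complement.CenterClosed

/-!
# Normal `p`-complements from `N(Z(J(D)))`, `D` strongly closed
-/

set_option autoImplicit false

namespace CfsgLib.Complement

open Subgroup

universe u

variable {p : ℕ} [hp : Fact p.Prime] {G : Type u} [Group G] [Finite G]

/-- A failure whose quotient by `O_p` and proper overgroups of `P` have normal `p`-complements. -/
theorem exists_minimalFailure_of_quotient {P : Sylow p G}
    (hnc : ¬ Cfsg.HasNormalPComplement p G)
    (hO : ∀ O : Subgroup G, O.Normal → (Nat.card O).Coprime p → O = ⊥)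
    {U : Subgroup G} [hUnorm : U.Normal] (hUp : IsPGroup p U)
    (hUmax' : ∀ V : Subgroup G, V.Normal → IsPGroup p V → V ≤ U)
    (hquot : Cfsg.HasNormalPComplement p (G ⧸ U))
    (hsub : ∀ Y : Subgroup G, (P : Subgroup G) ≤ Y → Y ≠ ⊤ → Cfsg.HasNormalPComplement p Y) :
    ∃ (M : Subgroup G) (m : ℕ),
      MinimalFailure (fun e : PEmpty.{1} => e.elim) (p := p) P U M m := by
  classical
  have hUP : U ≤ (P : Subgroup G) := Solvable.normal_pgroup_le_sylow hUp P
  -- the quotient by `U`
  let f := QuotientGroup.mk' U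
  have hf : Function.Surjective f := QuotientGroup.mk'_surjective U
  let Pb : Sylow p (G ⧸ U) := P.mapSurjective hf
  have hPbc : (Pb : Subgroup (G ⧸ U)).comap f = (P : Subgroup G) := by
    show ((P : Subgroup G).map f).comap f = _
    rw [comap_map_eq, QuotientGroup.ker_mk', sup_eq_left.mpr hUP]
  obtain ⟨Kb, hKbn, hKbc, hKbq⟩ := Transfer.hasNormalPComplement_iff_exists.1 hquot
  have hPKb : (Pb : Subgroup (G ⧸ U)) ⊔ Kb = ⊤ := by
    obtain ⟨e, he⟩ := IsPGroup.iff_card.mp hKbq
    rw [← index_eq_card] at he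
    rw [sup_comm]
    exact Transfer.sup_sylow_eq_top Pb he
  set M := Kb.comap f with hM
  have hUM : U ≤ M := fun x hx => by
    rw [hM, mem_comap, show f x = 1 from (QuotientGroup.eq_one_iff x).mpr hx]
    exact one_mem _
  have hMsup : (P : Subgroup G) ⊔ M = ⊤ := by
    rw [← hPbc, hM, comap_sup_eq f _ _ hf, hPKb, comap_top]
  -- `C(U) ≤ U`
  have hC : centralizer (U : Set G) ≤ U := by
    set C := centralizer (U : Set G) with hCdef
    have hCn : C.Normal := inferInstance
    set CM := C ⊓ M with hCM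
    have hCMn : CM.Normal := inferInstance
    obtain ⟨S⟩ := (inferInstance : Nonempty (Sylow p CM))
    have hSU : (S : Subgroup CM).map CM.subtype ≤ U := by
      rintro x ⟨y, hy, rfl⟩
      obtain ⟨k, hk⟩ := IsPGroup.iff_orderOf.mp S.2 ⟨y, hy⟩
      rw [Subgroup.orderOf_mk] at hk
      have h1 : f (y : G) ∈ Kb := y.2.2
      have h2 : orderOf (f (y : G)) ∣ p ^ k := hk ▸
        (orderOf_map_dvd f (y : G)).trans (Subgroup.orderOf_coe y).dvd
      have h3 : orderOf (f (y : G)) = 1 := Nat.eq_one_of_dvd_coprimes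
        (hKbc.pow_right k) (Kb.orderOf_dvd_natCard h1) h2
      exact (QuotientGroup.eq_one_iff _).mp (orderOf_eq_one_iff.mp h3)
    have hScen : (normalizer ((S : Subgroup CM) : Set CM)) ≤
        centralizer ((S : Subgroup CM) : Set CM) := by
      intro g _
      rw [mem_centralizer_iff]
      intro s hs
      exact Subtype.ext (mem_centralizer_iff.mp g.2.1 s (hSU ⟨s, hs, rfl⟩))
    have hCMnpc := Transfer.hasNormalPComplement_of_normalizer_le_centralizer S hScen
    have hres : Cfsg.pResidual p CM = ⊥ := by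
      have := Transfer.pResidual_characteristic (G := CM) (p := p)
      have hmn : ((Cfsg.pResidual p CM).map CM.subtype).Normal := inferInstance
      have hc := Transfer.hasNormalPComplement_iff_coprime_pResidual.1 hCMnpc
      rw [← card_map_of_injective CM.subtype_injective] at hc
      rw [← map_eq_bot_iff_of_injective _ CM.subtype_injective]
      exact hO _ hmn hc
    -- every `p'`-element of `C` is trivial
    refine hUmax' C hCn fun g => ?_
    obtain ⟨g, hg⟩ := g
    refine ⟨(orderOf g).factorization p, Subtype.ext ?_⟩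
    show g ^ _ = (1 : G)
    set x := g ^ p ^ (orderOf g).factorization p
    have hx : (orderOf x).Coprime p := by
      rw [orderOf_pow' g (pow_ne_zero _ hp.out.ne_zero),
        Nat.gcd_eq_right (Nat.ordProj_dvd (orderOf g) p)]
      exact (Nat.coprime_ordCompl hp.out (orderOf_pos g).ne').symm
    have hxM : x ∈ M := by
      rw [hM, mem_comap, ← QuotientGroup.eq_one_iff (N := Kb)]
      obtain ⟨k, hk⟩ := IsPGroup.iff_orderOf.mp hKbq (QuotientGroup.mk' Kb (f x))
      have h2 : orderOf (QuotientGroup.mk' Kb (f x)) ∣ orderOf x :=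
        (orderOf_map_dvd _ _).trans (orderOf_map_dvd f x)
      exact orderOf_eq_one_iff.mp (Nat.eq_one_of_dvd_coprimes (hx.pow_right k) h2 hk.dvd)
    have h1 := Transfer.mem_pResidual_of_coprime (p := p)
      (g := (⟨x, mem_inf.mpr ⟨C.pow_mem hg _, hxM⟩⟩ : CM)) (by rwa [← Subgroup.orderOf_coe])
    rw [hres, mem_bot] at h1
    exact congrArg Subtype.val h1
  have hmaxP : ∀ Y : Subgroup G, (P : Subgroup G) ≤ Y → Y = (P : Subgroup G) ∨ Y = ⊤ := by
    intro Y hPY
    by_contra hcon
    push Not at hcon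
    have hY := hsub Y hPY hcon.2
    refine hcon.1 (le_antisymm ?_ hPY)
    have hYp : IsPGroup p Y := by
      intro g
      refine ⟨(orderOf g).factorization p, ?_⟩
      set x := g ^ p ^ (orderOf g).factorization p
      have hx : (orderOf x).Coprime p := by
        rw [orderOf_pow' g (pow_ne_zero _ hp.out.ne_zero),
          Nat.gcd_eq_right (Nat.ordProj_dvd (orderOf g) p)]
        exact (Nat.coprime_ordCompl hp.out (orderOf_pos g).ne').symm
      have hUY : U ≤ Y := hUP.trans hPY
      have hnn : (U.subgroupOf Y).Normal := hUnorm.subgroupOf Y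
      have hcen := Transfer.mem_centralizer_of_hasNormalPComplement (hUp.comap_subtype (K := Y))
        (Transfer.hasNormalPComplement_subgroup _ hY)
        (g := x) (by rw [show normalizer ((comap Y.subtype U : Subgroup Y) : Set Y) = ⊤ from
          normalizer_eq_top_iff.mpr hnn]; exact mem_top _) hx
      have hxU : (x : G) ∈ U := hC (mem_centralizer_iff.mpr fun u hu =>
        congrArg Subtype.val (mem_centralizer_iff.mp hcen ⟨u, hUY hu⟩ hu))
      obtain ⟨k, hk⟩ := IsPGroup.iff_orderOf.mp hUp ⟨x, hxU⟩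
      rw [Subgroup.orderOf_mk, Subgroup.orderOf_coe] at hk
      exact orderOf_eq_one_iff.mp (Nat.eq_one_of_dvd_coprimes (hx.pow_right k) dvd_rfl hk.dvd)
    exact (P.3 hYp hPY).le
  -- `Kb` is abelian
  have hdisj : (Pb : Subgroup (G ⧸ U)) ⊓ Kb = ⊥ := by
    obtain ⟨k, hk⟩ := IsPGroup.iff_card.mp Pb.2
    rw [← card_eq_one]
    exact Nat.eq_one_of_dvd_coprimes (hKbc.pow_right k) (card_dvd_of_le inf_le_right)
      (hk ▸ card_dvd_of_le inf_le_left)
  have hinv : ∀ R : Subgroup (G ⧸ U), R ≤ Kb →
      (Pb : Subgroup (G ⧸ U)) ≤ normalizer (R : Set (G ⧸ U)) → R = ⊥ ∨ R = Kb := by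
    intro R hR hPR
    have hsup : Nat.card (R ⊔ (Pb : Subgroup (G ⧸ U)) : Subgroup (G ⧸ U)) =
        Nat.card R * Nat.card (Pb : Subgroup (G ⧸ U)) := by
      refine Coprime.card_sup_of_inf_eq_bot hPR ?_
      exact le_bot_iff.mp ((inf_le_inf_left _ hR).trans hdisj.le)
    rcases hmaxP (((Pb : Subgroup (G ⧸ U)) ⊔ R).comap f) (hPbc.ge.trans (comap_mono le_sup_left))
      with h | h
    · left
      have h' : (Pb : Subgroup (G ⧸ U)) ⊔ R = Pb := by
        rw [← map_comap_eq_self_of_surjective hf ((Pb : Subgroup (G ⧸ U)) ⊔ R), h]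
        rfl
      exact le_bot_iff.mp (hdisj ▸ le_inf (h' ▸ le_sup_right) hR)
    · right
      have h' : (Pb : Subgroup (G ⧸ U)) ⊔ R = ⊤ := comap_injective hf (h.trans (comap_top f).symm)
      have h2 : Nat.card (Kb ⊔ (Pb : Subgroup (G ⧸ U)) : Subgroup (G ⧸ U)) =
          Nat.card Kb * Nat.card (Pb : Subgroup (G ⧸ U)) := Coprime.card_sup_of_inf_eq_bot
        ((normalizer_eq_top_iff.mpr hKbn).ge.trans' le_top) hdisj
      rw [sup_comm, hPKb, ← h', sup_comm, hsup] at h2
      exact eq_of_le_of_card_ge hR (Nat.eq_of_mul_eq_mul_right Nat.card_pos h2).ge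
  have hPbn : ∀ R : Subgroup (G ⧸ U), R.Normal → R ≤ Kb → R = ⊥ ∨ R = Kb := fun R hR hle =>
    hinv R hle (by rw [normalizer_eq_top_iff.mpr hR]; exact le_top)
  have habel : ∀ x ∈ Kb, ∀ y ∈ Kb, x * y * x⁻¹ * y⁻¹ = 1 := by
    rcases eq_or_ne Kb ⊥ with hK | hK
    · intro x hx y hy
      rw [hK, mem_bot] at hx hy
      simp [hx, hy]
    obtain ⟨q, hq, hqd⟩ := Nat.exists_prime_and_dvd (fun h => hK (card_eq_one.mp h))
    have : Fact q.Prime := ⟨hq⟩
    obtain ⟨k, hk⟩ := IsPGroup.iff_card.mp Pb.2
    have := Pb.2.isNilpotent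
    obtain ⟨R, hR⟩ := Coprime.exists_invariant_sylow
      ((normalizer_eq_top_iff.mpr hKbn).ge.trans' (le_top (a := (Pb : Subgroup (G ⧸ U)))))
      (by rw [hk]; exact (hKbc.pow_right k).symm) (Or.inl inferInstance) q
    have hRtop : (R : Subgroup Kb).map Kb.subtype = Kb := by
      refine (hinv _ (map_subtype_le _) hR).resolve_left fun h => ?_
      rw [map_eq_bot_iff_of_injective _ Kb.subtype_injective] at h
      exact R.ne_bot_of_dvd_card hqd h
    have hRt : (R : Subgroup Kb) = ⊤ := map_injective Kb.subtype_injective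
      (by rw [hRtop, ← MonoidHom.range_eq_map, range_subtype])
    have hnil : Group.IsNilpotent Kb := ((hRt ▸ R.2 : IsPGroup q (⊤ : Subgroup Kb)).of_equiv
      topEquiv).isNilpotent
    have : Nontrivial Kb := (nontrivial_iff_ne_bot Kb).mpr hK
    rcases hPbn ⁅Kb, Kb⁆ (commutator_normal Kb Kb) (commutator_le_left Kb Kb) with h | h
    · intro x hx y hy
      have := commutator_mem_commutator hx hy
      rw [h, mem_bot] at this
      exact this
    · refine absurd ?_ (Group.IsSolvable.commutator_lt_top_of_nontrivial Kb).ne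
      apply map_injective Kb.subtype_injective
      rw [_root_.commutator_def, map_commutator, ← MonoidHom.range_eq_map, range_subtype, h]
  refine ⟨M, Nat.card Kb, hnc, fun j => j.elim, hUnorm, hUp, hUP, hUmax', hC, hmaxP, fun j => j.elim,
    inferInstance, hUM, hMsup, fun x hx y hy => ?_, hKbc, fun x hx => ?_, fun g hg hgk => ?_⟩
  · rw [← QuotientGroup.eq_one_iff (N := U)]
    show f (x * y * x⁻¹ * y⁻¹) = 1
    rw [map_mul, map_mul, map_mul, map_inv, map_inv]
    exact habel _ hx _ hy
  · rw [← QuotientGroup.eq_one_iff (N := U)]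
    show f (x ^ Nat.card Kb) = 1
    rw [map_pow]
    exact congrArg Subtype.val (pow_card_eq_one' (x := (⟨f x, hx⟩ : Kb)))
  · set Db := (Pb : Subgroup (G ⧸ U)) ⊓ centralizer (Kb : Set (G ⧸ U)) with hDb
    have hDn : Db.Normal := by
      rw [← normalizer_eq_top_iff, ← top_le_iff, ← hPKb]
      refine sup_le ?_ (le_trans ?_ (centralizer_le_normalizer _))
      · intro z hz
        have hcn : (centralizer (Kb : Set (G ⧸ U))).Normal := inferInstance
        have hzP := le_normalizer hz
        rw [mem_normalizer_iff] at hzP ⊢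
        intro w
        exact and_congr (hzP w) ⟨fun hw => hcn.conj_mem w hw z, fun hw => by
          simpa [mul_assoc] using hcn.conj_mem' _ hw z⟩
      · exact le_centralizer_iff.mpr inf_le_right
    have hDp : IsPGroup p Db := Pb.2.to_le inf_le_left
    refine hUmax' (Db.comap f) inferInstance
      (hDp.comap_of_ker_isPGroup f (by rwa [QuotientGroup.ker_mk'])) (mem_comap.mpr (mem_inf.mpr ⟨⟨g, hg, rfl⟩, ?_⟩))
    rw [mem_centralizer_iff]
    intro w hw
    obtain ⟨k, rfl⟩ := hf w
    rw [← map_mul, ← map_mul]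
    refine (QuotientGroup.eq.mpr ?_).symm
    have h := hgk k hw
    rw [show (g * k)⁻¹ * (k * g) = (k⁻¹ * g⁻¹) * (g * k * g⁻¹ * k⁻¹)⁻¹ * (k⁻¹ * g⁻¹)⁻¹ by group]
    exact hUnorm.conj_mem _ (U.inv_mem h) _

theorem isStronglyClosed_map {P : Sylow p G} {D : Subgroup G}
    (hD : Cfsg.IsStronglyClosed D (P : Subgroup G)) (N : Subgroup G) [N.Normal] :
    Cfsg.IsStronglyClosed (D.map (QuotientGroup.mk' N))
      ((P : Subgroup G).map (QuotientGroup.mk' N)) := by
  refine ⟨map_mono hD.1, ?_⟩
  rintro _ ⟨x, hx, rfl⟩ gb hgb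
  obtain ⟨g, rfl⟩ := QuotientGroup.mk'_surjective N gb
  rw [← map_inv, ← map_mul, ← map_mul] at hgb ⊢
  set y := g * x * g⁻¹ with hy
  set K := (P : Subgroup G) ⊔ N with hK
  have hyK : y ∈ K := by
    have h : y ∈ ((P : Subgroup G).map (QuotientGroup.mk' N)).comap (QuotientGroup.mk' N) := hgb
    rwa [comap_map_eq, QuotientGroup.ker_mk', ← hK] at h
  have hyp : IsPGroup p (zpowers (⟨y, hyK⟩ : K)) := by
    obtain ⟨k, hk⟩ := IsPGroup.iff_orderOf.mp P.2 ⟨x, hD.1 hx⟩
    refine IsPGroup.iff_card.mpr ⟨k, ?_⟩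
    rw [Nat.card_zpowers, Subgroup.orderOf_mk, hy,
      show g * x * g⁻¹ = MulAut.conj g x from rfl, MulEquiv.orderOf_eq, ← hk, Subgroup.orderOf_mk]
  obtain ⟨Q, hQ⟩ := hyp.exists_le_sylow
  let PK : Sylow p K := P.subtype le_sup_left
  obtain ⟨c, hc⟩ := MulAction.exists_smul_eq K Q PK
  obtain ⟨n, hn, s, hs, hns⟩ : ∃ n ∈ N, ∃ s ∈ (P : Subgroup G), (c : G) = s * n := by
    have h : (c : G) ∈ (((P : Subgroup G) ⊔ N : Subgroup G) : Set G) := c.2
    rw [mul_normal, Set.mem_mul] at h
    obtain ⟨s, hs, n, hn, e⟩ := h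
    exact ⟨n, hn, s, hs, e.symm⟩
  have hcy : (c : G) * y * (c : G)⁻¹ ∈ (P : Subgroup G) := by
    have h : c * ⟨y, hyK⟩ * c⁻¹ ∈ ((c • Q : Sylow p K) : Subgroup K) := by
      rw [Sylow.coe_subgroup_smul, mem_pointwise_smul_iff_inv_smul_mem]
      simpa [mul_assoc] using hQ (mem_zpowers _)
    rw [hc] at h
    exact h
  have hny : n * y * n⁻¹ ∈ D := by
    have h1 : n * y * n⁻¹ ∈ (P : Subgroup G) := by
      have := mul_mem (mul_mem (inv_mem hs) hcy) hs
      rw [hns] at this
      simpa [mul_assoc] using this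
    have h2 := hD.2 x hx (n * g) (by simpa [hy, mul_assoc] using h1)
    simpa [hy, mul_assoc] using h2
  refine ⟨_, hny, ?_⟩
  rw [map_mul, map_mul, map_inv, show QuotientGroup.mk' N n = 1 from (QuotientGroup.eq_one_iff n).mpr hn,
    inv_one, one_mul, mul_one]

/-- For `D` strongly closed and `p` odd, an isomorphism invariant `Z(D)` meeting the normal
`p`-subgroups normally gives a criterion. -/
theorem hasNormalPComplement_of_strongly_closed (hp2 : p ≠ 2) (F : LocalFunctor.{u} p)
    (hloc : ∀ {H : Type u} [Group H] (S : Subgroup H), F.loc S = normalizer (F.core S : Set H))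
    (hcomm : ∀ {H : Type u} [Group H] (S : Subgroup H), IsMulCommutative (F.core S))
    (hinf : ∀ {H : Type u} [Group H] [Finite H] (S : Sylow p H) (D : Subgroup H),
      Cfsg.IsStronglyClosed D (S : Subgroup H) →
      (∀ B : Subgroup H, B.Normal → IsPGroup p B → ∀ a ∈ (S : Subgroup H),
        (∀ x ∈ B, a * (a * x * a⁻¹ * x⁻¹) * a⁻¹ = a * x * a⁻¹ * x⁻¹) →
        ∃ K : Subgroup H, K.Normal ∧ a ∈ K ∧
          ∀ g ∈ K, (orderOf g).Coprime p → g ∈ centralizer (B : Set H)) →
      ∀ B : Subgroup H, B.Normal → IsPGroup p B → (F.core D ⊓ B).Normal)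
    (P : Sylow p G) (D : Subgroup G) (hD : Cfsg.IsStronglyClosed D (P : Subgroup G))
    (h : Cfsg.HasNormalPComplement p (F.loc D)) : Cfsg.HasNormalPComplement p G := by
  induction hn : Nat.card G using Nat.strong_induction_on generalizing G with
  | _ n ih =>
  subst hn
  by_contra hnc
  have htopc : normalizer (F.core D : Set G) ≠ ⊤ := fun e =>
    hnc (hasNormalPComplement_of_top (e ▸ hloc D ▸ h))
  have hDp : IsPGroup p D := P.2.to_le hD.1
  have hsub : ∀ Y : Subgroup G, (P : Subgroup G) ≤ Y → Y ≠ ⊤ → Cfsg.HasNormalPComplement p Y := by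
    intro Y hPY hY
    have hlt : Nat.card Y < Nat.card G :=
      lt_of_le_of_ne (Nat.card_le_card_of_injective _ Y.subtype_injective)
        fun h => hY (eq_top_of_card_eq _ h)
    refine ih _ hlt (P.subtype hPY) (D.subgroupOf Y) ⟨fun x hx => hD.1 hx, fun x hx g hg =>
      hD.2 (x : G) hx (g : G) hg⟩ (loc_complement_of_map F Y.subtype Y.subtype_injective ?_) rfl
    rwa [subgroupOf_map_subtype, inf_eq_left.mpr (hD.1.trans hPY)]
  have hO : ∀ O : Subgroup G, O.Normal → (Nat.card O).Coprime p → O = ⊥ := by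
    intro O hOn hOp
    by_contra hne
    refine hnc (hasNormalPComplement_of_quotient O hOp
      (ih _ (Solvable.card_quotient_lt hne) (P.mapSurjective (QuotientGroup.mk'_surjective O))
        (D.map (QuotientGroup.mk' O)) (isStronglyClosed_map hD O) ?_ rfl))
    exact Transfer.hasNormalPComplement_of_injective (Subgroup.inclusion (F.loc_map O hOp _ hDp))
      (Subgroup.inclusion_injective _)
      (Transfer.hasNormalPComplement_of_surjective ((QuotientGroup.mk' O).subgroupMap _)
        ((QuotientGroup.mk' O).subgroupMap_surjective _) h)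
  set U := Cfsg.pCore p G with hU
  have hUn : U.Normal := Solvable.pCore_normal p G
  have hUp : IsPGroup p U := Solvable.pCore_isPGroup p
  have hUmax : ∀ V : Subgroup G, V.Normal → IsPGroup p V → V ≤ U := fun V hV hVp =>
    Solvable.le_pCore hV hVp
  have hUP : U ≤ (P : Subgroup G) := Solvable.normal_pgroup_le_sylow hUp P
  have hD1 : D ≠ ⊥ := fun e => htopc (by
    rw [le_bot_iff.mp ((F.core_le D).trans e.le)]; exact normalizer_eq_top _)
  have hU1 : U ≠ ⊥ := by
    intro hbot
    refine hnc (hasNormalPComplement_of_centerThompsonA hp2 P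
      (hsub _ (le_normalizer.trans (normalizer_le_normalizer_centerThompsonAOf _)) fun e => ?_))
    have hZ1 := center_inf_ne_bot (P.2.to_le (thompsonAOf_le (P : Subgroup G)))
      (thompsonAOf_ne_bot fun e' => hD1 (le_bot_iff.mp (hD.1.trans e'.le)))
    exact hZ1 (le_bot_iff.mp ((hUmax _ (normalizer_eq_top_iff.mp e)
      (P.2.to_le (centerThompsonAOf_le _))).trans hbot.le))
  have hDU : ¬ D ≤ U := fun hle => htopc (top_le_iff.mp fun g _ => F.normalizer_le D (by
    rw [mem_normalizer_iff]
    refine fun x => ⟨fun hx => hD.2 x hx g (hUP (hUn.conj_mem x (hle hx) g)), fun hx => ?_⟩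
    have h2 := hD.2 _ hx g⁻¹ (hUP (hUn.conj_mem _ (hle hx) g⁻¹))
    simpa [mul_assoc] using h2))
  set f := QuotientGroup.mk' U with hf'
  have hf : Function.Surjective f := QuotientGroup.mk'_surjective U
  set Db := D.map f with hDb
  have hDbcl := isStronglyClosed_map hD U
  have hDb1 : Db ≠ ⊥ := by
    rw [hDb, Ne, Subgroup.map_eq_bot_iff, QuotientGroup.ker_mk']
    exact hDU
  have hquot : Cfsg.HasNormalPComplement p (G ⧸ U) := by
    refine ih _ (Solvable.card_quotient_lt hU1) (P.mapSurjective hf) Db hDbcl ?_ rfl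
    set Kb := F.core Db
    have hKbp : IsPGroup p Kb := (hDp.map f).to_le (F.core_le _)
    set K := Kb.comap f with hKdef
    have hKp : IsPGroup p K := hKbp.comap_of_ker_isPGroup f (by rwa [QuotientGroup.ker_mk'])
    have hloc' : (F.loc Db).comap f ≤ normalizer (K : Set G) := by
      intro x hx
      have h1 := F.loc_le _ hx
      rw [mem_normalizer_iff]
      intro y
      rw [hKdef, mem_comap, mem_comap, map_mul, map_mul, map_inv]
      exact mem_normalizer_iff.mp h1 (f y)
    have hPK : (P : Subgroup G) ≤ normalizer (K : Set G) := fun s hs => hloc' (by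
      rw [mem_comap, hloc]
      exact F.normalizer_le Db (mem_normalizer_of_strongly_closed hDbcl (mem_map_of_mem f hs)))
    have hKn : normalizer (K : Set G) ≠ ⊤ := fun e => by
      refine F.core_ne_bot _ (hDp.map f) hDb1 ?_
      have hKU := Subgroup.map_mono (f := f) (hUmax K (normalizer_eq_top_iff.mp e) hKp)
      rw [hKdef, map_comap_eq_self_of_surjective hf,
        (Subgroup.map_eq_bot_iff U).mpr (QuotientGroup.ker_mk' U).ge] at hKU
      exact le_bot_iff.mp hKU
    exact Transfer.hasNormalPComplement_of_surjective (f.subgroupComap _)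
      (fun y => by
        obtain ⟨x, hx⟩ := hf y.1
        exact ⟨⟨x, show f x ∈ _ from hx ▸ y.2⟩, Subtype.ext hx⟩)
      (Transfer.hasNormalPComplement_of_injective (Subgroup.inclusion hloc')
        (Subgroup.inclusion_injective _) (hsub _ hPK hKn))
  obtain ⟨M, m, hm⟩ := exists_minimalFailure_of_quotient hnc hO hUp hUmax hquot hsub
  have hPn : (P : Subgroup G) ≤ normalizer (F.core D : Set G) := fun s hs =>
    F.normalizer_le D (mem_normalizer_of_strongly_closed hD hs)
  exact hm.false_of_inf_normal hp2 ((F.core_le D).trans hD.1) (hcomm D)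
    ((hm.sylow_maximal _ hPn).resolve_right htopc)
    (Transfer.hasNormalPComplement_of_injective (Subgroup.inclusion (hloc D ▸ hPn))
      (Subgroup.inclusion_injective _) h)
    (hinf P D hD (hm.stable hp2))

end CfsgLib.Complement
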