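import Cfsg.Agent.Lib.Complement.AutomizerFive

/-!
# The normal `p`-complement criterion with `N(J(S))`, `p ≥ 5`
-/

set_option autoImplicit false

namespace CfsgLib.Complement

open Subgroup

universe u

variable {p : ℕ} [hp : Fact p.Prime] {G : Type u} [Group G] [Finite G]

/-- `N(J(S))`, `J` from abelian subgroups. -/
def thompsonAFunctor (p : ℕ) [Fact p.Prime] : LocalFunctor.{u} p :=
  normalizerFunctor (fun S => Cfsg.thompsonSubgroupAOf S) (fun S => thompsonAOf_le S)
    (fun _ _ h1 => thompsonAOf_ne_bot h1) fun f _ hf => thompsonAOf_map f hf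

/-- For `p ≥ 5` a normal `p`-complement in `N(J(S))` gives one in `G`. -/
theorem hasNormalPComplement_of_thompsonA_five (hp5 : 5 ≤ p) (P : Sylow p G)
    (hJ : Cfsg.HasNormalPComplement p
      (normalizer (Cfsg.thompsonSubgroupAOf (P : Subgroup G) : Set G))) :
    Cfsg.HasNormalPComplement p G := by
  refine hasNormalPComplement_of_local (fun _ : Unit => thompsonAFunctor.{u} p) () (fun _ => rfl)
    (fun H _ _ Q U M m h => ?_) G P fun _ => hJ
  have hloc : normalizer (Cfsg.thompsonSubgroupAOf (Q : Subgroup H) : Set H) = Q := h.loc_eq ()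
  refine h.not_complement (hasNormalPComplement_of_top ?_)
  have hle : Cfsg.thompsonSubgroupAOf (Q : Subgroup H) ≤ U := by
    rw [thompsonAOf_eq]
    exact sSup_le fun A hA => h.maxAb_le hp5 hA
  have hQ : (Q : Subgroup H) = ⊤ := by
    rw [← hloc, ← thompsonAOf_eq_of_le hle h.U_le, ← top_le_iff]
    exact le_trans (normalizer_eq_top_iff.mpr h.normal_U).ge (normalizer_le_normalizer_thompsonAOf U)
  have h1 := h.local_complement ()
  rw [h.loc_eq (), hQ] at h1
  exact h1


end CfsgLib.Complement
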