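import Cfsg.Agent.Lib.Complement.SymFour
import Cfsg.Agent.Lib.Complement.FixedIndex
import Cfsg.Agent.Lib.Complement.TwoTools
import Cfsg.Agent.Lib.Complement.CenterAbelian
import Cfsg.Agent.Lib.Complement.ThompsonFive

/-!
# Thompson's criterion with `C(Z(S))` and `N(J(S))`, `p` odd or no section `S₄`
-/

set_option autoImplicit false

namespace CfsgLib.Complement

open Subgroup

universe u

variable {G : Type u} [Group G] [Finite G]

/-- Thompson: `C(Z(S))` and `N(J(S))` detect normal `p`-complements, `p` odd or no section `S₄`. -/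
theorem not_minimalFailure_thompsonA {p : ℕ} [hp : Fact p.Prime] (P : Sylow p G) (U M : Subgroup G)
    (m : ℕ) (hfree : p ≠ 2 ∨ ¬ Cfsg.Involves (Equiv.Perm (Fin 4)) G)
    (h : MinimalFailure (fun j : Bool => bif j then thompsonAFunctor.{u} p else centerFunctor.{u} p)
      P U M m) : False := by
  classical
  have hUn := h.normal_U
  have hMn := h.normal_M
  have hJloc : normalizer (Cfsg.thompsonSubgroupAOf (P : Subgroup G) : Set G) = P := h.loc_eq true
  have hZloc : centralizer (((P : Subgroup G) ⊓ centralizer ((P : Subgroup G) : Set G) :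
      Subgroup G) : Set G) = P := h.loc_eq false
  have hPtop : (P : Subgroup G) ≠ ⊤ := fun e => h.not_complement
    (hasNormalPComplement_of_top (e ▸ hJloc ▸ h.local_complement true))
  set ZU := U ⊓ centralizer (U : Set G) with hZU
  have hZUn : ZU.Normal := inferInstance
  have hZUc : ZU ≤ centralizer (ZU : Set G) :=
    inf_le_right.trans (centralizer_le inf_le_left)
  have hZP : (P : Subgroup G) ⊓ centralizer ((P : Subgroup G) : Set G) ≤ ZU :=
    have h1 := (inf_le_right : (P : Subgroup G) ⊓ centralizer ((P : Subgroup G) : Set G) ≤ _).trans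
      (centralizer_le h.U_le)
    le_inf (h1.trans h.centralizer_le) h1
  have hcop : ∀ g : G, (orderOf (g ^ p ^ (orderOf g).factorization p)).Coprime p := fun g => by
    rw [orderOf_pow' g (pow_ne_zero _ hp.out.ne_zero),
      Nat.gcd_eq_right (Nat.ordProj_dvd (orderOf g) p)]
    exact (Nat.coprime_ordCompl hp.out (orderOf_pos g).ne').symm
  have hPtriv : ∀ x ∈ (P : Subgroup G), (orderOf x).Coprime p → x = 1 := fun x hx hx' => by
    obtain ⟨k, hk⟩ := IsPGroup.iff_orderOf.mp P.2 ⟨x, hx⟩
    rw [Subgroup.orderOf_mk] at hk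
    exact orderOf_eq_one_iff.mp (Nat.eq_one_of_dvd_coprimes (hx'.pow_right k) dvd_rfl hk.dvd)
  set W := Cfsg.omegaOne p ZU with hW
  have hWn : W.Normal := omegaOne_normal ZU
  have hWel := PLocal.omegaOne_elemAb (p := p) hZUc
  have hWU : W ≤ U := (PLocal.omegaOne_le p ZU).trans inf_le_left
  have hUW : U ≤ centralizer (W : Set G) :=
    le_centralizer_iff.mp ((PLocal.omegaOne_le p ZU).trans inf_le_right)
  have hWc : ∀ x ∈ W, ∀ y ∈ W, x * y = y * x := fun x hx y hy =>
    congrArg Subtype.val (hWel.1.is_comm.comm (⟨x, hx⟩ : W) ⟨y, hy⟩)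
  have hWP : W ≤ (P : Subgroup G) := hWU.trans h.U_le
  have hWN : ∀ g : G, g ∈ normalizer (W : Set G) := fun g => by
    rw [normalizer_eq_top_iff.mpr hWn]; exact mem_top g
  -- `A` normalised by `W`
  have hex : ∃ A ∈ maxAbIn (P : Subgroup G), ¬ A ≤ U := by
    by_contra hall
    have hJU : Cfsg.thompsonSubgroupAOf (P : Subgroup G) ≤ U := by
      rw [thompsonAOf_eq]
      exact sSup_le fun A hA => by_contra fun hn => hall ⟨A, hA, hn⟩
    refine hPtop ?_
    rw [← hJloc, ← thompsonAOf_eq_of_le hJU h.U_le, ← top_le_iff]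
    exact le_trans (normalizer_eq_top_iff.mpr hUn).ge (normalizer_le_normalizer_thompsonAOf U)
  obtain ⟨A, ⟨hAm, hAU⟩, hAmax⟩ := Set.exists_max_image
    {A | A ∈ maxAbIn (P : Subgroup G) ∧ ¬ A ≤ U}
    (fun A => Nat.card ↥(A ⊓ W)) (Set.toFinite _) (by obtain ⟨A, h1, h2⟩ := hex; exact ⟨A, h1, h2⟩)
  obtain ⟨a₀, ha₀, ha₀U⟩ := SetLike.not_le_iff_exists.mp hAU
  have hWA : W ≤ normalizer (A : Set G) := by
    by_contra hWA
    have hcomm : ∀ x ∈ W, ∀ y ∈ W, x * y * x⁻¹ * y⁻¹ = 1 := fun x hx y hy => by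
      rw [hWc x hx y hy]
      group
    obtain ⟨A', hA', hA'N, hlt⟩ := abelian_replacement P.2 (Or.inr hWc) hAm hWP
      (by rw [normalizer_eq_top_iff.mpr hWn]; exact le_top)
      (fun x hx y hy z _ => by rw [hcomm x hx y hy]; exact Commute.one_right z)
      (fun x hx y hy b _ => by rw [hcomm x hx y hy]; exact Commute.one_right b) hWA
    have hA'U : A' ≤ U := by
      by_contra hn
      exact absurd (hAmax A' ⟨hA', hn⟩) (not_le.mpr hlt)
    exact hWA fun w hw => hA'N (mem_maxAbIn_of_centralizes hA' (hWP hw)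
      (mem_centralizer_iff.mpr fun b hb => (mem_centralizer_iff.mp (hUW (hA'U hb)) w hw).symm))
  have hquad : ∀ a ∈ A, ∀ w ∈ W, a * (a * w * a⁻¹ * w⁻¹) * a⁻¹ = a * w * a⁻¹ * w⁻¹ :=
    fun a ha w hw => OddLocal.quad_of_normalizes hAm.2.1 ha (hWA hw)
  set CW := centralizer (W : Set G) with hCWdef
  -- `C(W) ≤ U`
  have hCW : CW ≤ U := by
    refine h.U_max _ inferInstance fun g => ?_
    obtain ⟨g, hg⟩ := g
    refine ⟨(orderOf g).factorization p, Subtype.ext ?_⟩
    show g ^ _ = (1 : G)
    set x := g ^ p ^ (orderOf g).factorization p with hxdef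
    have hxC : x ∈ centralizer (((P : Subgroup G) ⊓ centralizer ((P : Subgroup G) : Set G) :
        Subgroup G) : Set G) := by
      rcases eq_or_ne p 2 with rfl | hp2
      · refine centralizer_le hZP ?_
        refine mem_centralizer_of_fixes_omega hZUc (h.isPGroup_U.to_le inf_le_left)
          (by rw [normalizer_eq_top_iff.mpr hZUn]; exact mem_top x) (hcop g) ?_
        intro y hy hy2
        exact (mem_centralizer_iff.mp (pow_mem hg _) y (subset_closure ⟨hy, hy2⟩))
      · refine centralizer_le hZP ?_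
        exact OddLocal.le_centralizer_of_fixes_order_p hp2 (h.isPGroup_U.to_le inf_le_left)
          (A := zpowers x) (by rw [normalizer_eq_top_iff.mpr hZUn]; exact le_top)
          (by rw [Nat.card_zpowers]; exact hcop g)
          (fun y hy hyp c hc => by
            have hcW : c ∈ CW := (zpowers_le.mpr (pow_mem hg _)) hc
            rw [← mem_centralizer_iff.mp hcW y (subset_closure ⟨hy, hyp⟩), mul_inv_cancel_right])
          (mem_zpowers x)
    exact hPtriv x (hZloc ▸ hxC) (hcop g)
  rcases eq_or_ne p 2 with rfl | hp2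
  swap
  · refine ha₀U (h.faithful a₀ (hAm.1 ha₀) fun k hk => hCW ?_)
    exact commutator_mem_centralizer_of_quadratic hp2 hWel.1 hWel.2
      (by rw [normalizer_eq_top_iff.mpr hWn]; exact le_top)
      (fun x hx y hy => hUW (h.commutator_M x hx y hy)) h.coprime_m (fun x hx => hUW (h.pow_m x hx))
      (hWN a₀) (by rw [normalizer_eq_top_iff.mpr hMn]; exact mem_top a₀) (hquad a₀ ha₀) k hk
  -- `p = 2`
  have hfree' : ¬ Cfsg.Involves (Equiv.Perm (Fin 4)) G := hfree.resolve_left (fun e => e rfl)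
  have hW2 : ∀ x ∈ W, x * x = 1 := fun x hx => by rw [← pow_two]; exact hWel.2 x hx
  have ha2 : ∀ a ∈ A, a * a ∈ CW := by
    intro a ha
    rw [mem_centralizer_iff]
    intro w hw
    set u := a * w * a⁻¹ * w⁻¹ with hu
    have huW : u ∈ W := W.mul_mem ((mem_normalizer_iff.mp (hWN a) w).mp hw) (W.inv_mem hw)
    have e : a * a * w * (a * a)⁻¹ = a * u * a⁻¹ * (u * w) := by rw [hu]; group
    rw [hquad a ha w hw, ← hu, ← mul_assoc, hW2 u huW, one_mul] at e
    exact (mul_inv_eq_iff_eq_mul.mp e).symm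
  have hAc : ∀ a ∈ A, ∀ b ∈ A, a * b = b * a := fun a ha b hb =>
    congrArg Subtype.val (hAm.2.1.is_comm.comm (⟨a, ha⟩ : A) ⟨b, hb⟩)
  -- every nontrivial subgroup moves `W` by at least twice its rank
  have hbound : ∀ B : Subgroup G, B ≤ A →
      (B ⊓ CW).relIndex B ^ 2 * Nat.card ↥(W ⊓ centralizer (B : Set G)) ≤ Nat.card W := by
    intro B
    induction hn : Nat.card B using Nat.strong_induction_on generalizing B with
    | _ n ih =>
    subst hn
    intro hBA
    by_cases hBU : B ≤ CW
    · rw [inf_eq_left.mpr hBU, relIndex_self, one_pow, one_mul]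
      exact card_le_of_le inf_le_left
    obtain ⟨a, haB, haC⟩ := SetLike.not_le_iff_exists.mp hBU
    have haA := hBA haB
    -- an element inverted by `a`
    obtain ⟨k₀, hk₀M, hk₀U, hk₀inv⟩ : ∃ k ∈ M, k ∉ U ∧ a * k * a⁻¹ * k ∈ U := by
      have haU : a ∉ U := fun e => haC (hUW e)
      have : ∃ k ∈ M, a * k * a⁻¹ * k⁻¹ ∉ U := by
        by_contra hcon
        push Not at hcon
        exact haU (h.faithful a (hAm.1 haA) hcon)
      obtain ⟨k, hkM, hk⟩ := this
      refine ⟨a * k * a⁻¹ * k⁻¹, M.mul_mem (hMn.conj_mem k hkM a) (M.inv_mem hkM), hk, ?_⟩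
      have e : a * (a * k * a⁻¹ * k⁻¹) * a⁻¹ * (a * k * a⁻¹ * k⁻¹) =
          (a * a) * k * (a * a)⁻¹ * k⁻¹ := by group
      rw [e]
      exact mul_conj_inv_mem_of_normal hUn (hCW (ha2 a haA)) k
    -- make it an eigenvector for all of `B`
    let S : G → Set G := fun k => {b | b ∈ B ∧ (b * k * b⁻¹ * k⁻¹ ∈ U ∨ b * k * b⁻¹ * k ∈ U)}
    obtain ⟨k, ⟨hkM, hkU, hkinv⟩, hkmax⟩ := Set.exists_max_image
      {k | k ∈ M ∧ k ∉ U ∧ a * k * a⁻¹ * k ∈ U} (fun k => (S k).ncard) (Set.toFinite _)
      ⟨k₀, hk₀M, hk₀U, hk₀inv⟩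
    let q := QuotientGroup.mk' U
    have hq : ∀ x y : G, q x = q y ↔ x * y⁻¹ ∈ U := fun x y => by
      rw [← div_eq_one, ← map_div, div_eq_mul_inv]
      exact QuotientGroup.eq_one_iff _
    have hq1 : ∀ x : G, q x = 1 ↔ x ∈ U := fun x => QuotientGroup.eq_one_iff x
    have hMc : ∀ x ∈ M, ∀ y ∈ M, q x * q y = q y * q x := fun x hx y hy => by
      rw [← map_mul, ← map_mul, hq, mul_inv_rev]
      simpa [mul_assoc] using h.commutator_M x hx y hy
    have hall : ∀ b ∈ B, b ∈ S k := by
      intro b hb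
      by_contra hbS
      simp only [S, Set.mem_ofPred_eq, not_and, not_or] at hbS
      obtain ⟨hb1, hb2⟩ := hbS hb
      have hkb : b * k * b⁻¹ ∈ M := hMn.conj_mem k hkM b
      set k' := k * (b * k * b⁻¹) with hk'
      have hk'M : k' ∈ M := M.mul_mem hkM hkb
      have hb2' : q b * q b * q k * (q b)⁻¹ * (q b)⁻¹ = q k := by
        rw [← map_mul, (hq1 _).mpr (hCW (ha2 b (hBA hb))), one_mul, mul_assoc, ← mul_inv_rev, ← map_mul,
          (hq1 _).mpr (hCW (ha2 b (hBA hb))), inv_one, mul_one]
      have hbk' : q b * q k' * (q b)⁻¹ = q k' := by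
        rw [hk', map_mul]
        calc q b * (q k * q (b * k * b⁻¹)) * (q b)⁻¹
            = q (b * k * b⁻¹) * (q b * q b * q k * (q b)⁻¹ * (q b)⁻¹) := by
              simp only [map_mul, map_inv]; group
          _ = q k * q (b * k * b⁻¹) := by rw [hb2', hMc _ hkb _ hkM]
      have hab : ∀ c ∈ B, q c * q b = q b * q c := fun c hc => by
        rw [← map_mul, ← map_mul, hAc c (hBA hc) b (hBA hb)]
      have hsign : ∀ c ∈ B, c ∈ S k → c ∈ S k' := by
        rintro c hc ⟨-, hc'⟩
        refine ⟨hc, ?_⟩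
        have hconj : q c * q k' * (q c)⁻¹ =
            (q c * q k * (q c)⁻¹) * (q b * (q c * q k * (q c)⁻¹) * (q b)⁻¹) := by
          rw [hk', map_mul, map_mul, map_mul, map_inv]
          calc q c * (q k * (q b * q k * (q b)⁻¹)) * (q c)⁻¹
              = (q c * q k * (q c)⁻¹) * ((q c * q b) * q k * (q c * q b)⁻¹) := by group
            _ = _ := by rw [hab c hc]; group
        rcases hc' with hc' | hc'
        · left
          have hh : q c * q k * (q c)⁻¹ = q k := by
            rw [← map_inv, ← map_mul, ← map_mul, hq]; exact hc'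
          rw [← hq, map_mul, map_mul, map_inv, hconj, hh, hk', map_mul, map_mul, map_mul, map_inv]
        · right
          have hh : q c * q k * (q c)⁻¹ = (q k)⁻¹ := by
            rw [← map_inv, ← map_inv, ← map_mul, ← map_mul, hq, inv_inv]; exact hc'
          rw [← hq1, map_mul, map_mul, map_mul, map_inv, hconj, hh]
          have hcm : (q b * q k * (q b)⁻¹) * q k = q k * (q b * q k * (q b)⁻¹) := by
            rw [← map_inv, ← map_mul, ← map_mul]
            exact hMc _ hkb _ hkM
          rw [hk', map_mul, map_mul, map_mul, map_inv,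
            show q b * (q k)⁻¹ * (q b)⁻¹ = (q b * q k * (q b)⁻¹)⁻¹ by group, ← mul_inv_rev, hcm,
            inv_mul_cancel]
      have hk'U : k' ∉ U := by
        intro e
        apply hb2
        have := hUn.conj_mem _ e k⁻¹
        simpa [hk', mul_assoc] using this
      have haS : a ∈ S k := ⟨haB, Or.inr hkinv⟩
      have hk'inv : a * k' * a⁻¹ * k' ∈ U := by
        rcases (hsign a haB haS).2 with e | e
        · exfalso
          have h1 : q a * q k' * (q a)⁻¹ = q k' := by
            rw [← map_inv, ← map_mul, ← map_mul, hq]; exact e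
          have h2 : q a * q k' * (q a)⁻¹ = (q k')⁻¹ := by
            have ha' : q a * q k * (q a)⁻¹ = (q k)⁻¹ := by
              rw [← map_inv, ← map_inv, ← map_mul, ← map_mul, hq, inv_inv]; exact hkinv
            calc q a * q k' * (q a)⁻¹
                = (q a * q k * (q a)⁻¹) * ((q a * q b) * q k * (q a * q b)⁻¹) := by
                  simp only [hk', map_mul, map_inv]; group
              _ = (q a * q k * (q a)⁻¹) * (q b * (q a * q k * (q a)⁻¹) * (q b)⁻¹) := by
                  rw [hab a haB]; group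
              _ = (q k)⁻¹ * (q b * (q k)⁻¹ * (q b)⁻¹) := by rw [ha']
              _ = (q (b * k * b⁻¹) * q k)⁻¹ := by rw [map_mul, map_mul, map_inv]; group
              _ = (q k')⁻¹ := congrArg (·⁻¹) ((hMc _ hkb _ hkM).trans (map_mul q _ _).symm)
          rw [h1, eq_inv_iff_mul_eq_one, ← map_mul, hq1] at h2
          refine hk'U ?_
          obtain ⟨j, hj⟩ : Odd m := (Nat.coprime_two_right.mp h.coprime_m)
          have h3 : (k' * k') ^ j * k' ∈ U → (k' * k') ^ j ∈ U → k' ∈ U := fun h4 h5 => by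
            simpa using U.mul_mem (U.inv_mem h5) h4
          refine h3 ?_ (U.pow_mem h2 j)
          rw [← pow_two, ← pow_mul, ← pow_succ, ← hj]
          exact h.pow_m k' hk'M
        · exact e
      refine absurd (hkmax k' ⟨hk'M, hk'U, hk'inv⟩) (not_le.mpr (Set.ncard_lt_ncard ?_ (Set.toFinite _)))
      refine ⟨fun c hc => hsign c hc.1 hc, fun hsub => ?_⟩
      have hbS' : b ∈ S k' := ⟨hb, Or.inl (by
        rw [← hq, map_mul, map_mul, map_inv]
        exact hbk')⟩
      rcases (hsub hbS').2 with e | e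
      · exact hb1 e
      · exact hb2 e
    -- prime order
    obtain ⟨r, hr, hrd⟩ := Nat.exists_prime_and_dvd (show orderOf (q k) ≠ 1 from
      fun e => hkU ((hq1 k).mp (orderOf_eq_one_iff.mp e)))
    set l := k ^ (orderOf (q k) / r) with hl
    have hql : orderOf (q l) = r := by
      rw [hl, map_pow]; exact orderOf_pow_orderOf_div (orderOf_pos _).ne' hrd
    have hlU : l ∉ U := fun e => hr.ne_one (by rw [← hql, (hq1 l).mpr e, orderOf_one])
    have hlM : l ∈ M := pow_mem hkM _
    have hlr : l ^ r ∈ U := by rw [← hq1, map_pow, ← hql]; exact pow_orderOf_eq_one _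
    have hr2 : r ≠ 2 := by
      rintro rfl
      have h2 : 2 ∣ m := by
        refine hrd.trans (orderOf_dvd_of_pow_eq_one ?_)
        rw [← map_pow, hq1]; exact h.pow_m k hkM
      exact absurd (Nat.eq_one_of_dvd_coprimes h.coprime_m h2 dvd_rfl) (by norm_num)
    have hconjl : ∀ b ∈ B, (q b * q l * (q b)⁻¹ = q l) ∨ q b * q l * (q b)⁻¹ = (q l)⁻¹ := by
      intro b hb
      rw [hl, map_pow, ← conj_pow]
      rcases (hall b hb).2 with e | e
      · left
        rw [show q b * q k * (q b)⁻¹ = q k by rw [← map_inv, ← map_mul, ← map_mul, hq]; exact e]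
      · right
        rw [show q b * q k * (q b)⁻¹ = (q k)⁻¹ by
          rw [← map_inv, ← map_inv, ← map_mul, ← map_mul, hq, inv_inv]; exact e, inv_pow]
    have hainv : q a * q l * (q a)⁻¹ = (q l)⁻¹ := by
      rw [hl, map_pow, ← conj_pow, show q a * q k * (q a)⁻¹ = (q k)⁻¹ by
        rw [← map_inv, ← map_inv, ← map_mul, ← map_mul, hq, inv_inv]; exact hkinv, inv_pow]
    have hnodd : q l ≠ (q l)⁻¹ := fun e => hr2 ((Nat.prime_dvd_prime_iff_eq hr Nat.prime_two).mp
      (hql ▸ orderOf_dvd_of_pow_eq_one (by rw [pow_two]; exact eq_inv_iff_mul_eq_one.mp e)))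
    set B₀ := B ⊓ (centralizer ({q l} : Set (G ⧸ U))).comap q with hB₀
    have haB₀ : a ∉ B₀ := fun e => by
      have h1 := mem_centralizer_singleton_iff.mp (mem_comap.mp e.2)
      refine hnodd ?_
      rw [← hainv, h1, mul_inv_cancel_right]
    have hB₀idx : B₀.relIndex B ≤ 2 := by
      rw [Subgroup.relIndex]
      refine Nat.le_of_dvd (by norm_num) ?_
      have key : ∀ b ∈ B, b ∈ B₀ ∨ b * a ∈ B₀ := by
        intro b hb
        rcases hconjl b hb with e | e
        · exact Or.inl ⟨hb, mem_comap.mpr (mem_centralizer_singleton_iff.mpr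
            (mul_inv_eq_iff_eq_mul.mp e))⟩
        · refine Or.inr ⟨B.mul_mem hb haB, mem_comap.mpr (mem_centralizer_singleton_iff.mpr
            (mul_inv_eq_iff_eq_mul.mp ?_))⟩
          calc q (b * a) * q l * (q (b * a))⁻¹ = q b * (q a * q l * (q a)⁻¹) * (q b)⁻¹ := by
                rw [map_mul]; group
            _ = (q b * q l * (q b)⁻¹)⁻¹ := by rw [hainv]; group
            _ = q l := by rw [e, inv_inv]
      have : (B₀.subgroupOf B).index = 2 := by
        rw [index_eq_two_iff_exists_notMem_and]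
        refine ⟨⟨a, haB⟩, fun e => haB₀ (mem_subgroupOf.mp e), fun b => ?_⟩
        rcases key b b.2 with e | e
        · exact Or.inr (mem_subgroupOf.mpr e)
        · exact Or.inl (mem_subgroupOf.mpr e)
      rw [this]
    have hB₀lt : Nat.card B₀ < Nat.card B := lt_of_le_of_ne (card_le_of_le inf_le_left) fun e =>
      haB₀ ((eq_of_le_of_card_ge inf_le_left e.ge).ge haB)
    have hind := ih _ hB₀lt B₀ rfl (inf_le_left.trans hBA)
    set D := W ⊓ centralizer (B₀ : Set G) with hD
    have hlD : l ∈ normalizer (D : Set G) := by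
      rw [mem_normalizer_iff_map_conj_eq]
      refine eq_of_le_of_card_ge ?_ (card_map_of_injective (MulAut.conj l).injective).ge
      rintro _ ⟨d, hd, rfl⟩
      refine ⟨(mem_normalizer_iff.mp (hWN l) d).mp hd.1, mem_centralizer_iff.mpr fun b hb => ?_⟩
      show b * (l * d * l⁻¹) = l * d * l⁻¹ * b
      have hu : l⁻¹ * b * l * b⁻¹ ∈ U := by
        rw [← hq1, map_mul, map_mul, map_mul, map_inv, map_inv, mul_assoc ((q l)⁻¹),
          mem_centralizer_singleton_iff.mp (mem_comap.mp hb.2)]
        group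
      have hdu : Commute (l⁻¹ * b * l * b⁻¹) d := (mem_centralizer_iff.mp (hUW hu) d hd.1).symm
      have hdb : Commute b d := mem_centralizer_iff.mp hd.2 b hb
      have hc : Commute (l⁻¹ * b * l) d := by
        have := hdu.mul_left hdb
        rwa [inv_mul_cancel_right] at this
      have := (hc.map (MulAut.conj l).toMonoidHom).eq
      simpa [mul_assoc] using this
    have hlC : l ^ r ∈ centralizer (D : Set G) := centralizer_le inf_le_left (hUW hlr)
    have hlinv : a * l * a⁻¹ * l ∈ centralizer (D : Set G) := by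
      refine centralizer_le inf_le_left (hUW ?_)
      rw [← hq1, map_mul, map_mul, map_mul, map_inv, hainv, inv_mul_cancel]
    have hlW : l ∉ CW := fun e => hlU (hCW e)
    have hr3 : r ≠ 3 := by
      rintro rfl
      exact hfree' (involves_symFour hWc hW2 (hWN a) (hWN l) (hUW hlr) hlW (ha2 a haA) (hUW (by
        rw [← hq1, map_mul, map_mul, map_mul, map_inv, hainv, inv_mul_cancel])))
    have hlD' : l ∉ centralizer (D : Set G) := by
      intro hlD'
      -- a `B₀`-fixed commutator
      obtain ⟨w, hw, hwl⟩ : ∃ w ∈ W, l * w * l⁻¹ ≠ w := by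
        by_contra hcon
        push Not at hcon
        exact hlW (mem_centralizer_iff.mpr fun w hw => (mul_inv_eq_iff_eq_mul.mp (hcon w hw)).symm)
      refine fixed_point_contra hWc hW2 (B := B₀) (fun g => hWN g) hr hr2 (hUW hlr) hw hwl
        (fun b hb => ⟨?_, hUW ?_⟩) hlD'
      · obtain ⟨j, hj⟩ := P.2 ⟨b, hAm.1 (hBA hb.1)⟩
        exact ⟨j, congrArg Subtype.val hj⟩
      · rw [← hq1, map_mul, map_mul, map_mul, map_inv, map_inv, mul_assoc ((q l)⁻¹),
          mem_centralizer_singleton_iff.mp (mem_comap.mp hb.2)]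
        group
    have h4 := four_mul_card_fixed_le (D := D) (fun x hx y hy => hWc x hx.1 y hy.1)
      (fun x hx => hW2 x hx.1) (a := a) hlD hr hr3 hr2 hlC hlD' hlinv
    have hDa : W ⊓ centralizer (B : Set G) ≤ D ⊓ centralizer ({a} : Set G) :=
      le_inf (inf_le_inf_left W (centralizer_le inf_le_left))
        (inf_le_right.trans (centralizer_le (Set.singleton_subset_iff.mpr haB)))
    have hrel : (B ⊓ CW).relIndex B ≤ 2 * (B₀ ⊓ CW).relIndex B₀ := by
      have hle : B ⊓ CW ≤ B₀ := fun b hb => ⟨hb.1, mem_comap.mpr (by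
        rw [(hq1 b).mpr (hCW hb.2)]; exact one_mem _)⟩
      rw [← relIndex_mul_relIndex (B ⊓ CW) B₀ B hle inf_le_left, mul_comm,
        show B ⊓ CW = B₀ ⊓ CW from le_antisymm (le_inf hle inf_le_right) (inf_le_inf_right CW inf_le_left)]
      exact Nat.mul_le_mul hB₀idx le_rfl
    calc (B ⊓ CW).relIndex B ^ 2 * Nat.card ↥(W ⊓ centralizer (B : Set G))
        ≤ (2 * (B₀ ⊓ CW).relIndex B₀) ^ 2 * Nat.card ↥(D ⊓ centralizer ({a} : Set G)) :=
          Nat.mul_le_mul (Nat.pow_le_pow_left hrel 2) (card_le_of_le hDa)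
      _ = (B₀ ⊓ CW).relIndex B₀ ^ 2 * (4 * Nat.card ↥(D ⊓ centralizer ({a} : Set G))) := by ring
      _ ≤ (B₀ ⊓ CW).relIndex B₀ ^ 2 * Nat.card D := Nat.mul_le_mul le_rfl h4
      _ ≤ Nat.card W := hind
  -- the competitor `(A ⊓ C(W)) W`
  have hb := hbound A le_rfl
  set A₀ := A ⊓ CW with hA₀
  have hel : IsMulCommutative ↥(A₀ ⊔ W) := by
    rw [← le_centralizer_iff_isMulCommutative]
    have h1 : A₀ ≤ centralizer (W : Set G) := inf_le_right
    refine sup_le ?_ ?_
    · rw [le_centralizer_iff]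
      exact sup_le (fun x hx => mem_centralizer_iff.mpr fun y hy => hAc y hy.1 x hx.1)
        (le_centralizer_iff.mp h1)
    · rw [le_centralizer_iff]
      exact sup_le h1 (fun x hx => mem_centralizer_iff.mpr fun y hy => hWc y hy x hx)
  have hmax := hAm.2.2 _ (sup_le (inf_le_left.trans hAm.1) hWP) hel
  have hprod := CfsgLib.PLocal.card_mul_le_card_sup_mul_inf A₀ W
  have hfix : Nat.card ↥(A₀ ⊓ W) ≤ Nat.card ↥(W ⊓ centralizer (A : Set G)) :=
    card_le_of_le (le_inf inf_le_right fun x hx =>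
      mem_centralizer_iff.mpr fun b hb => hAc b hb x hx.1.1)
  have hAeq : Nat.card A₀ * A₀.relIndex A = Nat.card A := by
    rw [Subgroup.relIndex, ← Nat.card_congr (subgroupOfEquivOfLe (inf_le_left : A₀ ≤ A)).toEquiv]
    exact card_mul_index _
  have hi : 2 ≤ A₀.relIndex A := by
    have h0 : A₀.relIndex A ≠ 0 := index_ne_zero_of_finite
    have h1 : A₀.relIndex A ≠ 1 := fun e => ha₀U (hCW ((relIndex_eq_one.mp e) ha₀).2)
    omega
  set i := A₀.relIndex A
  set f := Nat.card ↥(W ⊓ centralizer (A : Set G))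
  have h1 : Nat.card A₀ * Nat.card W ≤ (Nat.card A₀ * i) * f := by
    rw [hAeq]; exact hprod.trans (Nat.mul_le_mul hmax hfix)
  have h2 : Nat.card W ≤ i * f := Nat.le_of_mul_le_mul_left (by rwa [mul_assoc] at h1) Nat.card_pos
  have hf : 0 < f := Nat.card_pos
  have hif : 0 < i * f := Nat.mul_pos (by omega) hf
  nlinarith

/-- Thompson's criterion with `J` from abelian subgroups. -/
theorem hasNormalPComplement_of_thompsonA {p : ℕ} [hp : Fact p.Prime]
    (hfree : p ≠ 2 ∨ ¬ Cfsg.Involves (Equiv.Perm (Fin 4)) G) (P : Sylow p G)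
    (hJ : Cfsg.HasNormalPComplement p
      (normalizer (Cfsg.thompsonSubgroupAOf (P : Subgroup G) : Set G)))
    (hZ : Cfsg.HasNormalPComplement p (centralizer (((P : Subgroup G) ⊓
      centralizer ((P : Subgroup G) : Set G) : Subgroup G) : Set G))) :
    Cfsg.HasNormalPComplement p G :=
  hasNormalPComplement_of_local_hered
    (fun j : Bool => bif j then thompsonAFunctor.{u} p else centerFunctor.{u} p) true (fun _ => rfl)
    (fun H _ => p ≠ 2 ∨ ¬ Cfsg.Involves (Equiv.Perm (Fin 4)) H)
    (fun H hH => hH.imp_right fun hn hi => hn (involves_of_subgroup hi))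
    (fun N _ hH => hH.imp_right fun hn hi => hn (involves_of_quotient hi))
    (fun H _ _ Q U M m hPr h => not_minimalFailure_thompsonA Q U M m hPr h) G P hfree
    (fun j => match j with
      | true => hJ
      | false => hZ)

end CfsgLib.Complement
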