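import Mathlib.Algebra.CharP.Lemmas
import Mathlib.Algebra.Ring.Subring.Basic
import Mathlib.RingTheory.Nilpotent.Lemmas
import Mathlib.RingTheory.Artinian.Ring
import Mathlib.Data.Nat.Choose.Sum
import Mathlib.Tactic.Ring

/-!
# Conjugation by a unipotent of degree less than `p` on a commutative semisimple subring
-/

set_option autoImplicit false

namespace CfsgLib.Complement

/-- Dedekind's elimination: a linear relation between powers of `A` with coefficients in `S`. -/
theorem coeff_mul_prod_eq_zero {R : Type*} [Ring R] {S : Type*} [CommRing S] (e : S →+* R)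
    (σ : S →+* S) {A : R} (hσ : ∀ (i : ℕ) (s : S), A ^ i * e s = e (σ^[i] s) * A ^ i) (r : S) :
    ∀ (n : ℕ) (c : ℕ → S), ∑ i ∈ Finset.range (n + 1), e (c i) * A ^ i = 0 →
      e (c 0 * ∏ j ∈ Finset.range n, (r - σ^[j + 1] r)) = 0 := by
  intro n
  induction n with
  | zero => intro c h; simpa using h
  | succ n ih =>
    intro c h
    have h' : ∑ i ∈ Finset.range (n + 1), e (c i * (σ^[i] r - σ^[n + 1] r)) * A ^ i = 0 := by
      have h1 : (∑ i ∈ Finset.range (n + 1 + 1), e (c i) * A ^ i) * e r -
          e (σ^[n + 1] r) * ∑ i ∈ Finset.range (n + 1 + 1), e (c i) * A ^ i = 0 := by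
        rw [h]; simp
      rw [Finset.sum_mul, Finset.mul_sum, ← Finset.sum_sub_distrib, Finset.sum_range_succ] at h1
      have he : ∀ i, e (c i) * A ^ i * e r - e (σ^[n + 1] r) * (e (c i) * A ^ i) =
          e (c i * (σ^[i] r - σ^[n + 1] r)) * A ^ i := by
        intro i
        rw [mul_assoc, hσ, ← mul_assoc, ← mul_assoc, ← sub_mul, ← map_mul, ← map_mul, ← map_sub,
          mul_comm (σ^[n + 1] r), mul_sub]
      rw [Finset.sum_congr rfl fun i _ => he i, he, sub_self, mul_zero, map_zero, zero_mul,
        add_zero] at h1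
      exact h1
    have hk := ih (fun i => c i * (σ^[i] r - σ^[n + 1] r)) h'
    simp only [Function.iterate_zero, id_eq] at hk
    rw [Finset.prod_range_succ, ← hk]
    congr 1
    ring

/-- In a commutative subring all of whose elements are fixed by a power map, conjugation by `A`
with `(A - 1) ^ (p - 1) = 0` is trivial. -/
theorem conj_unipotent_eq_self {R : Type*} [Ring R] [Finite R] {p : ℕ} [hp : Fact p.Prime] [CharP R p]
    (S : Subring R) (hcomm : ∀ x ∈ S, ∀ y ∈ S, x * y = y * x) {N : ℕ} (hN : 2 ≤ N)
    (hpow : ∀ x ∈ S, x ^ N = x) {A B : R} (hAB : A * B = 1) (hBA : B * A = 1)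
    (hA : (A - 1) ^ (p - 1) = 0) (hS : ∀ x ∈ S, A * x * B ∈ S) {r : R} (hr : r ∈ S) :
    A * r * B = r := by
  classical
  let _ : CommRing S := { (inferInstance : Ring S) with
    mul_comm := fun x y => Subtype.ext (hcomm x x.2 y y.2) }
  let σ : S →+* S :=
    { toFun := fun s => ⟨A * s * B, hS s s.2⟩
      map_one' := Subtype.ext (by simpa using hAB)
      map_mul' := fun s t => Subtype.ext (by
        show A * (s * t : R) * B = A * s * B * (A * t * B)
        simp only [mul_assoc]
        rw [← mul_assoc B A, hBA, one_mul])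
      map_zero' := Subtype.ext (by simp)
      map_add' := fun s t => Subtype.ext (by
        show A * (s + t : R) * B = A * s * B + A * t * B
        rw [mul_add, add_mul]) }
  have hσ : ∀ (i : ℕ) (s : S), A ^ i * (s : R) = ((σ^[i] s : S) : R) * A ^ i := by
    intro i
    induction i with
    | zero => intro s; simp
    | succ i ih =>
      intro s
      rw [Function.iterate_succ_apply, pow_succ, mul_assoc (A ^ i), show A * (s : R) = (σ s : R) * A by
        show _ = A * s * B * A
        rw [mul_assoc _ B A, hBA, mul_one], ← mul_assoc, ih, mul_assoc]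
  have hAp : A ^ p = 1 := by
    have h1 : (A - 1) ^ p = 0 := by
      rw [show p = p - 1 + 1 by have := hp.out.one_lt; omega, pow_succ, hA, zero_mul]
    rw [sub_pow_char_of_commute p (Commute.one_right A), one_pow, sub_eq_zero] at h1
    exact h1
  have hσp : ∀ s : S, σ^[p] s = s := fun s => Subtype.ext (by
    have := hσ p s
    rw [hAp, one_mul, mul_one] at this
    exact this.symm)
  -- the product identity
  have hprod : ∀ s : S, ∀ m : Ideal S, m.IsPrime → ∃ j, j + 1 < p ∧ s - σ^[j + 1] s ∈ m := by
    intro s m hm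
    let c : ℕ → S := fun i => ((-1) ^ (p - 1 - i) * ((p - 1).choose i) : S)
    have hsum : ∑ i ∈ Finset.range (p - 1 + 1), (c i : R) * A ^ i = 0 := by
      rw [← hA, sub_eq_add_neg, (Commute.one_right A).neg_right.add_pow]
      refine Finset.sum_congr rfl fun i _ => ?_
      simp only [c, Subring.coe_mul, SubmonoidClass.coe_pow, NegMemClass.coe_neg, OneMemClass.coe_one,
        SubringClass.coe_natCast]
      rw [mul_assoc ((-1 : R) ^ _), (Nat.cast_commute _ (A ^ i)).eq, ← mul_assoc,
        ((Commute.neg_one_left (A ^ i)).pow_left _).eq]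
    have h := coeff_mul_prod_eq_zero S.subtype σ (fun i u => hσ i u) s (p - 1) c hsum
    have hz : c 0 * ∏ j ∈ Finset.range (p - 1), (s - σ^[j + 1] s) ∈ m := by
      rw [show c 0 * ∏ j ∈ Finset.range (p - 1), (s - σ^[j + 1] s) = 0 from Subtype.ext h]; exact m.zero_mem
    rcases hm.mem_or_mem hz with h0 | h0
    · exfalso
      simp only [c, Nat.choose_zero_right, Nat.cast_one, mul_one] at h0
      exact hm.ne_top (Ideal.eq_top_of_isUnit_mem _ h0 ((isUnit_one.neg).pow _))
    · obtain ⟨j, hj, hjm⟩ := hm.prod_mem_iff.mp h0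
      exact ⟨j, by rw [Finset.mem_range] at hj; omega, hjm⟩
  have hiter : ∀ {j : ℕ}, 0 < j → j < p → ∃ k, ∀ s : S, σ^[j * k] s = σ s := by
    intro j hj0 hj
    obtain ⟨k, -, hk⟩ := Nat.exists_mul_mod_eq_one_of_coprime
      ((hp.out.coprime_iff_not_dvd.mpr fun h => absurd (Nat.le_of_dvd hj0 h) (not_le.mpr hj)).symm)
      hp.out.one_lt
    refine ⟨k, fun s => ?_⟩
    rw [← Nat.div_add_mod (j * k) p, hk, Function.iterate_add_apply, Function.iterate_mul]
    have : ∀ t : ℕ, ∀ u : S, (σ^[p])^[t] u = u := by
      intro t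
      induction t with
      | zero => exact fun u => rfl
      | succ t ih => intro u; rw [Function.iterate_succ_apply, hσp, ih]
    rw [this]
    rfl
  -- every prime is `σ`-invariant
  have hinv : ∀ m : Ideal S, m.IsPrime → m.comap σ = m := by
    intro m hm
    by_contra hne
    let Q := (Set.toFinite {m' : Ideal S | m'.IsPrime ∧ m' ≠ m}).toFinset
    have hnot : ¬ Q.inf id ≤ m := by
      intro hle
      obtain ⟨m', hm', hle'⟩ := (Ideal.IsPrime.inf_le' hm).mp hle
      rw [Set.Finite.mem_toFinset] at hm'
      have := hm'.1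
      have : Finite S := inferInstance
      exact hm'.2 ((IsArtinianRing.isMaximal_of_isPrime m').eq_of_le hm.ne_top hle')
    obtain ⟨s, hsQ, hsm⟩ := SetLike.not_le_iff_exists.mp hnot
    obtain ⟨j, hj, hjm⟩ := hprod s m hm
    have hσs : σ^[j + 1] s ∉ m := fun h => hsm (by simpa using m.add_mem hjm h)
    have hmj : (m.comap (σ ^ (j + 1))) = m := by
      by_contra h
      have : (m.comap (σ ^ (j + 1))).IsPrime := Ideal.IsPrime.comap _
      have hmem : m.comap (σ ^ (j + 1)) ∈ Q := by
        rw [Set.Finite.mem_toFinset]; exact ⟨this, h⟩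
      have := Finset.inf_le (f := id) hmem hsQ
      rw [id_eq, Ideal.mem_comap, RingHom.coe_pow] at this
      exact hσs this
    obtain ⟨k, hk⟩ := hiter (Nat.succ_pos j) hj
    apply hne
    ext x
    rw [Ideal.mem_comap, ← hk x, Function.iterate_mul]
    have : ∀ t : ℕ, ∀ u : S, ((σ^[j + 1])^[t] u ∈ m ↔ u ∈ m) := by
      intro t
      induction t with
      | zero => exact fun u => Iff.rfl
      | succ t ih =>
        intro u
        rw [Function.iterate_succ_apply, ih]
        conv_rhs => rw [← hmj]
        rw [Ideal.mem_comap, RingHom.coe_pow]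
    exact this k x
  -- so `σ` is trivial
  set d := σ ⟨r, hr⟩ - ⟨r, hr⟩ with hd
  have hd0 : d = 0 := by
    have hnil : IsNilpotent d := by
      rw [← mem_nilradical, nilradical_eq_sInf]
      rw [Ideal.mem_sInf]
      intro m hm
      obtain ⟨j, hj, hjm⟩ := hprod ⟨r, hr⟩ m hm
      obtain ⟨k, hk⟩ := hiter (Nat.succ_pos j) hj
      rw [hd, ← hk, Function.iterate_mul]
      have hstep : ∀ t : ℕ, ∀ u : S, u ∈ m → σ^[t] u ∈ m := by
        intro t
        induction t with
        | zero => exact fun u hu => hu
        | succ t ih =>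
          intro u hu
          rw [Function.iterate_succ_apply]
          refine ih _ ?_
          rw [← Ideal.mem_comap, hinv m hm]
          exact hu
      have : ∀ t : ℕ, (σ^[j + 1])^[t] ⟨r, hr⟩ - ⟨r, hr⟩ ∈ m := by
        intro t
        induction t with
        | zero => simp
        | succ t ih =>
          rw [Function.iterate_succ_apply']
          have h1 := hstep (j + 1) _ ih
          rw [← RingHom.coe_pow, map_sub, RingHom.coe_pow] at h1
          have h2 := m.sub_mem h1 hjm
          rwa [sub_sub_sub_cancel_right] at h2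
      exact this k
    obtain ⟨n, hn⟩ := hnil
    have hNn : ∀ t : ℕ, d ^ N ^ t = d := by
      intro t
      induction t with
      | zero => simp
      | succ t ih =>
        rw [pow_succ, pow_mul, ih]
        exact Subtype.ext (hpow _ d.2)
    rw [← hNn n]
    exact pow_eq_zero_of_le (Nat.lt_pow_self hN).le hn
  exact congrArg Subtype.val (sub_eq_zero.mp hd0)

end CfsgLib.Complement
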